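import Mathlib.GroupTheory.Transfer
import Mathlib.Algebra.Group.Subgroup.Finite
import Mathlib.Data.Int.Order.Units
import Mathlib.Algebra.BigOperators.Group.Finset.Basic
import Mathlib.GroupTheory.Index

/-!
A sign character of a subgroup and an involution: the transfer is read off from the number of
conjugates of the involution in the subgroup with negative sign.
-/

set_option autoImplicit false
set_option linter.unusedSectionVars false

namespace Cfsg.Agent.SevenInv

open Subgroup MulAction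

variable {G : Type*} [Group G] [Finite G]

/-- A nontrivial sign character gives a subgroup of index two. -/
theorem index_two_of_sign (χ : G →* ℤˣ) {g : G} (hg : χ g = -1) : ∃ H : Subgroup G, H.index = 2 := by
  refine ⟨χ.ker, ?_⟩
  rw [Subgroup.index_ker]
  have hr : χ.range = ⊤ := by
    refine eq_top_iff.2 fun u _ => ?_
    rcases Int.units_eq_one_or u with rfl | rfl
    · exact one_mem _
    · exact ⟨g, hg⟩
  rw [hr, Subgroup.card_top, Nat.card_eq_fintype_card]
  rfl

variable {H : Subgroup G} (φ : H →* ℤˣ) (x : G)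

/-- The conjugates of `x` in `H` of sign `-1`. -/
def negConj : Set G := {y | IsConj x y ∧ ∃ hy : y ∈ H, φ ⟨y, hy⟩ = -1}

/-- The fixed cosets of negative sign. -/
def negFix : Set (G ⧸ H) :=
  {c | ∃ hc : c.out⁻¹ * x * c.out ∈ H, φ ⟨_, hc⟩ = -1}

theorem neg_congr {g : G} {a : G} (ha : a ∈ H) :
    (∃ hy : g⁻¹ * x * g ∈ H, φ ⟨_, hy⟩ = -1) ↔
      ∃ hy : (g * a)⁻¹ * x * (g * a) ∈ H, φ ⟨_, hy⟩ = -1 := by
  have key : ∀ (u v b : G) (hb : b ∈ H), v = b⁻¹ * u * b →
      (∃ hy : u ∈ H, φ ⟨u, hy⟩ = -1) → ∃ hy : v ∈ H, φ ⟨v, hy⟩ = -1 := by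
    rintro u v b hb rfl ⟨hy, hv⟩
    refine ⟨mul_mem (mul_mem (inv_mem hb) hy) hb, ?_⟩
    have e : (⟨b⁻¹ * u * b, mul_mem (mul_mem (inv_mem hb) hy) hb⟩ : H) =
        (⟨b, hb⟩ : H)⁻¹ * ⟨u, hy⟩ * ⟨b, hb⟩ := rfl
    rw [e, map_mul, map_mul, map_inv, hv]
    rcases Int.units_eq_one_or (φ ⟨b, hb⟩) with h | h <;> rw [h] <;> rfl
  constructor
  · exact key _ _ a ha (by group)
  · exact key _ _ a⁻¹ (inv_mem ha) (by group)

/-- The double count. -/
theorem card_negFix_mul :
    Nat.card (negFix φ x) * Nat.card H =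
      Nat.card (negConj φ x) * Nat.card (centralizer ({x} : Set G)) := by
  classical
  set S : Set G := {g | ∃ hy : g⁻¹ * x * g ∈ H, φ ⟨_, hy⟩ = -1} with hS
  have hmem : ∀ g : G, ((g : G ⧸ H) ∈ negFix φ x) ↔ g ∈ S := by
    intro g
    obtain ⟨a, ha⟩ := QuotientGroup.mk_out_eq_mul H g
    show (∃ hc : (g : G ⧸ H).out⁻¹ * x * (g : G ⧸ H).out ∈ H, φ ⟨_, hc⟩ = -1) ↔ _
    constructor
    · rintro ⟨hc, hv⟩
      exact (neg_congr φ x a.2).2 (by
        have : ∃ hc : (g : G ⧸ H).out⁻¹ * x * (g : G ⧸ H).out ∈ H, φ ⟨_, hc⟩ = -1 := ⟨hc, hv⟩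
        rwa [ha] at this)
    · intro h
      rw [ha]
      exact (neg_congr φ x a.2).1 h
  have e1 : S ≃ negFix φ x × H :=
    { toFun := fun g => (⟨(g.1 : G ⧸ H), (hmem g.1).2 g.2⟩,
        ⟨(g.1 : G ⧸ H).out⁻¹ * g.1, QuotientGroup.eq.1 (QuotientGroup.out_eq' _)⟩)
      invFun := fun p => ⟨p.1.1.out * p.2.1, (hmem _).1 (by
        rw [QuotientGroup.mk_mul_of_mem _ p.2.2, QuotientGroup.out_eq']; exact p.1.2)⟩
      left_inv := fun g => Subtype.ext (mul_inv_cancel_left _ _)
      right_inv := fun p => by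
        have hm : ((p.1.1.out * p.2.1 : G) : G ⧸ H) = p.1.1 := by
          rw [QuotientGroup.mk_mul_of_mem _ p.2.2, QuotientGroup.out_eq']
        refine Prod.ext (Subtype.ext hm) (Subtype.ext ?_)
        show (_ : G ⧸ H).out⁻¹ * (p.1.1.out * p.2.1) = p.2.1
        rw [hm, inv_mul_cancel_left] }
  have hpick : ∀ y : negConj φ x, ∃ g : G, g⁻¹ * x * g = y.1 := by
    intro y
    obtain ⟨g, hg⟩ := isConj_iff.1 y.2.1
    exact ⟨g⁻¹, by rw [inv_inv]; exact hg⟩
  choose pick hp using hpick
  have e2 : S ≃ negConj φ x × centralizer ({x} : Set G) :=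
    { toFun := fun g =>
        let y : negConj φ x := ⟨g.1⁻¹ * x * g.1, isConj_iff.2 ⟨g.1⁻¹, by rw [inv_inv]⟩, g.2⟩
        (y, ⟨g.1 * (pick y)⁻¹, mem_centralizer_singleton_iff.2 (by
          have h := hp y
          have h' : (pick y)⁻¹ * x * pick y = g.1⁻¹ * x * g.1 := h
          calc g.1 * (pick y)⁻¹ * x = g.1 * ((pick y)⁻¹ * x * pick y) * (pick y)⁻¹ := by group
            _ = g.1 * (g.1⁻¹ * x * g.1) * (pick y)⁻¹ := by rw [h']
            _ = x * (g.1 * (pick y)⁻¹) := by group)⟩)
      invFun := fun p => ⟨p.2.1 * pick p.1, by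
        have hc := mem_centralizer_singleton_iff.1 p.2.2
        have e : (p.2.1 * pick p.1)⁻¹ * x * (p.2.1 * pick p.1) = p.1.1 := by
          rw [← hp p.1]
          calc (p.2.1 * pick p.1)⁻¹ * x * (p.2.1 * pick p.1)
              = (pick p.1)⁻¹ * (p.2.1⁻¹ * (x * p.2.1)) * pick p.1 := by group
            _ = _ := by rw [← hc, inv_mul_cancel_left]
        show ∃ hy : (p.2.1 * pick p.1)⁻¹ * x * (p.2.1 * pick p.1) ∈ H, φ ⟨_, hy⟩ = -1
        rw [e]; exact p.1.2.2⟩
      left_inv := fun g => Subtype.ext (inv_mul_cancel_right _ _)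
      right_inv := fun p => by
        have hc := mem_centralizer_singleton_iff.1 p.2.2
        have e : (p.2.1 * pick p.1)⁻¹ * x * (p.2.1 * pick p.1) = p.1.1 := by
          rw [← hp p.1]
          calc (p.2.1 * pick p.1)⁻¹ * x * (p.2.1 * pick p.1)
              = (pick p.1)⁻¹ * (p.2.1⁻¹ * (x * p.2.1)) * pick p.1 := by group
            _ = _ := by rw [← hc, inv_mul_cancel_left]
        refine Prod.ext (Subtype.ext e) (Subtype.ext ?_)
        have key : ∀ y, y = p.1 → p.2.1 * pick p.1 * (pick y)⁻¹ = p.2.1 := by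
          rintro _ rfl; exact mul_inv_cancel_right _ _
        exact key _ (Subtype.ext e) }
  rw [← Nat.card_prod, ← Nat.card_prod]
  exact Nat.card_congr (e1.symm.trans e2)

/-- The transfer of a sign character at an involution. -/
theorem transfer_involution (hx : x ^ 2 = 1) :
    MonoidHom.transfer φ x = (-1) ^ Nat.card (negFix φ x) := by
  classical
  haveI : Fintype (G ⧸ H) := Fintype.ofFinite _
  haveI : Fintype (Quotient (orbitRel (zpowers x) (G ⧸ H))) := Fintype.ofFinite _
  rw [MonoidHom.transfer_eq_prod_quotient_orbitRel_zpowers_quot]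
  set f : Quotient (orbitRel (zpowers x) (G ⧸ H)) → ℤˣ := fun q =>
    φ ⟨q.out.out⁻¹ * x ^ Function.minimalPeriod (x • ·) q.out * q.out.out,
      QuotientGroup.out_conj_pow_minimalPeriod_mem H x q.out⟩ with hf
  have hval : ∀ q, f q = if q.out ∈ negFix φ x then -1 else 1 := by
    intro q
    have hd : Function.minimalPeriod (x • ·) q.out ∣ 2 := by
      rw [← MulAction.pow_smul_eq_iff_minimalPeriod_dvd, hx, one_smul]
    rcases (Nat.dvd_prime Nat.prime_two).1 hd with e | e
    · split_ifs with h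
      · obtain ⟨hc, hv⟩ := h
        rw [← hv, hf]; simp only [e, pow_one]
      · rcases Int.units_eq_one_or (f q) with u | u
        · exact u
        · refine absurd ?_ h
          have hm := QuotientGroup.out_conj_pow_minimalPeriod_mem H x q.out
          rw [e, pow_one] at hm
          exact ⟨hm, by rw [← u, hf]; simp only [e, pow_one]⟩
    · have h1 : f q = 1 := by
        rw [hf]
        simp only [e, hx, mul_one, inv_mul_cancel]
        exact map_one φ
      rw [h1, if_neg]
      rintro ⟨hc, -⟩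
      have hfix : x • q.out = q.out := by
        conv_lhs => rw [← QuotientGroup.out_eq' q.out]
        conv_rhs => rw [← QuotientGroup.out_eq' q.out]
        rw [MulAction.Quotient.smul_mk, QuotientGroup.eq, smul_eq_mul, ← Subgroup.inv_mem_iff]
        convert hc using 1
        group
      have h2 := Function.minimalPeriod_eq_one_iff_isFixedPt (f := (x • ·)) (x := q.out) |>.2 hfix
      omega
  change ∏ q, f q = _
  rw [Finset.prod_congr rfl fun q _ => hval q, Finset.prod_ite, Finset.prod_const_one, mul_one,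
    Finset.prod_const]
  congr 1
  rw [Nat.card_eq_fintype_card, ← Set.toFinset_card]
  refine Finset.card_bij (fun q _ => q.out) (fun q hq => ?_) (fun a _ b _ h => ?_) (fun c hc => ?_)
  · exact Set.mem_toFinset.2 (Finset.mem_filter.1 hq).2
  · rw [← Quotient.out_eq a, ← Quotient.out_eq b, h]
  · have hc' := Set.mem_toFinset.1 hc
    obtain ⟨hm, -⟩ := id hc'
    have hfix : x • c = c := by
      conv_lhs => rw [← QuotientGroup.out_eq' c]
      conv_rhs => rw [← QuotientGroup.out_eq' c]
      rw [MulAction.Quotient.smul_mk, QuotientGroup.eq, smul_eq_mul, ← Subgroup.inv_mem_iff]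
      convert hm using 1
      group
    have hout : (Quotient.mk'' c : Quotient (orbitRel (zpowers x) (G ⧸ H))).out = c := by
      obtain ⟨⟨_, i, rfl⟩, hi⟩ := Quotient.eq''.1 (Quotient.out_eq'
        (Quotient.mk'' c : Quotient (orbitRel (zpowers x) (G ⧸ H))))
      have hst : x ∈ MulAction.stabilizer G c := hfix
      exact hi.symm.trans (MulAction.mem_stabilizer_iff.1 (Subgroup.zpow_mem _ hst i))
    exact ⟨Quotient.mk'' c, Finset.mem_filter.2 ⟨Finset.mem_univ _, hout.symm ▸ hc'⟩, hout⟩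

/-- If the normalised count is odd, there is a subgroup of index two. -/
theorem index_two_of_count (hx : x ^ 2 = 1) {M : ℕ} (hM : Odd M)
    (hcount : Nat.card (negConj φ x) * Nat.card (centralizer ({x} : Set G)) = M * Nat.card H) :
    ∃ H' : Subgroup G, H'.index = 2 := by
  refine index_two_of_sign (MonoidHom.transfer φ) (g := x) ?_
  rw [transfer_involution φ x hx]
  rw [← card_negFix_mul] at hcount
  rw [Nat.eq_of_mul_eq_mul_right Nat.card_pos hcount, hM.neg_one_pow]

end Cfsg.Agent.SevenInv
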