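import Mathlib.GroupTheory.Perm.Sign
import Mathlib.GroupTheory.Perm.Fin
import Mathlib.GroupTheory.Perm.Closure
import Mathlib.GroupTheory.SpecificGroups.Alternating

/-!
Every injective endomorphism of the symmetric group of degree five is inner.
-/

set_option autoImplicit false
set_option maxRecDepth 100000
set_option synthInstance.maxSize 2000
set_option synthInstance.maxHeartbeats 2000000

namespace Cfsg.Agent.SevenInv.AutFive

open Equiv

abbrev P5 : Type := Perm (Fin 5)

theorem odd_invol : ∀ x : P5, x * x = 1 → Perm.sign x = -1 → ∃ i j : Fin 5, i ≠ j ∧ x = swap i j := by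
  decide +kernel

theorem step_one : ∀ i j : Fin 5, i ≠ j → ∃ k : P5, k * swap i j * k⁻¹ = swap 0 1 := by
  decide +kernel

theorem step_two : ∀ i j : Fin 5, i ≠ j → swap i j * swap 0 1 ≠ swap 0 1 * swap i j →
    ∃ k : P5, k * swap 0 1 * k⁻¹ = swap 0 1 ∧ k * swap i j * k⁻¹ = swap 1 2 := by
  decide +kernel

theorem step_three : ∀ i j : Fin 5, i ≠ j → swap i j * swap 0 1 = swap 0 1 * swap i j →
    swap i j * swap 1 2 ≠ swap 1 2 * swap i j → swap i j ≠ swap 0 1 →
    ∃ k : P5, k * swap 0 1 * k⁻¹ = swap 0 1 ∧ k * swap 1 2 * k⁻¹ = swap 1 2 ∧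
      k * swap i j * k⁻¹ = swap 2 3 := by
  decide +kernel

theorem step_four : ∀ i j : Fin 5, i ≠ j → swap i j * swap 0 1 = swap 0 1 * swap i j →
    swap i j * swap 1 2 = swap 1 2 * swap i j → swap i j * swap 2 3 ≠ swap 2 3 * swap i j →
    swap i j = swap (3 : Fin 5) 4 := by
  decide +kernel

theorem sign_map {φ : P5 →* P5} (hφ : Function.Injective φ) (σ : P5) :
    Perm.sign (φ σ) = Perm.sign σ := by
  set f : P5 →* ℤˣ := Perm.sign.comp φ with hf
  have hs : Function.Surjective f := by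
    intro u
    rcases Int.units_eq_one_or u with rfl | rfl
    · exact ⟨1, map_one _⟩
    · by_contra hcon
      push Not at hcon
      have hall : ∀ x, φ x ∈ alternatingGroup (Fin 5) := fun x => by
        rw [Perm.mem_alternatingGroup]
        exact (Int.units_eq_one_or _).resolve_right (hcon x)
      have h := Nat.card_le_card_of_injective (fun x => (⟨φ x, hall x⟩ : alternatingGroup (Fin 5)))
        fun a b h => hφ (congrArg Subtype.val h)
      rw [nat_card_alternatingGroup, Nat.card_perm, Nat.card_eq_fintype_card, Fintype.card_fin] at h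
      norm_num [Nat.factorial] at h
  exact DFunLike.congr_fun (Perm.eq_sign_of_surjective_hom hs) σ

theorem swap_map {φ : P5 →* P5} (hφ : Function.Injective φ) {i j : Fin 5} (h : i ≠ j) :
    ∃ k l : Fin 5, k ≠ l ∧ φ (swap i j) = swap k l :=
  odd_invol _ (by rw [← map_mul, swap_mul_self, map_one])
    (by rw [sign_map hφ, Perm.sign_swap h])

/-- Automorphisms of the symmetric group of degree five are inner. -/
theorem inner {φ : P5 →* P5} (hφ : Function.Injective φ) : ∃ k : P5, ∀ σ, φ σ = k * σ * k⁻¹ := by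
  have comm : ∀ (ψ : P5 →* P5), Function.Injective ψ → ∀ x y : P5,
      (ψ x * ψ y = ψ y * ψ x ↔ x * y = y * x) := fun ψ hψ x y => by
    rw [← map_mul, ← map_mul, hψ.eq_iff]
  have comp : ∀ (ψ : P5 →* P5) (k : P5), Function.Injective ψ →
      Function.Injective ((MulAut.conj k).toMonoidHom.comp ψ) := fun ψ k h =>
    (MulAut.conj k).injective.comp h
  obtain ⟨i, j, hij, e1⟩ := swap_map hφ (i := 0) (j := 1) (by decide)
  obtain ⟨k1, h1⟩ := step_one i j hij
  set φ1 := (MulAut.conj k1).toMonoidHom.comp φ with hφ1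
  have a1 : φ1 (swap 0 1) = swap 0 1 := by
    show k1 * φ (swap 0 1) * k1⁻¹ = _
    rw [e1, h1]
  have i1 := comp φ k1 hφ
  obtain ⟨i, j, hij, e2⟩ := swap_map i1 (i := 1) (j := 2) (by decide)
  have n2 : swap i j * swap 0 1 ≠ swap 0 1 * swap i j := by
    rw [← e2, ← a1, Ne, comm φ1 i1]; decide
  obtain ⟨k2, h20, h21⟩ := step_two i j hij n2
  set φ2 := (MulAut.conj k2).toMonoidHom.comp φ1 with hφ2
  have b1 : φ2 (swap 0 1) = swap 0 1 := by show k2 * φ1 (swap 0 1) * k2⁻¹ = _; rw [a1, h20]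
  have b2 : φ2 (swap 1 2) = swap 1 2 := by show k2 * φ1 (swap 1 2) * k2⁻¹ = _; rw [e2, h21]
  have i2 := comp φ1 k2 i1
  obtain ⟨i, j, hij, e3⟩ := swap_map i2 (i := 2) (j := 3) (by decide)
  have c31 : swap i j * swap 0 1 = swap 0 1 * swap i j := by
    rw [← e3, ← b1, comm φ2 i2]; decide
  have c32 : swap i j * swap 1 2 ≠ swap 1 2 * swap i j := by
    rw [← e3, ← b2, Ne, comm φ2 i2]; decide
  obtain ⟨k3, h30, h31, h32⟩ := step_three i j hij c31 c32 (by rw [← e3, ← b1, Ne, i2.eq_iff]; decide)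
  set φ3 := (MulAut.conj k3).toMonoidHom.comp φ2 with hφ3
  have d1 : φ3 (swap 0 1) = swap 0 1 := by show k3 * φ2 (swap 0 1) * k3⁻¹ = _; rw [b1, h30]
  have d2 : φ3 (swap 1 2) = swap 1 2 := by show k3 * φ2 (swap 1 2) * k3⁻¹ = _; rw [b2, h31]
  have d3 : φ3 (swap 2 3) = swap 2 3 := by show k3 * φ2 (swap 2 3) * k3⁻¹ = _; rw [e3, h32]
  have i3 := comp φ2 k3 i2
  obtain ⟨i, j, hij, e4⟩ := swap_map i3 (i := 3) (j := 4) (by decide)
  have c41 : swap i j * swap 0 1 = swap 0 1 * swap i j := by rw [← e4, ← d1, comm φ3 i3]; decide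
  have c42 : swap i j * swap 1 2 = swap 1 2 * swap i j := by rw [← e4, ← d2, comm φ3 i3]; decide
  have c43 : swap i j * swap 2 3 ≠ swap 2 3 * swap i j := by
    rw [← e4, ← d3, Ne, comm φ3 i3]; decide
  have d4 : φ3 (swap 3 4) = swap 3 4 := e4.trans (step_four i j hij c41 c42 c43)
  have hid : φ3 = MonoidHom.id P5 := by
    refine MonoidHom.eq_of_eqOn_denseM (Perm.mclosure_swap_castSucc_succ 4) ?_
    rintro _ ⟨m, rfl⟩
    fin_cases m <;> simp_all
  refine ⟨(k3 * k2 * k1)⁻¹, fun σ => ?_⟩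
  have h := DFunLike.congr_fun hid σ
  rw [MonoidHom.id_apply] at h
  have h' : k3 * (k2 * (k1 * φ σ * k1⁻¹) * k2⁻¹) * k3⁻¹ = σ := h
  conv_rhs => rw [← h']
  group

end Cfsg.Agent.SevenInv.AutFive
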