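import Cfsg.Agent.Lib.SevenInv.Classes
import Cfsg.Agent.Lib.SevenInv.AutFive

/-!
The centraliser of a transposition in the symmetric group of degree seven, and the homomorphisms of
the symmetric group of degree five into the centraliser of two commuting involutions.
-/

set_option autoImplicit false
set_option linter.unusedSectionVars false
set_option maxRecDepth 100000

namespace Cfsg.Agent.SevenInv

open Subgroup Equiv

/-- The five points off the transposition, and the two on it. -/
def fiveEquiv : Fin 5 ⊕ Fin 2 ≃ Fin 7 where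
  toFun
    | Sum.inl i => ![0, 1, 2, 3, 6] i
    | Sum.inr j => ![4, 5] j
  invFun i := ![Sum.inl 0, Sum.inl 1, Sum.inl 2, Sum.inl 3, Sum.inr 0, Sum.inr 1, Sum.inl 4] i
  left_inv := by decide
  right_inv := by decide

/-- The symmetric group on the five points. -/
def five : Perm (Fin 5) →* S7 :=
  (fiveEquiv.permCongrHom.toMonoidHom.comp (Perm.sumCongrHom (Fin 5) (Fin 2))).comp
    (MonoidHom.inl (Perm (Fin 5)) (Perm (Fin 2)))

theorem five_four (τ : Perm (Fin 5)) : five τ 4 = 4 ∧ five τ 5 = 5 := ⟨rfl, rfl⟩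

theorem five_injective : Function.Injective five :=
  (fiveEquiv.permCongrHom.injective.comp Perm.sumCongrHom_injective).comp
    (fun a b h => congrArg Prod.fst h)

theorem five_comm (τ : Perm (Fin 5)) : five τ * pW = pW * five τ := by
  rw [pW, Equiv.mul_swap_eq_swap_mul, (five_four τ).1, (five_four τ).2]

theorem five_sign (τ : Perm (Fin 5)) : Perm.sign (five τ) = Perm.sign τ := by
  show Perm.sign (fiveEquiv.permCongr (Perm.sumCongr τ 1)) = _
  rw [Perm.sign_permCongr, Perm.sign_sumCongr, map_one, mul_one]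

/-- The product with the group generated by the transposition. -/
def pairW : ℤˣ × Perm (Fin 5) →* S7 :=
  MonoidHom.mk' (fun p => (if p.1 = -1 then pW else 1) * five p.2) (by
    rintro ⟨u, σ⟩ ⟨v, τ⟩
    have hw : pW * pW = 1 := Equiv.swap_mul_self _ _
    rcases Int.units_eq_one_or u with rfl | rfl <;> rcases Int.units_eq_one_or v with rfl | rfl
    · simp [map_mul]
    · simp only [Prod.mk_mul_mk, one_mul, if_true, if_neg (show (1 : ℤˣ) ≠ -1 by decide), map_mul]
      rw [← mul_assoc, ← mul_assoc, five_comm]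
    · simp [map_mul, mul_assoc]
    · simp only [Prod.mk_mul_mk, show (-1 : ℤˣ) * -1 = 1 from rfl, if_true,
        if_neg (show (1 : ℤˣ) ≠ -1 by decide), map_mul, one_mul]
      rw [mul_assoc pW, ← mul_assoc (five σ), five_comm, mul_assoc, ← mul_assoc pW pW, hw, one_mul])

theorem pairW_one (τ : Perm (Fin 5)) : pairW (1, τ) = five τ := one_mul _

theorem pairW_neg (τ : Perm (Fin 5)) : pairW (-1, τ) = pW * five τ := rfl

theorem pairW_comm (p : ℤˣ × Perm (Fin 5)) : pairW p * pW = pW * pairW p := by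
  rcases Int.units_eq_one_or p.1 with h | h <;> rw [show p = (p.1, p.2) from rfl, h]
  · rw [pairW_one, five_comm]
  · rw [pairW_neg, mul_assoc, five_comm]

theorem pairW_injective : Function.Injective pairW := by
  rintro ⟨u, σ⟩ ⟨v, τ⟩ h
  have h4 : pairW (u, σ) 4 = pairW (v, τ) 4 := by rw [h]
  rcases Int.units_eq_one_or u with rfl | rfl <;> rcases Int.units_eq_one_or v with rfl | rfl <;>
    simp only [pairW_one, pairW_neg, Perm.mul_apply, (five_four _).1] at h4 h
  · rw [five_injective h]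
  · exact absurd h4 (by decide)
  · exact absurd h4 (by decide)
  · rw [five_injective (mul_left_cancel h)]

theorem pairW_surj {σ : S7} (h : σ * pW = pW * σ) : ∃ p, pairW p = σ := by
  let f : ℤˣ × Perm (Fin 5) → centralizer ({pW} : Set S7) := fun p =>
    ⟨pairW p, mem_centralizer_singleton_iff.2 (pairW_comm p)⟩
  have hf : Function.Bijective f := by
    refine (Nat.bijective_iff_injective_and_card f).2 ⟨fun a b e =>
      pairW_injective (congrArg Subtype.val e), ?_⟩
    rw [centralizer_w, Nat.card_prod, Nat.card_perm, Nat.card_eq_fintype_card (α := Fin 5),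
      Fintype.card_fin, Nat.card_eq_fintype_card, Fintype.card_units_int]
    rfl
  obtain ⟨p, hp⟩ := hf.2 ⟨σ, mem_centralizer_singleton_iff.2 h⟩
  exact ⟨p, congrArg Subtype.val hp⟩

/-- A homomorphism of the symmetric group into a group of order two. -/
theorem hom_sign (u : Perm (Fin 5) →* ℤˣ) : u = 1 ∨ u = Perm.sign := by
  by_cases h : ∃ σ, u σ = -1
  · refine Or.inr (Perm.eq_sign_of_surjective_hom fun z => ?_)
    rcases Int.units_eq_one_or z with rfl | rfl
    · exact ⟨1, map_one _⟩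
    · exact h
  · exact Or.inl (MonoidHom.ext fun σ =>
      (Int.units_eq_one_or (u σ)).resolve_right fun e => h ⟨σ, e⟩)

variable {G : Type*} [Group G] [Finite G]

/-- Coordinates on the centraliser of two commuting involutions. -/
noncomputable def wHom {x : G} (F : Fr x) : ℤˣ × ℤˣ × Perm (Fin 5) →* G :=
  ((centralizer ({x} : Set G)).subtype.comp F.equiv.toMonoidHom).comp
    ((MonoidHom.id ℤˣ).prodMap pairW)

theorem wHom_one {x : G} (F : Fr x) (p : ℤˣ × Perm (Fin 5)) : wHom F (1, p) = F.ι (pairW p) := rfl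

theorem wHom_neg {x : G} (F : Fr x) (p : ℤˣ × Perm (Fin 5)) :
    wHom F (-1, p) = x * F.ι (pairW p) := rfl

theorem wHom_injective {x : G} (F : Fr x) : Function.Injective (wHom F) :=
  ((centralizer ({x} : Set G)).subtype_injective.comp F.equiv.injective).comp
    (Function.injective_id.prodMap pairW_injective)

theorem wHom_surj {x : G} (F : Fr x) {g : G} (hx : g * x = x * g)
    (hw : g * F.ι pW = F.ι pW * g) : ∃ p, wHom F p = g := by
  obtain ⟨σ, e | e⟩ := F.surj g hx
  · obtain ⟨p, hp⟩ := pairW_surj (σ := σ) (F.inj (by rw [map_mul, map_mul, ← e, hw]))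
    exact ⟨(1, p), by rw [wHom_one, hp, e]⟩
  · obtain ⟨p, hp⟩ := pairW_surj (σ := σ) (F.inj (by
      rw [e, mul_assoc, ← mul_assoc (F.ι pW), ← (F.comm pW).eq, mul_assoc] at hw
      rw [map_mul, map_mul, mul_left_cancel hw]))
    exact ⟨(-1, p), by rw [wHom_neg, hp, e]⟩

/-- A homomorphism of the symmetric group of degree five into the centraliser of `x` and of a
transposition, with involutions outside the class, is standard or twisted by the transposition. -/
theorem five_hom {t x : G} (F : Fr x) (ψ : Perm (Fin 5) →* G)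
    (hD : ∀ σ : S7, σ * σ = 1 → IsConj t (x * F.ι σ))
    (hx : ∀ σ, ψ σ * x = x * ψ σ) (hw : ∀ σ, ψ σ * F.ι pW = F.ι pW * ψ σ)
    (hker : ∀ σ, ψ σ ∈ [1, x, F.ι pW, x * F.ι pW] → σ = 1)
    (hnd : ∀ σ, σ * σ = 1 → ¬ IsConj t (ψ σ)) :
    ∃ k, (∀ σ, ψ σ = F.ι (five (k * σ * k⁻¹))) ∨
      ∀ σ, ψ σ = F.ι (pairW (Perm.sign σ, k * σ * k⁻¹)) := by
  choose Φ hΦ using fun σ => wHom_surj F (hx σ) (hw σ)
  let Φ' : Perm (Fin 5) →* ℤˣ × ℤˣ × Perm (Fin 5) :=
    MonoidHom.mk' Φ fun a b => wHom_injective F (by rw [map_mul, hΦ, hΦ, hΦ, map_mul])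
  let φ : Perm (Fin 5) →* Perm (Fin 5) := (MonoidHom.snd _ _).comp ((MonoidHom.snd _ _).comp Φ')
  have hφ : Function.Injective φ := by
    rw [injective_iff_map_eq_one]
    intro σ h
    have h2 : (Φ σ).2.2 = 1 := h
    refine hker σ ?_
    rw [← hΦ σ, show Φ σ = ((Φ σ).1, (Φ σ).2.1, (1 : Perm (Fin 5))) by rw [← h2]]
    rcases Int.units_eq_one_or (Φ σ).1 with e | e <;>
      rcases Int.units_eq_one_or (Φ σ).2.1 with e' | e' <;>
      simp [e, e', wHom_one, wHom_neg, pairW_one, pairW_neg]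
  obtain ⟨k, hk⟩ := AutFive.inner hφ
  have hk' : ∀ σ, (Φ σ).2.2 = k * σ * k⁻¹ := hk
  have h1 : ∀ σ, (Φ σ).1 = 1 := by
    intro σ
    rcases hom_sign ((MonoidHom.fst _ _).comp Φ') with e | e
    · exact DFunLike.congr_fun e σ
    · exfalso
      have h2 : swap (0 : Fin 5) 1 * swap 0 1 = 1 := swap_mul_self _ _
      refine hnd _ h2 ?_
      have e1 : (Φ (swap 0 1)).1 = -1 :=
        (DFunLike.congr_fun e (swap 0 1)).trans (Perm.sign_swap (by decide))
      rw [← hΦ, show Φ (swap 0 1) = (-1, (Φ (swap 0 1)).2) by rw [← e1], wHom_neg]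
      refine hD _ ?_
      rw [← map_mul, show (Φ (swap 0 1)).2 * (Φ (swap 0 1)).2 = (Φ' (swap 0 1 * swap 0 1)).2 by
        rw [map_mul]; rfl, h2, map_one]
      exact map_one _
  refine ⟨k, ?_⟩
  have hfin : ∀ σ, ψ σ = F.ι (pairW ((Φ σ).2.1, k * σ * k⁻¹)) := fun σ => by
    rw [← hΦ σ, show Φ σ = (1, (Φ σ).2.1, k * σ * k⁻¹) by rw [← h1 σ, ← hk' σ], wHom_one]
  rcases hom_sign ((MonoidHom.fst _ _).comp ((MonoidHom.snd _ _).comp Φ')) with e | e
  · refine Or.inl fun σ => ?_
    have e' : (Φ σ).2.1 = 1 := DFunLike.congr_fun e σ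
    rw [hfin σ, e', pairW_one]
  · refine Or.inr fun σ => ?_
    have e' : (Φ σ).2.1 = Perm.sign σ := DFunLike.congr_fun e σ
    rw [hfin σ, e']

end Cfsg.Agent.SevenInv
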