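import Cfsg.Agent.Lib.SevenInv.Fusion
import Cfsg.Agent.Lib.SevenInv.FivePoints

/-!
The pattern of type four: adjacency of class members (a pair centraliser of order 480), and the
exclusion of an exchange of `t` and `t w` that twists the odd permutations by `w`.
-/

set_option autoImplicit false
set_option linter.unusedSectionVars false
set_option maxRecDepth 100000

namespace Cfsg.Agent.SevenInv

open Subgroup

variable {G : Type*} [Group G] [Finite G]

/-- The pair of commuting members is of transposition type. -/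
def Adj (x y : G) : Prop :=
  Nat.card ↥(centralizer ({x} : Set G) ⊓ centralizer ({y} : Set G)) = 480

theorem Adj.symm {x y : G} (h : Adj x y) : Adj y x := by
  unfold Adj at h ⊢
  rwa [inf_comm]

theorem Adj.conj {x y : G} (h : Adj x y) (g : G) : Adj (g * x * g⁻¹) (g * y * g⁻¹) := by
  unfold Adj at h ⊢
  rw [← h]
  refine Nat.card_congr
    { toFun := fun z => ⟨g⁻¹ * z * g, ?_⟩
      invFun := fun z => ⟨g * z * g⁻¹, ?_⟩
      left_inv := fun z => Subtype.ext (show g * (g⁻¹ * z * g) * g⁻¹ = z by group)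
      right_inv := fun z => Subtype.ext (show g⁻¹ * (g * z * g⁻¹) * g = z by group) }
  · obtain ⟨h1, h2⟩ := mem_inf.1 z.2
    rw [mem_centralizer_singleton_iff] at h1 h2
    simp only [mem_inf, mem_centralizer_singleton_iff]
    constructor
    · calc g⁻¹ * z * g * x = g⁻¹ * (z * (g * x * g⁻¹)) * g := by group
        _ = g⁻¹ * (g * x * g⁻¹ * z) * g := by rw [h1]
        _ = x * (g⁻¹ * z * g) := by group
    · calc g⁻¹ * z * g * y = g⁻¹ * (z * (g * y * g⁻¹)) * g := by group
        _ = g⁻¹ * (g * y * g⁻¹ * z) * g := by rw [h2]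
        _ = y * (g⁻¹ * z * g) := by group
  · obtain ⟨h1, h2⟩ := mem_inf.1 z.2
    rw [mem_centralizer_singleton_iff] at h1 h2
    simp only [mem_inf, mem_centralizer_singleton_iff]
    constructor
    · calc g * z * g⁻¹ * (g * x * g⁻¹) = g * (z * x) * g⁻¹ := by group
        _ = g * (x * z) * g⁻¹ := by rw [h1]
        _ = g * x * g⁻¹ * (g * z * g⁻¹) := by group
    · calc g * z * g⁻¹ * (g * y * g⁻¹) = g * (z * y) * g⁻¹ := by group
        _ = g * (y * z) * g⁻¹ := by rw [h2]
        _ = g * y * g⁻¹ * (g * z * g⁻¹) := by group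

theorem card_centralizer_conj {σ τ : S7} (h : IsConj σ τ) :
    Nat.card (centralizer ({τ} : Set S7)) = Nat.card (centralizer ({σ} : Set S7)) := by
  rw [Equiv.Perm.nat_card_centralizer, Equiv.Perm.nat_card_centralizer,
    Equiv.Perm.isConj_iff_cycleType_eq.1 h]

theorem adj_mul_iff {x : G} (F : Fr x) {σ : S7} (h2 : σ * σ = 1) :
    Adj x (x * F.ι σ) ↔ IsConj pW σ := by
  unfold Adj
  rw [F.centralizer_inf_mul, F.pair_card]
  by_cases h1 : σ = 1
  · subst h1
    rw [show centralizer ({(1 : S7)} : Set S7) = ⊤ from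
      eq_top_iff.2 fun g _ => mem_centralizer_singleton_iff.2 (by rw [mul_one, one_mul]),
      Subgroup.card_top, Nat.card_perm, Nat.card_eq_fintype_card, Fintype.card_fin]
    constructor
    · intro h; norm_num [Nat.factorial] at h
    · intro h; exact absurd (isConj_one_left.1 h) (by decide +kernel)
  · rcases class_cases σ h2 h1 with c | c | c <;> rw [card_centralizer_conj c]
    · rw [centralizer_w]; exact iff_of_true rfl c
    · rw [centralizer_z]
      exact iff_of_false (by norm_num) fun h => not_conj_wz (h.trans c.symm)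
    · rw [centralizer_t]
      exact iff_of_false (by norm_num) fun h => not_conj_wt (h.trans c.symm)

theorem adj_ι_iff {x : G} (F : Fr x) {σ : S7} (h2 : σ * σ = 1) :
    Adj x (F.ι σ) ↔ IsConj pW σ := by
  rw [← adj_mul_iff F h2, Adj, Adj, F.centralizer_inf_mul]

theorem PatFour.of_conj {t : G} {F : Fr t} (hP : PatFour F) {y g : G} (hg : g * t * g⁻¹ = y)
    {F' : Fr y} (h : ∀ σ, F'.ι σ = g * F.ι σ * g⁻¹) : PatFour F' := by
  have k : ∀ u, IsConj y (g * u * g⁻¹) ↔ IsConj t u := by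
    intro u
    have h1 : IsConj t y := isConj_iff.2 ⟨g, hg⟩
    have h2 : IsConj u (g * u * g⁻¹) := isConj_iff.2 ⟨g, rfl⟩
    exact ⟨fun e => h1.trans (e.trans h2.symm), fun e => h1.symm.trans (e.trans h2)⟩
  have k' : ∀ σ, y * F'.ι σ = g * (t * F.ι σ) * g⁻¹ := fun σ => by rw [h, ← hg]; group
  exact ⟨by rw [h, k]; exact hP.a, by rw [k', k]; exact hP.b, by rw [k', k]; exact hP.e,
    by rw [h, k]; exact hP.f, by rw [k', k]; exact hP.h⟩

/-- Coordinates at a conjugate. -/
theorem exists_frame {t : G} (F : Fr t) {g y : G} (hg : g * t * g⁻¹ = y) :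
    ∃ F' : Fr y, ∀ σ, F'.ι σ = g * F.ι σ * g⁻¹ := by
  subst hg
  exact ⟨F.conj g, fun σ => rfl⟩

section Four

variable {t : G} {F : Fr t} (hP : PatFour F)
include hP

theorem four_mul {σ : S7} (h : σ * σ = 1) : IsConj t (t * F.ι σ) := by
  by_cases h1 : σ = 1
  · rw [h1, map_one, mul_one]
  rcases class_cases σ h h1 with c | c | c
  · exact hP.b.trans (isConj_mul_map F c)
  · exact hP.e.trans (isConj_mul_map F c)
  · exact hP.h.trans (isConj_mul_map F c)

theorem four_ι (σ : S7) : ¬ IsConj t (F.ι σ) := by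
  intro hD
  rcases classify F (F.comm σ).symm.eq hD with e | ⟨τ, h2, h1, e | e⟩
  · exact F.notmem σ e
  · obtain rfl := F.inj e
    rcases class_cases σ h2 h1 with c | c | c
    · exact hP.a (hD.trans (isConj_map F c).symm)
    · exact z_not_conj F (hD.trans (isConj_map F c).symm)
    · exact hP.f (hD.trans (isConj_map F c).symm)
  · exact F.x_mul_ne τ σ e.symm

theorem four_mem {g : G} (hg : g * t = t * g) (hD : IsConj t g) :
    ∃ σ : S7, σ * σ = 1 ∧ g = t * F.ι σ := by
  rcases classify F hg hD with e | ⟨σ, h2, -, e | e⟩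
  · exact ⟨1, one_mul 1, by rw [e, map_one, mul_one]⟩
  · exact absurd (e ▸ hD) (four_ι hP σ)
  · exact ⟨σ, h2, e⟩

/-- Coordinates at any member. -/
theorem frame_of {y : G} (hy : IsConj t y) : ∃ F' : Fr y, PatFour F' := by
  obtain ⟨g, hg⟩ := isConj_iff.1 hy
  obtain ⟨F', h⟩ := exists_frame F hg
  exact ⟨F', hP.of_conj hg h⟩

/-- For a member `y` and a commuting involution `s`, exactly one of `s`, `y s` is a member. -/
theorem f_law {y s : G} (hy : IsConj t y) (hs : s * s = 1) (hc : s * y = y * s) :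
    IsConj t s ↔ ¬ IsConj t (y * s) := by
  obtain ⟨F', hP'⟩ := frame_of hP hy
  have k : ∀ u, IsConj t u ↔ IsConj y u := fun u => ⟨hy.symm.trans, hy.trans⟩
  rw [k, k]
  obtain ⟨σ, e | e⟩ := F'.surj s hc
  · have h2 : σ * σ = 1 := F'.inj (by rw [map_mul, ← e, hs, map_one])
    subst e
    exact iff_of_false (four_ι hP' σ) (not_not.2 (four_mul hP' h2))
  · have h2 : σ * σ = 1 := F'.inj (by rw [← F'.x_mul_sq, ← e, hs, map_one])
    subst e
    rw [← mul_assoc y y, F'.sq, one_mul]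
    exact iff_of_true (four_mul hP' h2) (four_ι hP' σ)

/-- There is an element exchanging `t` and `t w`. -/
theorem exists_swap_w :
    ∃ g, g * t * g⁻¹ = t * F.ι pW ∧ g * (t * F.ι pW) * g⁻¹ = t := by
  obtain ⟨γ, hγ⟩ := isConj_iff.1 hP.b
  obtain ⟨F', hF'⟩ := exists_frame F hγ
  have hP' := hP.of_conj hγ hF'
  have hc : t * (t * F.ι pW) = t * F.ι pW * t := by
    rw [mul_assoc t (F.ι pW) t, (F.comm pW).eq]
  obtain ⟨σ, h2, hσ⟩ := four_mem hP' hc hP.b.symm
  have hA : Adj t (t * F.ι pW) := (adj_mul_iff F (Equiv.swap_mul_self _ _)).2 (IsConj.refl _)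
  have hA' := (congrArg (Adj (t * F.ι pW)) hσ).mp hA.symm
  obtain ⟨k, hk⟩ := isConj_iff.1 ((adj_mul_iff F' h2).1 hA')
  refine ⟨F'.ι k * γ, ?_, ?_⟩
  · calc F'.ι k * γ * t * (F'.ι k * γ)⁻¹ = F'.ι k * (γ * t * γ⁻¹) * (F'.ι k)⁻¹ := by group
      _ = F'.ι k * (t * F.ι pW) * (F'.ι k)⁻¹ := by rw [hγ]
      _ = t * F.ι pW := by rw [← (F'.comm k).eq, mul_inv_cancel_right]
  · calc F'.ι k * γ * (t * F.ι pW) * (F'.ι k * γ)⁻¹
        = F'.ι k * ((γ * t * γ⁻¹) * (γ * F.ι pW * γ⁻¹)) * (F'.ι k)⁻¹ := by group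
      _ = t * F.ι pW * (F'.ι k * F'.ι pW * (F'.ι k)⁻¹) := by
          rw [hγ, ← hF', ← mul_assoc, ← (F'.comm k).eq]; group
      _ = t := by rw [← map_inv, ← map_mul, ← map_mul, hk]; exact hσ.symm

end Four

/-- All pairs `t c`, `t c'` with commuting transpositions `c ≠ c'` are adjacent. -/
def AdjAll {x : G} (F : Fr x) : Prop :=
  ∀ c c' : S7, IsConj pW c → IsConj pW c' → c * c' = c' * c → c ≠ c' →
    Adj (x * F.ι c) (x * F.ι c')

theorem AdjAll.of_conj {t : G} {F : Fr t} (h : AdjAll F) {y g : G} (hg : g * t * g⁻¹ = y)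
    {F' : Fr y} (hF : ∀ σ, F'.ι σ = g * F.ι σ * g⁻¹) : AdjAll F' := by
  intro c c' h1 h2 h3 h4
  have := (h c c' h1 h2 h3 h4).conj g
  have e : ∀ σ, g * (t * F.ι σ) * g⁻¹ = y * F'.ι σ := fun σ => by rw [hF, ← hg]; group
  rwa [e, e] at this

theorem AdjAll.relabel {x : G} {F : Fr x} (h : AdjAll F) (k : S7) : AdjAll (F.relabel k) := by
  intro c c' h1 h2 h3 h4
  rw [F.relabel_apply, F.relabel_apply]
  refine h _ _ (h1.trans (isConj_iff.2 ⟨k, rfl⟩)) (h2.trans (isConj_iff.2 ⟨k, rfl⟩)) ?_ ?_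
  · rw [show k * c * k⁻¹ * (k * c' * k⁻¹) = k * (c * c') * k⁻¹ by group, h3]; group
  · intro e
    exact h4 (mul_left_cancel (mul_right_cancel e))

theorem PatFour.relabel {x : G} {F : Fr x} (hP : PatFour F) (k : S7) : PatFour (F.relabel k) :=
  have h : ∀ r, IsConj r (k * r * k⁻¹) := fun r => isConj_iff.2 ⟨k, rfl⟩
  ⟨fun e => hP.a (e.trans (isConj_map F (h pW)).symm),
    hP.b.trans (isConj_mul_map F (h pW)),
    hP.e.trans (isConj_mul_map F (h pZ)),
    fun e => hP.f (e.trans (isConj_map F (h pT)).symm),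
    hP.h.trans (isConj_mul_map F (h pT))⟩

end Cfsg.Agent.SevenInv
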