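import Cfsg.Agent.Lib.SevenInv.Frame

/-!
The classes of the centraliser meeting the class of the involution: the parity conditions from the
transfer and the action of the normaliser of the Sylow subgroup.
-/

set_option autoImplicit false
set_option linter.unusedSectionVars false
set_option maxRecDepth 100000

namespace Cfsg.Agent.SevenInv

open Subgroup

/-- The class pattern of type two: only the double transpositions times `t`. -/
structure PatTwo {G : Type*} [Group G] {t : G} (F : Fr t) : Prop where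
  a : ¬ IsConj t (F.ι pW)
  b : ¬ IsConj t (t * F.ι pW)
  e : IsConj t (t * F.ι pZ)
  f : ¬ IsConj t (F.ι pT)
  h : ¬ IsConj t (t * F.ι pT)

/-- The class pattern of type four: all involutions times `t`. -/
structure PatFour {G : Type*} [Group G] {t : G} (F : Fr t) : Prop where
  a : ¬ IsConj t (F.ι pW)
  b : IsConj t (t * F.ι pW)
  e : IsConj t (t * F.ι pZ)
  f : ¬ IsConj t (F.ι pT)
  h : IsConj t (t * F.ι pT)

theorem sign_w : Equiv.Perm.sign pW = -1 := by decide +kernel
theorem sign_z : Equiv.Perm.sign pZ = 1 := by decide +kernel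
theorem sign_t : Equiv.Perm.sign pT = -1 := by decide +kernel

theorem pZ_eq_sq : pA * pB * (pA * pB) = pZ := by decide +kernel
theorem pW_mem : pW ∈ tList := mem_of_code (by decide +kernel)
theorem pZ_mem : pZ ∈ tList := mem_of_code (by decide +kernel)
theorem pT_mem : pT ∈ tList := mem_of_code (by decide +kernel)
theorem pZW : pZ * pW = pT := by decide +kernel

/-- The centre of the Sylow subgroup. -/
def tCentre : List S7 := [1, pW, pZ, pT]

theorem tList_centre {σ : S7} (hσ : σ ∈ tList) (h : ∀ τ ∈ tList, σ * τ = τ * σ) :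
    σ ∈ tCentre := by
  have key : (tList.all fun σ => (tList.any fun τ => code (σ * τ) != code (τ * σ)) ||
      (tCentre.map code).contains (code σ)) = true := by decide +kernel
  have h1 := List.all_eq_true.1 key σ hσ
  simp only [Bool.or_eq_true, List.any_eq_true, bne_iff_ne] at h1
  rcases h1 with ⟨τ, hτ, e⟩ | e
  · exact absurd (by rw [h τ hτ]) e
  · exact mem_of_code e

theorem centre_comm {σ τ : S7} (hσ : σ ∈ tCentre) (hτ : τ ∈ tList) : σ * τ = τ * σ := by
  have key : (tCentre.all fun σ => tList.all fun τ => code (σ * τ) == code (τ * σ)) = true := by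
    decide +kernel
  exact code_injective (beq_iff_eq.1 (List.all_eq_true.1 (List.all_eq_true.1 key σ hσ) τ hτ))

variable {G : Type*} [Group G]

theorem isConj_map {x : G} (F : Fr x) {σ τ : S7} (h : IsConj σ τ) : IsConj (F.ι σ) (F.ι τ) :=
  F.ι.map_isConj h

theorem isConj_mul_map {x : G} (F : Fr x) {σ τ : S7} (h : IsConj σ τ) :
    IsConj (x * F.ι σ) (x * F.ι τ) := by
  obtain ⟨k, rfl⟩ := isConj_iff.1 h
  refine isConj_iff.2 ⟨F.ι k, ?_⟩
  rw [map_mul, map_mul, map_inv, ← mul_assoc (F.ι k) x, ← (F.comm k).eq]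
  group

theorem conj_sq {a b : G} (g : G) (h : g * a * g⁻¹ = b) : g * (a * a) * g⁻¹ = b * b := by
  rw [← h]; group

variable {t : G} (F : Fr t)
include F

/-- The involution is not a square. -/
theorem not_square (y : G) : y * y ≠ t := by
  intro hy
  obtain ⟨σ, e | e⟩ := F.surj y (by rw [← hy, mul_assoc])
  · rw [e, ← map_mul] at hy; exact F.notmem _ hy
  · rw [e, F.x_mul_sq] at hy; exact F.notmem _ hy

theorem z_not_conj : ¬ IsConj t (F.ι pZ) := by
  intro h
  obtain ⟨g, hg⟩ := isConj_iff.1 h.symm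
  refine not_square F (g * F.ι (pA * pB) * g⁻¹) (Eq.trans ?_ hg)
  rw [← pZ_eq_sq, map_mul _ (pA * pB)]
  group

/-- The members of the class in the centraliser. -/
theorem classify {g : G} (hg : g * t = t * g) (hD : IsConj t g) :
    g = t ∨ ∃ σ : S7, σ * σ = 1 ∧ σ ≠ 1 ∧ (g = F.ι σ ∨ g = t * F.ι σ) := by
  obtain ⟨k, hk⟩ := isConj_iff.1 hD
  have h2 : g * g = 1 := by rw [← conj_sq k hk, F.sq]; group
  have h1 : g ≠ 1 := by
    intro h
    rw [h, conj_eq_one_iff] at hk
    exact F.ne_one hk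
  obtain ⟨σ, e | e⟩ := F.surj g hg
  · refine Or.inr ⟨σ, F.inj ?_, fun hσ => h1 (by rw [e, hσ, map_one]), Or.inl e⟩
    rw [map_mul, map_one, ← e, h2]
  · by_cases hσ : σ = 1
    · exact Or.inl (by rw [e, hσ, map_one, mul_one])
    · refine Or.inr ⟨σ, F.inj ?_, hσ, Or.inr e⟩
      rw [map_one, ← F.x_mul_sq, ← e, h2]

section Parity

variable [Finite G]

/-- A part of the count. -/
def piece (φ : centralizer ({t} : Set G) →* ℤˣ) (u : ℤˣ) (r : S7) : Set (ℤˣ × S7) :=
  {p | p.1 = u ∧ IsConj r p.2 ∧ IsConj t (F.equiv (u, r) : G) ∧ φ (F.equiv (u, r)) = -1}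

theorem phi_conj (φ : centralizer ({t} : Set G) →* ℤˣ) {u : ℤˣ} {r σ : S7} (h : IsConj r σ) :
    IsConj (F.equiv (u, r) : G) (F.equiv (u, σ) : G) ∧ φ (F.equiv (u, σ)) = φ (F.equiv (u, r)) := by
  obtain ⟨k, rfl⟩ := isConj_iff.1 h
  have e : (u, k * r * k⁻¹) = ((1 : ℤˣ), k) * (u, r) * ((1 : ℤˣ), k)⁻¹ := by simp
  constructor
  · refine isConj_iff.2 ⟨(F.equiv (1, k) : G), ?_⟩
    rw [e, map_mul, map_mul, map_inv]; rfl
  · rw [e, map_mul, map_mul, map_inv, map_mul, map_mul, map_inv, mul_right_comm, mul_inv_cancel,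
      one_mul]

/-- The count, summed over the seven types. -/
theorem count_eq (φ : centralizer ({t} : Set G) →* ℤˣ) :
    Nat.card (negConj φ t) =
      (if φ (F.equiv (-1, 1)) = -1 then 1 else 0) +
      Nat.card (piece F φ 1 pW) + Nat.card (piece F φ 1 pZ) + Nat.card (piece F φ 1 pT) +
      Nat.card (piece F φ (-1) pW) + Nat.card (piece F φ (-1) pZ) + Nat.card (piece F φ (-1) pT) := by
  classical
  set S : Set (ℤˣ × S7) := {p | IsConj t (F.equiv p : G) ∧ φ (F.equiv p) = -1} with hS
  have e1 : Nat.card (negConj φ t) = S.ncard := by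
    rw [← Nat.card_coe_set_eq]
    refine (Nat.card_congr (Equiv.ofBijective (fun p : S => (⟨(F.equiv p.1 : G), p.2.1,
      (F.equiv p.1).2, p.2.2⟩ : negConj φ t)) ⟨?_, ?_⟩)).symm
    · intro p q h
      have h0 : (F.equiv p.1 : G) = (F.equiv q.1 : G) := congrArg (fun z : negConj φ t => (z : G)) h
      exact Subtype.ext (F.equiv.injective (Subtype.ext h0))
    · rintro ⟨g, hg, hgC, hv⟩
      obtain ⟨p, hp⟩ := F.equiv.surjective ⟨g, hgC⟩
      exact ⟨⟨p, by rw [hp]; exact hg, by rw [hp]; exact hv⟩,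
        Subtype.ext (congrArg (fun z : centralizer ({t} : Set G) => (z : G)) hp)⟩
  set P0 : Set (ℤˣ × S7) := {p | p = (-1, 1) ∧ φ (F.equiv p) = -1} with hP0
  have h0 : P0.ncard = if φ (F.equiv (-1, 1)) = -1 then 1 else 0 := by
    split_ifs with h
    · rw [show P0 = {((-1 : ℤˣ), (1 : S7))} from Set.ext fun p =>
        ⟨fun hp => hp.1, fun hp => ⟨hp, by rw [Set.mem_singleton_iff.1 hp]; exact h⟩⟩, Set.ncard_singleton]
    · rw [show P0 = ∅ from Set.eq_empty_of_forall_notMem fun p hp => h (hp.1 ▸ hp.2), Set.ncard_empty]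
  have hpc : ∀ {u r p}, p ∈ piece F φ u r → p ∈ S := by
    rintro u r ⟨v, σ⟩ ⟨rfl, hc, hD, hv⟩
    obtain ⟨h1, h2⟩ := phi_conj F φ (u := v) hc
    exact ⟨hD.trans h1, h2.trans hv⟩
  have hne : ∀ u r, r ≠ 1 → ∀ p ∈ piece F φ u r, p ∉ P0 := by
    rintro u r hr ⟨v, σ⟩ ⟨-, hc, -⟩ ⟨h, -⟩
    obtain rfl : σ = 1 := congrArg Prod.snd h
    exact hr (isConj_one_left.1 hc)
  have hdj : ∀ u v r s, (u ≠ v ∨ ¬ IsConj r s) → Disjoint (piece F φ u r) (piece F φ v s) := by
    intro u v r s h
    rw [Set.disjoint_left]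
    intro p hp hq
    rcases h with h | h
    · exact h (hp.1.symm.trans hq.1)
    · exact h (hp.2.1.trans hq.2.1.symm)
  have hsplit : S = P0 ∪ piece F φ 1 pW ∪ piece F φ 1 pZ ∪ piece F φ 1 pT ∪
      piece F φ (-1) pW ∪ piece F φ (-1) pZ ∪ piece F φ (-1) pT := by
    apply Set.Subset.antisymm
    · rintro ⟨u, σ⟩ ⟨hD, hv⟩
      rcases classify F (mem_centralizer_singleton_iff.1 (F.equiv (u, σ)).2) hD with e | ⟨τ, h2, h1, e⟩
      · have : (u, σ) = (-1, 1) := F.equiv.injective (Subtype.ext (by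
          rw [e, F.equiv_neg, map_one, mul_one]))
        simp only [Set.mem_union]
        exact Or.inl (Or.inl (Or.inl (Or.inl (Or.inl (Or.inl ⟨this, hv⟩)))))
      · obtain rfl : σ = τ := by
          rcases e with e | e
          · exact congrArg Prod.snd (F.equiv.injective (a₂ := (1, τ)) (Subtype.ext (by rw [e, F.equiv_one])))
          · exact congrArg Prod.snd (F.equiv.injective (a₂ := (-1, τ)) (Subtype.ext (by rw [e, F.equiv_neg])))
        have mk : ∀ r, IsConj r σ → (u, σ) ∈ piece F φ u r := fun r hr =>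
          ⟨rfl, hr, hD.trans (phi_conj F φ hr).1.symm, (phi_conj F φ hr).2.symm.trans hv⟩
        simp only [Set.mem_union]
        rcases Int.units_eq_one_or u with rfl | rfl <;> rcases class_cases σ h2 h1 with hr | hr | hr <;>
          simp [mk _ hr]
    · intro p hp
      simp only [Set.mem_union] at hp
      rcases hp with (((((hp | hp) | hp) | hp) | hp) | hp) | hp
      · refine ⟨?_, hp.2⟩
        rw [hp.1, F.equiv_neg, map_one, mul_one]
      all_goals exact hpc hp
  have w1 : pW ≠ 1 := by decide +kernel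
  have z1 : pZ ≠ 1 := by decide +kernel
  have t1 : pT ≠ 1 := by decide +kernel
  have u1 : (1 : ℤˣ) ≠ -1 := by decide
  rw [e1, hsplit, ← h0, Nat.card_coe_set_eq, Nat.card_coe_set_eq, Nat.card_coe_set_eq,
    Nat.card_coe_set_eq, Nat.card_coe_set_eq, Nat.card_coe_set_eq]
  iterate 6 rw [Set.ncard_union_eq ?_ (Set.toFinite _) (Set.toFinite _)]
  all_goals try simp only [Set.disjoint_union_left]
  all_goals
    repeat' apply And.intro
    all_goals first
      | exact Set.disjoint_right.2 (hne _ _ w1)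
      | exact Set.disjoint_right.2 (hne _ _ z1)
      | exact Set.disjoint_right.2 (hne _ _ t1)
      | exact hdj _ _ _ _ (Or.inl u1)
      | exact hdj _ _ _ _ (Or.inr not_conj_wz)
      | exact hdj _ _ _ _ (Or.inr not_conj_wt)
      | exact hdj _ _ _ _ (Or.inr not_conj_zt)

theorem piece_card (φ : centralizer ({t} : Set G) →* ℤˣ) (u : ℤˣ) (r : S7) {k : ℕ}
    (hk : Nat.card {σ : S7 | IsConj r σ} = k) (P : Prop) [Decidable P]
    (hP : (IsConj t (F.equiv (u, r) : G) ∧ φ (F.equiv (u, r)) = -1) ↔ P) :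
    Nat.card (piece F φ u r) = if P then k else 0 := by
  split_ifs with h
  · have h' := hP.2 h
    rw [← hk]
    refine Nat.card_congr
      { toFun := fun p => ⟨p.1.2, p.2.2.1⟩
        invFun := fun σ => ⟨(u, σ.1), rfl, σ.2, h'.1, h'.2⟩
        left_inv := fun p => Subtype.ext (Prod.ext p.2.1.symm rfl)
        right_inv := fun σ => rfl }
  · haveI : IsEmpty (piece F φ u r) := ⟨fun p => h (hP.1 p.2.2.2)⟩
    exact Nat.card_of_isEmpty

/-- The sign of a coordinate. -/
noncomputable def coordFst : centralizer ({t} : Set G) →* ℤˣ :=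
  (MonoidHom.fst ℤˣ S7).comp F.equiv.symm.toMonoidHom

/-- The sign of the permutation. -/
noncomputable def coordSign : centralizer ({t} : Set G) →* ℤˣ :=
  Equiv.Perm.sign.comp ((MonoidHom.snd ℤˣ S7).comp F.equiv.symm.toMonoidHom)

theorem coordFst_apply (p : ℤˣ × S7) : coordFst F (F.equiv p) = p.1 := by
  simp [coordFst]

theorem coordSign_apply (p : ℤˣ × S7) : coordSign F (F.equiv p) = Equiv.Perm.sign p.2 := by
  simp [coordSign]

theorem count_even (hno : ¬ ∃ H : Subgroup G, H.index = 2)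
    (φ : centralizer ({t} : Set G) →* ℤˣ) : ¬ Odd (Nat.card (negConj φ t)) := fun h =>
  hno (index_two_of_count φ t (by rw [sq]; exact F.sq) h rfl)

/-- The three parity conditions. -/
theorem parity (hno : ¬ ∃ H : Subgroup G, H.index = 2) :
    (IsConj t (t * F.ι pW) ↔ (IsConj t (t * F.ι pZ) ↔ IsConj t (t * F.ι pT))) ∧
      (IsConj t (F.ι pW) ↔ (IsConj t (t * F.ι pZ) ↔ IsConj t (F.ι pT))) := by
  classical
  have hz := z_not_conj F
  have no : ∀ {u r} {φ : centralizer ({t} : Set G) →* ℤˣ}, φ (F.equiv (u, r)) ≠ -1 →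
      ((IsConj t (F.equiv (u, r) : G) ∧ φ (F.equiv (u, r)) = -1) ↔ False) := fun h =>
    ⟨fun h' => h h'.2, False.elim⟩
  have yes : ∀ {u r} {φ : centralizer ({t} : Set G) →* ℤˣ}, φ (F.equiv (u, r)) = -1 →
      ((IsConj t (F.equiv (u, r) : G) ∧ φ (F.equiv (u, r)) = -1) ↔ IsConj t (F.equiv (u, r) : G)) :=
    fun h => ⟨fun h' => h'.1, fun h' => ⟨h', h⟩⟩
  constructor
  · have hv := coordFst_apply F
    have h := count_even F hno (coordFst F)
    rw [count_eq F, if_pos (hv _), piece_card F _ _ _ class_card_w _ (no (by rw [hv]; decide)),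
      piece_card F _ _ _ class_card_z _ (no (by rw [hv]; decide)),
      piece_card F _ _ _ class_card_t _ (no (by rw [hv]; decide)),
      piece_card F _ _ _ class_card_w _ (yes (hv _)), piece_card F _ _ _ class_card_z _ (yes (hv _)),
      piece_card F _ _ _ class_card_t _ (yes (hv _))] at h
    simp only [F.equiv_neg, if_false] at h
    by_cases hb : IsConj t (t * F.ι pW) <;> by_cases he : IsConj t (t * F.ι pZ) <;>
      by_cases hh : IsConj t (t * F.ι pT) <;> simp only [hb, he, hh, if_true, if_false, iff_self, iff_true, iff_false, not_true, not_false_iff] at h ⊢ <;>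
      norm_num [Nat.odd_iff] at h
  · set φ := coordFst F * coordSign F with hφ
    have hv : ∀ p, φ (F.equiv p) = p.1 * Equiv.Perm.sign p.2 := fun p => by
      rw [hφ, MonoidHom.mul_apply, coordFst_apply, coordSign_apply]
    have h := count_even F hno φ
    rw [count_eq F, if_pos (by rw [hv, map_one]; rfl),
      piece_card F _ _ _ class_card_w _ (yes (by rw [hv, sign_w]; rfl)),
      piece_card F _ _ _ class_card_z _ (no (by rw [hv, sign_z]; decide)),
      piece_card F _ _ _ class_card_t _ (yes (by rw [hv, sign_t]; rfl)),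
      piece_card F _ _ _ class_card_w _ (no (by rw [hv, sign_w]; decide)),
      piece_card F _ _ _ class_card_z _ (yes (by rw [hv, sign_z]; rfl)),
      piece_card F _ _ _ class_card_t _ (no (by rw [hv, sign_t]; decide))] at h
    simp only [F.equiv_neg, F.equiv_one, if_false] at h
    by_cases hb : IsConj t (F.ι pW) <;> by_cases he : IsConj t (t * F.ι pZ) <;>
      by_cases hh : IsConj t (F.ι pT) <;> simp only [hb, he, hh, if_true, if_false, iff_self, iff_true, iff_false, not_true, not_false_iff] at h ⊢ <;>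
      norm_num [Nat.odd_iff] at h

end Parity

end Cfsg.Agent.SevenInv
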