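import Mathlib.GroupTheory.Perm.Centralizer
import Mathlib.GroupTheory.Perm.Cycle.Type
import Mathlib.GroupTheory.Perm.Sign
import Mathlib.GroupTheory.Perm.Fin
import Mathlib.Tactic.IntervalCases
import Mathlib.Tactic.Group

/-!
Involutions of the symmetric group of degree seven and their centralisers.
-/

set_option autoImplicit false
set_option maxRecDepth 100000


namespace Cfsg.Agent.SevenInv

open Equiv

abbrev S7 : Type := Perm (Fin 7)

/-- A transposition. -/
def pW : S7 := swap 4 5
/-- A transposition commuting with `pW`. -/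
def pB : S7 := swap 0 1
/-- The third transposition. -/
def pC : S7 := swap 2 3
/-- A double transposition exchanging `pB` and `pC`. -/
def pA : S7 := swap 0 2 * swap 1 3
/-- The double transposition. -/
def pZ : S7 := swap 0 1 * swap 2 3
/-- A triple transposition. -/
def pT : S7 := swap 0 1 * swap 2 3 * swap 4 5

/-- A numerical code, for evaluation. -/
def code (σ : S7) : ℕ :=
  (σ 0).val + 8 * (σ 1).val + 64 * (σ 2).val + 512 * (σ 3).val + 4096 * (σ 4).val +
    32768 * (σ 5).val + 262144 * (σ 6).val

theorem code_injective : Function.Injective code := by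
  intro σ τ h
  simp only [code] at h
  ext i
  fin_cases i <;> simp only [Fin.reduceFinMk] <;> omega

def d8List : List S7 :=
  [1, pB, pC, pZ, pA, swap 0 3 * swap 1 2, pA * pB, pA * pC]

def s3List : List S7 :=
  [1, swap 4 5, swap 4 6, swap 5 6, swap 4 5 * swap 5 6, swap 5 6 * swap 4 5]

/-- The centraliser of `pZ`. -/
def czList : List S7 := d8List.flatMap fun d => s3List.map fun s => d * s

/-- A Sylow subgroup of the centraliser. -/
def tList : List S7 := d8List.flatMap fun d => [d, d * pW]

theorem cycleType_w : pW.cycleType = {2} := by decide +kernel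
theorem cycleType_z : pZ.cycleType = {2, 2} := by decide +kernel
theorem cycleType_t : pT.cycleType = {2, 2, 2} := by decide +kernel

theorem class_cases (σ : S7) (h : σ * σ = 1) (h1 : σ ≠ 1) :
    IsConj pW σ ∨ IsConj pZ σ ∨ IsConj pT σ := by
  have ho : orderOf σ = 2 := orderOf_eq_prime (by rw [sq]; exact h) h1
  obtain ⟨n, hn⟩ := Perm.cycleType_prime_order (show (orderOf σ).Prime from ho ▸ Nat.prime_two)
  rw [ho] at hn
  have hs : σ.support.card ≤ 7 := (Finset.card_le_univ _).trans (by rw [Fintype.card_fin])
  rw [← Perm.sum_cycleType, hn, Multiset.sum_replicate, smul_eq_mul] at hs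
  simp only [Perm.isConj_iff_cycleType_eq, cycleType_w, cycleType_z, cycleType_t, hn]
  have : n ≤ 2 := by omega
  interval_cases n <;> simp [Multiset.replicate_succ]

theorem centralizer_w : Nat.card (Subgroup.centralizer {pW}) = 240 := by
  rw [Perm.nat_card_centralizer, cycleType_w]; decide

theorem centralizer_z : Nat.card (Subgroup.centralizer {pZ}) = 48 := by
  rw [Perm.nat_card_centralizer, cycleType_z]; decide

theorem centralizer_t : Nat.card (Subgroup.centralizer {pT}) = 48 := by
  rw [Perm.nat_card_centralizer, cycleType_t]; decide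

theorem class_card_w : Nat.card {σ : S7 | IsConj pW σ} = 21 := by
  rw [Perm.card_isConj_eq, cycleType_w]; decide

theorem class_card_z : Nat.card {σ : S7 | IsConj pZ σ} = 105 := by
  rw [Perm.card_isConj_eq, cycleType_z]; decide

theorem class_card_t : Nat.card {σ : S7 | IsConj pT σ} = 105 := by
  rw [Perm.card_isConj_eq, cycleType_t]; decide

theorem not_conj_wz : ¬ IsConj pW pZ := by
  rw [Perm.isConj_iff_cycleType_eq, cycleType_w, cycleType_z]; decide
theorem not_conj_wt : ¬ IsConj pW pT := by
  rw [Perm.isConj_iff_cycleType_eq, cycleType_w, cycleType_t]; decide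
theorem not_conj_zt : ¬ IsConj pZ pT := by
  rw [Perm.isConj_iff_cycleType_eq, cycleType_z, cycleType_t]; decide

theorem czList_nodup : czList.Nodup := by
  refine List.Nodup.of_map code ?_
  decide +kernel
theorem czList_comm : ∀ σ ∈ czList, σ * pZ = pZ * σ := by
  have h : (czList.all fun σ => code (σ * pZ) == code (pZ * σ)) = true := by decide +kernel
  intro σ hσ
  exact code_injective (beq_iff_eq.1 (List.all_eq_true.1 h σ hσ))

theorem mem_czList {σ : S7} (h : σ * pZ = pZ * σ) : σ ∈ czList := by
  classical
  have h1 : czList.toFinset = Finset.univ.filter fun τ : S7 => τ * pZ = pZ * τ := by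
    refine Finset.eq_of_subset_of_card_le (fun τ hτ => Finset.mem_filter.2
      ⟨Finset.mem_univ _, czList_comm τ (List.mem_toFinset.1 hτ)⟩) ?_
    rw [List.toFinset_card_of_nodup czList_nodup]
    have e : (Finset.univ.filter fun τ : S7 => τ * pZ = pZ * τ).card = 48 := by
      rw [← centralizer_z, Nat.card_eq_fintype_card, ← Fintype.card_subtype]
      exact Fintype.card_congr (Equiv.subtypeEquivRight fun τ =>
        Subgroup.mem_centralizer_singleton_iff.symm)
    rw [e]; rfl
  exact List.mem_toFinset.1 (h1 ▸ Finset.mem_filter.2 ⟨Finset.mem_univ _, h⟩)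

theorem mem_of_code {l : List S7} {σ : S7} (h : (l.map code).contains (code σ) = true) : σ ∈ l := by
  obtain ⟨τ, hτ, e⟩ := List.mem_map.1 (List.contains_iff_mem.1 h)
  exact code_injective e ▸ hτ

theorem code_of_mem {l : List S7} {σ : S7} (h : σ ∈ l) : (l.map code).contains (code σ) = true :=
  List.contains_iff_mem.2 (List.mem_map_of_mem h)

/-- The Sylow subgroup as a subgroup. -/
def tGroup : Subgroup S7 where
  carrier := {σ | σ ∈ tList}
  one_mem' := by show (1 : S7) ∈ tList; decide +kernel
  mul_mem' := by
    intro a b ha hb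
    have : (tList.all fun a => tList.all fun b => (tList.map code).contains (code (a * b))) = true := by
      decide +kernel
    exact mem_of_code (List.all_eq_true.1 (List.all_eq_true.1 this a ha) b hb)
  inv_mem' := by
    intro a ha
    have : (tList.all fun a => (tList.map code).contains (code a⁻¹)) = true := by decide +kernel
    exact mem_of_code (List.all_eq_true.1 this a ha)

theorem mem_tGroup {σ : S7} : σ ∈ tGroup ↔ σ ∈ tList := Iff.rfl

theorem card_tGroup : Nat.card tGroup = 16 := by
  classical
  rw [Nat.card_eq_fintype_card, Fintype.card_subtype]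
  have : (Finset.univ.filter fun σ : S7 => σ ∈ tGroup) = tList.toFinset := by
    ext σ; simp [mem_tGroup]
  rw [this, List.toFinset_card_of_nodup (List.Nodup.of_map code (by decide +kernel))]
  rfl

/-- `pZ` is the only nontrivial square in the Sylow subgroup. -/
theorem tList_sq : ∀ σ ∈ tList, σ * σ = 1 ∨ σ * σ = pZ := by
  have h : (tList.all fun σ => code (σ * σ) == code 1 || code (σ * σ) == code pZ) = true := by
    decide +kernel
  intro σ hσ
  have h1 := List.all_eq_true.1 h σ hσ
  simp only [Bool.or_eq_true, beq_iff_eq] at h1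
  exact h1.imp (fun e => code_injective e) (fun e => code_injective e)

theorem tList_normal : ∀ σ ∈ czList, (∀ τ ∈ tList, σ * τ * σ⁻¹ ∈ tList) → σ ∈ tList := by
  have h : (czList.all fun σ => (tList.any fun τ => !(tList.map code).contains (code (σ * τ * σ⁻¹))) ||
      (tList.map code).contains (code σ)) = true := by decide +kernel
  intro σ hσ hn
  have h1 := List.all_eq_true.1 h σ hσ
  simp only [Bool.or_eq_true, List.any_eq_true] at h1
  rcases h1 with ⟨τ, hτ, e⟩ | e
  · rw [code_of_mem (hn τ hτ)] at e; simp at e
  · exact mem_of_code e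

theorem tGroup_normal {σ : S7} (h : ∀ τ ∈ tList, σ * τ * σ⁻¹ ∈ tList) : σ ∈ tList := by
  refine tList_normal σ (mem_czList ?_) h
  have e1 : (pA * pB) * (pA * pB) = pZ := by decide +kernel
  have e2 := h (pA * pB) (by decide +kernel)
  rcases tList_sq _ e2 with e | e
  · exfalso
    have : σ * pZ * σ⁻¹ = 1 := by rw [← e, ← e1]; group
    rw [mul_inv_eq_one, mul_eq_left] at this
    exact absurd this (by decide +kernel)
  · have : σ * pZ * σ⁻¹ = pZ := by
      calc σ * pZ * σ⁻¹ = σ * (pA * pB) * σ⁻¹ * (σ * (pA * pB) * σ⁻¹) := by rw [← e1]; group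
        _ = pZ := e
    exact mul_inv_eq_iff_eq_mul.1 this

end Cfsg.Agent.SevenInv
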