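import Cfsg.Agent.Lib.SevenInv.Count
import Cfsg.Agent.Lib.SevenInv.Perm
import Mathlib.GroupTheory.Sylow

/-!
An involution whose centraliser is the product of a group of order two and the symmetric group of
degree seven: coordinates, classes and the Sylow subgroup.
-/

set_option autoImplicit false
set_option linter.unusedSectionVars false

namespace Cfsg.Agent.SevenInv

open Subgroup

variable {G : Type*} [Group G]

/-- Coordinates on the centraliser of `x`. -/
structure Fr (x : G) where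
  /-- The symmetric group inside. -/
  ι : S7 →* G
  inj : Function.Injective ι
  comm : ∀ σ, Commute x (ι σ)
  notmem : ∀ σ, ι σ ≠ x
  surj : ∀ g, g * x = x * g → ∃ σ, g = ι σ ∨ g = x * ι σ
  sq : x * x = 1

namespace Fr

variable {x : G} (F : Fr x)
include F

theorem ne_one : x ≠ 1 := fun h => F.notmem 1 (by rw [map_one, h])

theorem inv_self : x⁻¹ = x := inv_eq_of_mul_eq_one_left F.sq

theorem x_mul_ne (σ τ : S7) : x * F.ι σ ≠ F.ι τ := by
  intro h
  exact F.notmem (τ * σ⁻¹) (by rw [map_mul, ← h, map_inv, mul_inv_cancel_right])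

theorem x_mul_inj {σ τ : S7} (h : x * F.ι σ = x * F.ι τ) : σ = τ := F.inj (mul_left_cancel h)

theorem x_mul_sq (σ : S7) : x * F.ι σ * (x * F.ι σ) = F.ι (σ * σ) := by
  rw [(F.comm σ).symm.mul_mul_mul_comm, F.sq, one_mul, map_mul]

/-- Transport by conjugation. -/
def conj (g : G) : Fr (g * x * g⁻¹) where
  ι := (MulAut.conj g).toMonoidHom.comp F.ι
  inj := (MulAut.conj g).injective.comp F.inj
  comm σ := (F.comm σ).map (MulAut.conj g)
  notmem σ h := F.notmem σ ((MulAut.conj g).injective h)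
  surj y hy := by
    have h' : (g⁻¹ * y * g) * x = x * (g⁻¹ * y * g) := by
      calc (g⁻¹ * y * g) * x = g⁻¹ * (y * (g * x * g⁻¹)) * g := by group
        _ = g⁻¹ * ((g * x * g⁻¹) * y) * g := by rw [hy]
        _ = x * (g⁻¹ * y * g) := by group
    obtain ⟨σ, hσ⟩ := F.surj _ h'
    refine ⟨σ, ?_⟩
    simp only [MonoidHom.coe_comp, Function.comp_apply, MulEquiv.coe_toMonoidHom, MulAut.conj_apply]
    rcases hσ with e | e
    · exact Or.inl (by rw [← e]; group)
    · refine Or.inr ?_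
      calc y = g * (g⁻¹ * y * g) * g⁻¹ := by group
        _ = _ := by rw [e]; group
  sq := by
    calc g * x * g⁻¹ * (g * x * g⁻¹) = g * (x * x) * g⁻¹ := by group
      _ = 1 := by rw [F.sq, mul_one, mul_inv_cancel]

/-- Renumbering the points. -/
def relabel (k : S7) : Fr x where
  ι := F.ι.comp (MulAut.conj k).toMonoidHom
  inj := F.inj.comp (MulAut.conj k).injective
  comm σ := F.comm _
  notmem σ := F.notmem _
  surj y hy := by
    obtain ⟨σ, hσ⟩ := F.surj y hy
    refine ⟨k⁻¹ * σ * k, ?_⟩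
    have e : (MulAut.conj k).toMonoidHom (k⁻¹ * σ * k) = σ := by
      simp [MulAut.conj_apply, mul_assoc]
    simp only [MonoidHom.coe_comp, Function.comp_apply, e]
    exact hσ
  sq := F.sq

theorem relabel_apply (k σ : S7) : (F.relabel k).ι σ = F.ι (k * σ * k⁻¹) := rfl

/-- Multiplying odd permutations by `x`. -/
def twist : Fr x where
  ι := MonoidHom.mk' (fun σ => (if Equiv.Perm.sign σ = -1 then x else 1) * F.ι σ) (fun σ τ => by
    rcases Int.units_eq_one_or (Equiv.Perm.sign σ) with h | h <;>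
      rcases Int.units_eq_one_or (Equiv.Perm.sign τ) with h' | h'
    · simp [h, h', map_mul]
    · simp only [h, h', map_mul, one_mul, if_true, if_neg (show (1 : ℤˣ) ≠ -1 by decide)]
      rw [← mul_assoc, ← mul_assoc, (F.comm σ).eq]
    · simp [h, h', map_mul, mul_assoc]
    · simp only [h, h', map_mul, if_true, if_neg (show (1 : ℤˣ) ≠ -1 by decide),
        show (-1 : ℤˣ) * -1 = 1 from rfl, one_mul]
      rw [(F.comm σ).symm.mul_mul_mul_comm, F.sq, one_mul])
  inj := by
    intro σ τ h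
    simp only [MonoidHom.mk'_apply] at h
    split_ifs at h
    · exact F.x_mul_inj h
    · exact absurd (by simpa using h) (F.x_mul_ne σ τ)
    · exact absurd (by simpa using h.symm) (F.x_mul_ne τ σ)
    · exact F.inj (by simpa using h)
  comm σ := by
    simp only [MonoidHom.mk'_apply]
    split_ifs
    · exact (Commute.refl x).mul_right (F.comm σ)
    · simpa using F.comm σ
  notmem σ := by
    simp only [MonoidHom.mk'_apply]
    intro h
    split_ifs at h with hs
    · rw [mul_eq_left] at h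
      rw [← map_one F.ι] at h
      rw [F.inj h, map_one] at hs
      exact absurd hs (by decide)
    · exact F.notmem σ (by simpa using h)
  surj y hy := by
    obtain ⟨σ, hσ⟩ := F.surj y hy
    refine ⟨σ, ?_⟩
    simp only [MonoidHom.mk'_apply]
    split_ifs
    · rcases hσ with e | e
      · exact Or.inr (by rw [e, ← mul_assoc, F.sq, one_mul])
      · exact Or.inl e
    · rwa [one_mul]
  sq := F.sq

theorem twist_odd {σ : S7} (h : Equiv.Perm.sign σ = -1) : F.twist.ι σ = x * F.ι σ := by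
  show (if Equiv.Perm.sign σ = -1 then x else 1) * F.ι σ = _
  rw [if_pos h]

theorem twist_even {σ : S7} (h : Equiv.Perm.sign σ = 1) : F.twist.ι σ = F.ι σ := by
  show (if Equiv.Perm.sign σ = -1 then x else 1) * F.ι σ = _
  rw [if_neg (by rw [h]; decide), one_mul]

theorem mem_centralizer (σ : S7) : F.ι σ ∈ centralizer ({x} : Set G) :=
  mem_centralizer_singleton_iff.2 (F.comm σ).symm.eq

theorem self_mem_centralizer : x ∈ centralizer ({x} : Set G) := mem_centralizer_singleton_iff.2 rfl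

/-- The homomorphism onto the centraliser. -/
def toC : ℤˣ × S7 →* centralizer ({x} : Set G) :=
  MonoidHom.mk' (fun p => if p.1 = -1 then ⟨x * F.ι p.2, mul_mem F.self_mem_centralizer (F.mem_centralizer _)⟩
    else ⟨F.ι p.2, F.mem_centralizer _⟩) (by
    rintro ⟨u, σ⟩ ⟨v, τ⟩
    apply Subtype.ext
    rcases Int.units_eq_one_or u with rfl | rfl <;> rcases Int.units_eq_one_or v with rfl | rfl
    · simp [map_mul]
    · simp only [Prod.mk_mul_mk, one_mul, if_true, if_neg (show (1 : ℤˣ) ≠ -1 by decide),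
        map_mul, Subgroup.coe_mul]
      rw [← mul_assoc, ← mul_assoc, (F.comm σ).eq]
    · simp [map_mul, mul_assoc]
    · simp only [Prod.mk_mul_mk, show (-1 : ℤˣ) * -1 = 1 from rfl, if_true,
        if_neg (show (1 : ℤˣ) ≠ -1 by decide), map_mul, Subgroup.coe_mul]
      rw [(F.comm σ).symm.mul_mul_mul_comm, F.sq, one_mul])

theorem toC_one (σ : S7) : (F.toC (1, σ) : G) = F.ι σ := rfl

theorem toC_neg (σ : S7) : (F.toC (-1, σ) : G) = x * F.ι σ := rfl

theorem toC_bijective : Function.Bijective F.toC := by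
  constructor
  · rintro ⟨u, σ⟩ ⟨v, τ⟩ h
    have h' := congrArg Subtype.val h
    rcases Int.units_eq_one_or u with rfl | rfl <;> rcases Int.units_eq_one_or v with rfl | rfl <;>
      simp only [toC_one, toC_neg] at h'
    · rw [F.inj h']
    · exact absurd h'.symm (F.x_mul_ne _ _)
    · exact absurd h' (F.x_mul_ne _ _)
    · rw [F.x_mul_inj h']
  · rintro ⟨g, hg⟩
    obtain ⟨σ, e | e⟩ := F.surj g (mem_centralizer_singleton_iff.1 hg)
    · exact ⟨(1, σ), Subtype.ext ((F.toC_one σ).trans e.symm)⟩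
    · exact ⟨(-1, σ), Subtype.ext ((F.toC_neg σ).trans e.symm)⟩

/-- Coordinates as an isomorphism. -/
noncomputable def equiv : ℤˣ × S7 ≃* centralizer ({x} : Set G) :=
  MulEquiv.ofBijective F.toC F.toC_bijective

theorem equiv_one (σ : S7) : (F.equiv (1, σ) : G) = F.ι σ := rfl

theorem equiv_neg (σ : S7) : (F.equiv (-1, σ) : G) = x * F.ι σ := rfl

theorem card_centralizer : Nat.card (centralizer ({x} : Set G)) = 10080 := by
  rw [← Nat.card_congr F.equiv.toEquiv, Nat.card_prod, Nat.card_eq_fintype_card (α := S7), Fintype.card_perm,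
    Fintype.card_fin, Nat.card_eq_fintype_card, Fintype.card_units_int]
  rfl

/-- The centraliser of a pair. -/
theorem pair_card (σ : S7) :
    Nat.card ↥(centralizer ({x} : Set G) ⊓ centralizer ({F.ι σ} : Set G)) =
      2 * Nat.card (centralizer ({σ} : Set S7)) := by
  have key : ∀ u τ, ((F.equiv (u, τ) : G) ∈ centralizer ({F.ι σ} : Set G)) ↔
      τ ∈ centralizer ({σ} : Set S7) := by
    intro u τ
    rw [mem_centralizer_singleton_iff, mem_centralizer_singleton_iff]
    rcases Int.units_eq_one_or u with rfl | rfl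
    · rw [equiv_one, ← map_mul, ← map_mul, F.inj.eq_iff]
    · rw [equiv_neg, mul_assoc, ← map_mul, ← mul_assoc (F.ι σ), ← (F.comm σ).eq, mul_assoc,
        ← map_mul]
      exact ⟨F.x_mul_inj, fun h => by rw [h]⟩
  rw [← show Nat.card ℤˣ = 2 by rw [Nat.card_eq_fintype_card, Fintype.card_units_int],
    ← Nat.card_prod]
  symm
  refine Nat.card_congr (Equiv.ofBijective
    (fun p : ℤˣ × centralizer ({σ} : Set S7) =>
      (⟨(F.equiv (p.1, p.2.1) : G), (F.equiv (p.1, p.2.1)).2, (key _ _).2 p.2.2⟩ :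
        ↥(centralizer ({x} : Set G) ⊓ centralizer ({F.ι σ} : Set G)))) ⟨?_, ?_⟩)
  · intro p q h
    have h0 : (F.equiv (p.1, p.2.1) : G) = (F.equiv (q.1, q.2.1) : G) :=
      congrArg (fun z : ↥(centralizer ({x} : Set G) ⊓ centralizer ({F.ι σ} : Set G)) => (z : G)) h
    have h1 := F.equiv.injective (Subtype.ext h0)
    exact Prod.ext (congrArg Prod.fst h1 :) (Subtype.ext (congrArg Prod.snd h1 :))
  · rintro ⟨g, hg1, hg2⟩
    obtain ⟨⟨u, τ⟩, e⟩ := F.equiv.surjective ⟨g, hg1⟩
    have e' : (F.equiv (u, τ) : G) = g := congrArg Subtype.val e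
    exact ⟨(u, ⟨τ, (key u τ).1 (e' ▸ hg2)⟩), Subtype.ext e'⟩

theorem centralizer_inf_mul (σ : S7) :
    centralizer ({x} : Set G) ⊓ centralizer ({x * F.ι σ} : Set G) =
      centralizer ({x} : Set G) ⊓ centralizer ({F.ι σ} : Set G) := by
  ext g
  simp only [mem_inf, mem_centralizer_singleton_iff]
  constructor
  · rintro ⟨h1, h2⟩
    refine ⟨h1, ?_⟩
    have e : F.ι σ = x * (x * F.ι σ) := by rw [← mul_assoc, F.sq, one_mul]
    rw [e]
    exact (Commute.mul_right h1 h2).eq
  · rintro ⟨h1, h2⟩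
    exact ⟨h1, (Commute.mul_right h1 h2).eq⟩

/-- The Sylow subgroup. -/
noncomputable def syl : Subgroup G :=
  (((⊤ : Subgroup ℤˣ).prod tGroup).map F.equiv.toMonoidHom).map (centralizer ({x} : Set G)).subtype

theorem mem_syl {g : G} : g ∈ F.syl ↔ ∃ σ ∈ tList, g = F.ι σ ∨ g = x * F.ι σ := by
  constructor
  · rintro ⟨_, ⟨⟨u, σ⟩, ⟨-, hσ⟩, rfl⟩, rfl⟩
    refine ⟨σ, hσ, ?_⟩
    rcases Int.units_eq_one_or u with rfl | rfl
    · exact Or.inl rfl
    · exact Or.inr rfl
  · rintro ⟨σ, hσ, rfl | rfl⟩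
    · exact ⟨_, ⟨(1, σ), ⟨mem_top _, hσ⟩, rfl⟩, rfl⟩
    · exact ⟨_, ⟨(-1, σ), ⟨mem_top _, hσ⟩, rfl⟩, rfl⟩

theorem syl_le : F.syl ≤ centralizer ({x} : Set G) := map_subtype_le _

theorem card_syl : Nat.card F.syl = 32 := by
  rw [syl, card_map_of_injective (centralizer ({x} : Set G)).subtype_injective,
    card_map_of_injective (f := F.equiv.toMonoidHom) F.equiv.injective,
    Nat.card_congr (prodEquiv _ _).toEquiv, Nat.card_prod, Subgroup.card_top, card_tGroup,
    Nat.card_eq_fintype_card, Fintype.card_units_int]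

theorem self_mem_syl : x ∈ F.syl :=
  F.mem_syl.2 ⟨1, by decide +kernel, Or.inr (by rw [map_one, mul_one])⟩

theorem ι_mem_syl {σ : S7} (h : σ ∈ tList) : F.ι σ ∈ F.syl := F.mem_syl.2 ⟨σ, h, Or.inl rfl⟩

theorem x_ι_mem_syl {σ : S7} (h : σ ∈ tList) : x * F.ι σ ∈ F.syl := F.mem_syl.2 ⟨σ, h, Or.inr rfl⟩

theorem ι_of_mem_syl {σ : S7} (h : F.ι σ ∈ F.syl) : σ ∈ tList := by
  obtain ⟨τ, hτ, e | e⟩ := F.mem_syl.1 h
  · exact F.inj e ▸ hτ
  · exact absurd e.symm (F.x_mul_ne _ _)

theorem syl_normalizer {n : G} (hx : n * x = x * n) (hn : ∀ g ∈ F.syl, n * g * n⁻¹ ∈ F.syl) :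
    n ∈ F.syl := by
  obtain ⟨σ, hσ⟩ := F.surj n hx
  have h : ∀ τ ∈ tList, σ * τ * σ⁻¹ ∈ tList := by
    intro τ hτ
    have h1 := hn _ (F.ι_mem_syl hτ)
    refine F.ι_of_mem_syl ?_
    rcases hσ with rfl | rfl
    · rwa [map_mul, map_mul, map_inv]
    · have e : x * F.ι σ * F.ι τ * (x * F.ι σ)⁻¹ = F.ι (σ * τ * σ⁻¹) := by
        rw [mul_assoc x, ← map_mul, (F.comm _).eq, mul_inv_rev, F.inv_self, map_mul, map_mul, map_inv]
        have := (F.comm σ⁻¹).eq
        rw [map_inv] at this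
        rw [mul_assoc (F.ι σ * F.ι τ) x, ← mul_assoc x (F.ι σ)⁻¹, this, mul_assoc _ x x, F.sq,
          mul_one, map_mul]
      rwa [e] at h1
  have := tGroup_normal h
  rcases hσ with rfl | rfl
  exacts [F.ι_mem_syl this, F.x_ι_mem_syl this]

end Fr

end Cfsg.Agent.SevenInv
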