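import Cfsg.Agent.Lib.SevenInv.Classes

/-!
The normaliser of the Sylow subgroup acts regularly on the central members of the class; this leaves
two patterns up to coordinates.
-/

set_option autoImplicit false
set_option linter.unusedSectionVars false
set_option maxRecDepth 100000

namespace Cfsg.Agent.SevenInv

open Subgroup

variable {G : Type*} [Group G] [Finite G]

theorem factorization_10080 : (10080 : ℕ).factorization 2 = 5 := by
  rw [show (10080 : ℕ) = 2 ^ 5 * 315 by rfl, Nat.factorization_mul (by norm_num) (by norm_num),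
    Nat.Prime.factorization_pow Nat.prime_two, Finsupp.add_apply, Finsupp.single_eq_same,
    Nat.factorization_eq_zero_of_not_dvd (by norm_num)]

/-- Two subgroups of order 32 in a subgroup of a centraliser of order 10080 are conjugate in it. -/
theorem sylow_conj {I S S' : Subgroup G} (hI : Nat.card I ∣ 10080) (hS : S ≤ I) (hS' : S' ≤ I)
    (h : Nat.card S = 32) (h' : Nat.card S' = 32) :
    ∃ c ∈ I, ∀ g ∈ S', c * g * c⁻¹ ∈ S := by
  haveI : Fact (Nat.Prime 2) := ⟨Nat.prime_two⟩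
  have hdvd : 32 ∣ Nat.card I := h ▸ card_dvd_of_le hS
  have hfac : (Nat.card I).factorization 2 = 5 := by
    refine le_antisymm ?_ ((Nat.Prime.pow_dvd_iff_le_factorization Nat.prime_two Nat.card_pos.ne').1 hdvd)
    rw [← factorization_10080]
    exact (Nat.factorization_le_iff_dvd Nat.card_pos.ne' (by norm_num)).2 hI 2
  have mk : ∀ R : Subgroup G, R ≤ I → Nat.card R = 32 → ∃ P : Sylow 2 I, (P : Subgroup I) = R.subgroupOf I := by
    intro R hR hc
    refine ⟨Sylow.ofCard (R.subgroupOf I) ?_, rfl⟩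
    rw [Nat.card_congr (subgroupOfEquivOfLe hR).toEquiv, hc, hfac]; rfl
  obtain ⟨P, hP⟩ := mk S hS h
  obtain ⟨Q, hQ⟩ := mk S' hS' h'
  obtain ⟨c, hc⟩ := MulAction.exists_smul_eq I Q P
  refine ⟨c, c.2, fun g hg => ?_⟩
  have h1 : (⟨g, hS' hg⟩ : I) ∈ (Q : Subgroup I) := by rw [hQ]; exact hg
  have h2 : c * ⟨g, hS' hg⟩ * c⁻¹ ∈ (P : Subgroup I) := by
    rw [← hc, Sylow.coe_subgroup_smul]
    exact ⟨_, h1, rfl⟩
  rw [hP] at h2
  exact h2

/-- The image of the Sylow subgroup under conjugation. -/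
def conjImage (g : G) (S : Subgroup G) : Subgroup G := S.map (MulAut.conj g).toMonoidHom

theorem card_conjImage (g : G) (S : Subgroup G) : Nat.card (conjImage g S) = Nat.card S :=
  card_map_of_injective (MulAut.conj g).injective

theorem conjImage_le {g x : G} {S : Subgroup G} (h : S ≤ centralizer ({x} : Set G)) :
    conjImage g S ≤ centralizer ({g * x * g⁻¹} : Set G) := by
  rintro _ ⟨s, hs, rfl⟩
  rw [mem_centralizer_singleton_iff]
  simp only [MulEquiv.coe_toMonoidHom, MulAut.conj_apply]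
  have := mem_centralizer_singleton_iff.1 (h hs)
  calc g * s * g⁻¹ * (g * x * g⁻¹) = g * (s * x) * g⁻¹ := by group
    _ = g * (x * s) * g⁻¹ := by rw [this]
    _ = g * x * g⁻¹ * (g * s * g⁻¹) := by group

variable {t : G} (F : Fr t)
include F

/-- Conjugation by `n` preserves the Sylow subgroup. -/
def Pres (n : G) : Prop := ∀ g ∈ F.syl, n * g * n⁻¹ ∈ F.syl

variable {F}

theorem Pres.mul {m n : G} (hm : Pres F m) (hn : Pres F n) : Pres F (m * n) := fun g hg => by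
  have := hm _ (hn g hg)
  convert this using 1
  group

theorem Pres.inv {n : G} (hn : Pres F n) : Pres F n⁻¹ := by
  intro g hg
  let f : F.syl → F.syl := fun x => ⟨n * x * n⁻¹, hn x x.2⟩
  have hf : Function.Injective f := fun a b h => Subtype.ext (by
    simpa [f] using congrArg (fun z : F.syl => (z : G)) h)
  obtain ⟨x, hx⟩ := (Finite.injective_iff_surjective.1 hf) ⟨g, hg⟩
  have hx' : n * x * n⁻¹ = g := congrArg (fun z : F.syl => (z : G)) hx
  rw [← hx']
  convert x.2 using 1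
  group

variable (F)

/-- Membership in the centraliser of a conjugate of `t` that centralises the Sylow subgroup. -/
def Cen (q : G) : Prop := IsConj t q ∧ ∀ g ∈ F.syl, q * g = g * q

theorem cen_self : Cen F t :=
  ⟨IsConj.refl t, fun g hg => (mem_centralizer_singleton_iff.1 (F.syl_le hg)).symm⟩

variable {F}

theorem Cen.map {q n : G} (hq : Cen F q) (hn : Pres F n) : Cen F (n * q * n⁻¹) := by
  refine ⟨hq.1.trans (isConj_iff.2 ⟨n, rfl⟩), fun g hg => ?_⟩
  have h := hq.2 _ (hn.inv g hg)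
  rw [inv_inv] at h
  calc n * q * n⁻¹ * g = n * (q * (n⁻¹ * g * n)) * n⁻¹ := by group
    _ = n * (n⁻¹ * g * n * q) * n⁻¹ := by rw [h]
    _ = g * (n * q * n⁻¹) := by group

variable (F)

theorem exists_pres {q : G} (hq : Cen F q) : ∃ d, Pres F d ∧ d * t * d⁻¹ = q := by
  obtain ⟨g, hg⟩ := isConj_iff.1 hq.1
  have hS : F.syl ≤ centralizer ({q} : Set G) := fun s hs =>
    mem_centralizer_singleton_iff.2 (hq.2 s hs).symm
  have hS' : conjImage g F.syl ≤ centralizer ({q} : Set G) := hg ▸ conjImage_le F.syl_le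
  have hI : Nat.card (centralizer ({q} : Set G)) ∣ 10080 := by
    rw [← hg, (F.conj g).card_centralizer]
  obtain ⟨c, hc, hcS⟩ := sylow_conj hI hS hS' F.card_syl (by rw [card_conjImage, F.card_syl])
  refine ⟨c * g, fun s hs => ?_, ?_⟩
  · have := hcS (g * s * g⁻¹) ⟨s, hs, rfl⟩
    convert this using 1
    group
  · calc c * g * t * (c * g)⁻¹ = c * (g * t * g⁻¹) * c⁻¹ := by group
      _ = c * q * c⁻¹ := by rw [hg]
      _ = q := by rw [mem_centralizer_singleton_iff.1 hc, mul_inv_cancel_right]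

/-- The regularity of the action. -/
theorem regular {q n : G} (hq : Cen F q) (hn : Pres F n) (hfix : n * q * n⁻¹ = q) : n ∈ F.syl := by
  obtain ⟨d, hd, hdt⟩ := exists_pres F hq
  have hm : d⁻¹ * n * d ∈ F.syl := by
    refine F.syl_normalizer ?_ ((hd.inv.mul hn).mul hd)
    have h1 : n * q = q * n := mul_inv_eq_iff_eq_mul.1 hfix
    rw [← hdt] at h1
    calc d⁻¹ * n * d * t = d⁻¹ * (n * (d * t * d⁻¹)) * d := by group
      _ = d⁻¹ * (d * t * d⁻¹ * n) * d := by rw [h1]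
      _ = t * (d⁻¹ * n * d) := by group
  have := hd _ hm
  convert this using 1
  group

theorem fix_all {q n r : G} (hq : Cen F q) (hn : Pres F n) (hfix : n * q * n⁻¹ = q) (hr : Cen F r) :
    n * r * n⁻¹ = r := by
  rw [← hr.2 n (regular F hq hn hfix), mul_inv_cancel_right]

theorem cen_ι {σ : S7} (hσ : σ ∈ tCentre) (h : IsConj t (F.ι σ)) : Cen F (F.ι σ) := by
  refine ⟨h, fun g hg => ?_⟩
  obtain ⟨τ, hτ, e | e⟩ := F.mem_syl.1 hg <;> rw [e]
  · rw [← map_mul, ← map_mul, centre_comm hσ hτ]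
  · rw [← mul_assoc, ← (F.comm σ).eq, mul_assoc, ← map_mul, centre_comm hσ hτ, map_mul, ← mul_assoc]

theorem cen_mul {σ : S7} (hσ : σ ∈ tCentre) (h : IsConj t (t * F.ι σ)) : Cen F (t * F.ι σ) := by
  refine ⟨h, fun g hg => ?_⟩
  obtain ⟨τ, hτ, e | e⟩ := F.mem_syl.1 hg <;> rw [e]
  · rw [mul_assoc, ← map_mul, centre_comm hσ hτ, map_mul, ← mul_assoc, (F.comm τ).eq, mul_assoc]
  · rw [(F.comm σ).symm.mul_mul_mul_comm, (F.comm τ).symm.mul_mul_mul_comm, ← map_mul, ← map_mul,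
      centre_comm hσ hτ]

theorem classify_cen {q : G} (hq : Cen F q) :
    q = t ∨ (IsConj t (F.ι pW) ∧ q = F.ι pW) ∨ (IsConj t (t * F.ι pW) ∧ q = t * F.ι pW) ∨
      (IsConj t (t * F.ι pZ) ∧ q = t * F.ι pZ) ∨ (IsConj t (F.ι pT) ∧ q = F.ι pT) ∨
      (IsConj t (t * F.ι pT) ∧ q = t * F.ι pT) := by
  have hqt : q * t = t * q := hq.2 t F.self_mem_syl
  rcases classify F hqt hq.1 with e | ⟨σ, -, h1, e⟩
  · exact Or.inl e
  have hcomm : ∀ τ : S7, τ ∈ tList → σ * τ = τ * σ := by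
    intro τ hτ
    have h := hq.2 _ (F.ι_mem_syl hτ)
    rcases e with e | e <;> rw [e] at h
    · exact F.inj (by rw [map_mul, map_mul, h])
    · refine F.inj ?_
      rw [mul_assoc, ← mul_assoc (F.ι τ), ← (F.comm τ).eq, mul_assoc] at h
      rw [map_mul, map_mul, mul_left_cancel h]
  have hσT : σ ∈ tList := by
    apply tGroup_normal
    intro τ hτ
    rw [hcomm τ hτ, mul_inv_cancel_right]; exact hτ
  have hc := tList_centre hσT hcomm
  simp only [tCentre, List.mem_cons, List.not_mem_nil, or_false] at hc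
  rcases hc with rfl | rfl | rfl | rfl
  · exact absurd rfl h1
  · rcases e with e | e <;> subst e
    · exact Or.inr (Or.inl ⟨hq.1, rfl⟩)
    · exact Or.inr (Or.inr (Or.inl ⟨hq.1, rfl⟩))
  · rcases e with e | e <;> subst e
    · exact absurd hq.1 (z_not_conj F)
    · exact Or.inr (Or.inr (Or.inr (Or.inl ⟨hq.1, rfl⟩)))
  · rcases e with e | e <;> subst e
    · exact Or.inr (Or.inr (Or.inr (Or.inr (Or.inl ⟨hq.1, rfl⟩))))
    · exact Or.inr (Or.inr (Or.inr (Or.inr (Or.inr ⟨hq.1, rfl⟩))))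

/-- A swap of `t` with one of the other two central members is impossible. -/
theorem no_swap {p q : G} (hp : Cen F p) (hq : Cen F q) (htp : t ≠ p) (hqt : q ≠ t) (hqp : q ≠ p)
    (hall : ∀ r, Cen F r → r = t ∨ r = p ∨ r = q) {γ : G} (h1 : γ * t * γ⁻¹ = p)
    (h2 : γ * p * γ⁻¹ = t) : False := by
  set I := centralizer ({t} : Set G) ⊓ centralizer ({p} : Set G) with hIdef
  have hS : F.syl ≤ I := le_inf F.syl_le fun s hs => mem_centralizer_singleton_iff.2 (hp.2 s hs).symm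
  have hS' : conjImage γ F.syl ≤ I := by
    refine le_inf ?_ (h1 ▸ conjImage_le F.syl_le)
    have h := conjImage_le (g := γ) (x := p) (hS.trans inf_le_right)
    rwa [h2] at h
  have hI : Nat.card I ∣ 10080 := F.card_centralizer ▸ card_dvd_of_le inf_le_left
  obtain ⟨c, hc, hcS⟩ := sylow_conj hI hS hS' F.card_syl (by rw [card_conjImage, F.card_syl])
  have hn : Pres F (c * γ) := fun s hs => by
    have := hcS (γ * s * γ⁻¹) ⟨s, hs, rfl⟩
    convert this using 1
    group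
  obtain ⟨hc1, hc2⟩ := mem_inf.1 hc
  have e1 : c * γ * t * (c * γ)⁻¹ = p := by
    calc c * γ * t * (c * γ)⁻¹ = c * (γ * t * γ⁻¹) * c⁻¹ := by group
      _ = p := by rw [h1, mem_centralizer_singleton_iff.1 hc2, mul_inv_cancel_right]
  have e2 : c * γ * p * (c * γ)⁻¹ = t := by
    calc c * γ * p * (c * γ)⁻¹ = c * (γ * p * γ⁻¹) * c⁻¹ := by group
      _ = t := by rw [h2, mem_centralizer_singleton_iff.1 hc1, mul_inv_cancel_right]
  have e3 : c * γ * q * (c * γ)⁻¹ = q := by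
    have inj : ∀ a b : G, c * γ * a * (c * γ)⁻¹ = c * γ * b * (c * γ)⁻¹ → a = b := fun a b h => by
      simpa using h
    rcases hall _ (hq.map hn) with e | e | e
    · exact absurd (inj q p (e.trans e2.symm)) hqp
    · exact absurd (inj q t (e.trans e1.symm)) hqt
    · exact e
  exact htp ((fix_all F hq hn e3 (cen_self F)).symm.trans e1)

/-- Three central members are impossible when two commuting members of one type are interchanged. -/
theorem no_three {σ σ' k τ : S7} (hkσ : k * σ * k⁻¹ = σ') (hkσ' : k * σ' * k⁻¹ = σ)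
    (hcomm : σ * σ' = σ' * σ) (hne : σ ≠ σ') {p q : G} (hpσ : p = F.ι σ)
    (hp : Cen F p) (hq : Cen F q) (hqτ : q = F.ι τ ∨ q = t * F.ι τ) (hqt : q ≠ t) (hqp : q ≠ p)
    (hclass : ∀ g, g * t = t * g → IsConj t g → g = t ∨
      (∃ c, c * t = t * c ∧ c * p * c⁻¹ = g) ∨ ∃ c, c * t = t * c ∧ c * q * c⁻¹ = g)
    (hall : ∀ r, Cen F r → r = t ∨ r = p ∨ r = q) : False := by
  have htp : t ≠ p := fun h => F.notmem σ (by rw [← hpσ, h])
  obtain ⟨d, hd, hdt⟩ := exists_pres F hp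
  have inj : ∀ {n a b : G}, n * a * n⁻¹ = n * b * n⁻¹ → a = b := fun h => by simpa using h
  have hdp : d * p * d⁻¹ = q := by
    rcases hall _ (hp.map hd) with e | e | e
    · exact (no_swap F hp hq htp hqt hqp hall hdt e).elim
    · exact absurd (inj (e.trans hdt.symm)) (Ne.symm htp)
    · exact e
  have hdq : d * q * d⁻¹ = t := by
    rcases hall _ (hq.map hd) with e | e | e
    · exact e
    · exact absurd (inj (e.trans hdt.symm)) hqt
    · exact absurd (inj (e.trans hdp.symm)) hqp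
  set p' := F.ι σ' with hp'
  have hp'D : IsConj t p' := by
    rw [hp', ← hkσ]
    exact (hpσ ▸ hp.1).trans (isConj_map F (isConj_iff.2 ⟨k, rfl⟩))
  have s1 : F.ι k * p * (F.ι k)⁻¹ = p' := by rw [hpσ, hp', ← hkσ, map_mul, map_mul, map_inv]
  have s2 : F.ι k * p' * (F.ι k)⁻¹ = p := by rw [hpσ, hp', ← map_inv, ← map_mul, ← map_mul, hkσ']
  obtain ⟨γ, hγ⟩ := isConj_iff.1 hp.1
  have hg : IsConj t (γ⁻¹ * p' * γ) :=
    hp'D.trans (isConj_iff.2 ⟨γ⁻¹, by rw [inv_inv]⟩)
  have hgt : γ⁻¹ * p' * γ * t = t * (γ⁻¹ * p' * γ) := by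
    have h : p' * p = p * p' := by rw [hp', hpσ, ← map_mul, ← map_mul, hcomm]
    calc γ⁻¹ * p' * γ * t = γ⁻¹ * (p' * (γ * t * γ⁻¹)) * γ := by group
      _ = γ⁻¹ * (p' * p) * γ := by rw [hγ]
      _ = γ⁻¹ * (γ * t * γ⁻¹ * p') * γ := by rw [h, hγ]
      _ = t * (γ⁻¹ * p' * γ) := by group
  -- `R x y`: the pair `(t, p)` is conjugate to `(x, y)`
  have hR : (∃ g, g * t * g⁻¹ = p ∧ g * p * g⁻¹ = p') ∨
      (∃ g, g * t * g⁻¹ = p' ∧ g * p * g⁻¹ = p) := by
    rcases hclass _ hgt hg with e | ⟨c, hct, hce⟩ | ⟨c, hct, hce⟩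
    · exfalso
      have : p' = p := by rw [← hγ]; conv_rhs => rw [← e]
                          group
      exact hne (F.inj (by rw [← hpσ, ← hp', this]))
    · refine Or.inl ⟨γ * c, ?_, ?_⟩
      · calc γ * c * t * (γ * c)⁻¹ = γ * (c * t * c⁻¹) * γ⁻¹ := by group
          _ = p := by rw [hct, mul_inv_cancel_right, hγ]
      · calc γ * c * p * (γ * c)⁻¹ = γ * (c * p * c⁻¹) * γ⁻¹ := by group
          _ = p' := by rw [hce]; group
    · refine Or.inr ⟨γ * c * d⁻¹, ?_, ?_⟩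
      · calc γ * c * d⁻¹ * t * (γ * c * d⁻¹)⁻¹ = γ * (c * (d⁻¹ * t * d) * c⁻¹) * γ⁻¹ := by group
          _ = γ * (c * q * c⁻¹) * γ⁻¹ := by rw [← hdq]; group
          _ = p' := by rw [hce]; group
      · calc γ * c * d⁻¹ * p * (γ * c * d⁻¹)⁻¹ = γ * (c * (d⁻¹ * p * d) * c⁻¹) * γ⁻¹ := by group
          _ = γ * (c * t * c⁻¹) * γ⁻¹ := by rw [← hdt]; group
          _ = p := by rw [hct, mul_inv_cancel_right, hγ]
  obtain ⟨g1, a1, a2, g2, b1, b2⟩ : ∃ g1, g1 * t * g1⁻¹ = p ∧ g1 * p * g1⁻¹ = p' ∧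
      ∃ g2, g2 * t * g2⁻¹ = p' ∧ g2 * p * g2⁻¹ = p := by
    have flip : ∀ {g x y x' y' : G}, F.ι k * x * (F.ι k)⁻¹ = x' → F.ι k * y * (F.ι k)⁻¹ = y' →
        g * t * g⁻¹ = x → g * p * g⁻¹ = y →
        F.ι k * g * t * (F.ι k * g)⁻¹ = x' ∧ F.ι k * g * p * (F.ι k * g)⁻¹ = y' := by
      rintro g x y x' y' rfl rfl rfl rfl
      constructor <;> group
    rcases hR with ⟨g, x, y⟩ | ⟨g, x, y⟩
    · exact ⟨g, x, y, _, flip s1 s2 x y⟩
    · obtain ⟨u, v⟩ := flip s2 s1 x y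
      exact ⟨_, u, v, g, x, y⟩
  refine no_swap F hp hq htp hqt hqp hall (γ := g1⁻¹ * g2) ?_ ?_
  · calc g1⁻¹ * g2 * t * (g1⁻¹ * g2)⁻¹ = g1⁻¹ * (g2 * t * g2⁻¹) * g1 := by group
      _ = g1⁻¹ * (g1 * p * g1⁻¹) * g1 := by rw [b1, a2]
      _ = p := by group
  · calc g1⁻¹ * g2 * p * (g1⁻¹ * g2)⁻¹ = g1⁻¹ * (g2 * p * g2⁻¹) * g1 := by group
      _ = g1⁻¹ * (g1 * t * g1⁻¹) * g1 := by rw [b2, a1]
      _ = t := by group

/-- Conjugates inside the centraliser. -/
theorem conj_in {σ τ : S7} (h : IsConj σ τ) :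
    (∃ c, c * t = t * c ∧ c * F.ι σ * c⁻¹ = F.ι τ) ∧
      ∃ c, c * t = t * c ∧ c * (t * F.ι σ) * c⁻¹ = t * F.ι τ := by
  obtain ⟨k, rfl⟩ := isConj_iff.1 h
  refine ⟨⟨F.ι k, (F.comm k).symm.eq, by rw [map_mul, map_mul, map_inv]⟩,
    F.ι k, (F.comm k).symm.eq, ?_⟩
  rw [map_mul, map_mul, map_inv, ← mul_assoc (F.ι k) t, ← (F.comm k).eq]
  group

theorem e_holds (hno : ¬ ∃ H : Subgroup G, H.index = 2) : IsConj t (t * F.ι pZ) := by
  by_contra hE
  obtain ⟨h1, h3⟩ := parity F hno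
  have hz := z_not_conj F
  have hBH : IsConj t (t * F.ι pW) ↔ ¬ IsConj t (t * F.ι pT) := by
    rw [h1]; simp only [hE, false_iff]
  have hAF : IsConj t (F.ι pW) ↔ ¬ IsConj t (F.ι pT) := by
    rw [h3]; simp only [hE, false_iff]
  -- the two members besides `t`
  obtain ⟨σ, σ', k, hkσ, hkσ', hcomm, hne, hσc, hσD, hσu⟩ :
      ∃ σ σ' k : S7, k * σ * k⁻¹ = σ' ∧ k * σ' * k⁻¹ = σ ∧ σ * σ' = σ' * σ ∧ σ ≠ σ' ∧
        σ ∈ tCentre ∧ IsConj t (F.ι σ) ∧
        ∀ ρ : S7, (ρ = pW ∨ ρ = pT) → IsConj t (F.ι ρ) → ρ = σ := by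
    by_cases hA : IsConj t (F.ι pW)
    · refine ⟨pW, pB, Equiv.swap 0 4 * Equiv.swap 1 5, by decide +kernel, by decide +kernel,
        by decide +kernel, by decide +kernel, by simp [tCentre], hA, ?_⟩
      rintro ρ (rfl | rfl) h
      · rfl
      · exact absurd h (hAF.1 hA)
    · refine ⟨pT, Equiv.swap 0 1 * Equiv.swap 2 4 * Equiv.swap 3 5, Equiv.swap 3 4, by decide +kernel,
        by decide +kernel, by decide +kernel, by decide +kernel, by simp [tCentre], ?_, ?_⟩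
      · exact not_not.1 fun h => hA (hAF.2 h)
      rintro ρ (rfl | rfl) h
      · exact absurd h hA
      · rfl
  obtain ⟨τ, hτc, hτD, hτ1, hτu⟩ :
      ∃ τ : S7, τ ∈ tCentre ∧ IsConj t (t * F.ι τ) ∧ τ ≠ 1 ∧
        ∀ ρ : S7, (ρ = pW ∨ ρ = pT) → IsConj t (t * F.ι ρ) → ρ = τ := by
    by_cases hB : IsConj t (t * F.ι pW)
    · refine ⟨pW, by simp [tCentre], hB, by decide +kernel, ?_⟩
      rintro ρ (rfl | rfl) h
      · rfl
      · exact absurd h (hBH.1 hB)
    · refine ⟨pT, by simp [tCentre], not_not.1 fun h => hB (hBH.2 h), by decide +kernel, ?_⟩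
      rintro ρ (rfl | rfl) h
      · exact absurd h hB
      · rfl
  refine no_three F hkσ hkσ' hcomm hne rfl (cen_ι F hσc hσD) (cen_mul F hτc hτD) (Or.inr rfl)
    (fun h => hτ1 (F.inj (by rw [map_one]; exact mul_eq_left.1 h))) (F.x_mul_ne _ _) ?_ ?_
  · intro g hgt hgD
    rcases classify F hgt hgD with e | ⟨ρ, r2, r1, e⟩
    · exact Or.inl e
    rcases class_cases ρ r2 r1 with hr | hr | hr <;> rcases e with e | e <;> subst e
    · refine Or.inr (Or.inl ?_)
      rw [← hσu _ (Or.inl rfl) (hgD.trans (isConj_map F hr).symm)]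
      exact (conj_in F hr).1
    · refine Or.inr (Or.inr ?_)
      rw [← hτu _ (Or.inl rfl) (hgD.trans (isConj_mul_map F hr).symm)]
      exact (conj_in F hr).2
    · exact absurd (hgD.trans (isConj_map F hr).symm) hz
    · exact absurd (hgD.trans (isConj_mul_map F hr).symm) hE
    · refine Or.inr (Or.inl ?_)
      rw [← hσu _ (Or.inr rfl) (hgD.trans (isConj_map F hr).symm)]
      exact (conj_in F hr).1
    · refine Or.inr (Or.inr ?_)
      rw [← hτu _ (Or.inr rfl) (hgD.trans (isConj_mul_map F hr).symm)]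
      exact (conj_in F hr).2
  · intro r hr
    rcases classify_cen F hr with e | ⟨h, e⟩ | ⟨h, e⟩ | ⟨h, e⟩ | ⟨h, e⟩ | ⟨h, e⟩
    · exact Or.inl e
    · exact Or.inr (Or.inl (by rw [e, hσu _ (Or.inl rfl) h]))
    · exact Or.inr (Or.inr (by rw [e, hτu _ (Or.inl rfl) h]))
    · exact absurd h hE
    · exact Or.inr (Or.inl (by rw [e, hσu _ (Or.inr rfl) h]))
    · exact Or.inr (Or.inr (by rw [e, hτu _ (Or.inr rfl) h]))

/-- An element interchanging `t` and `t z`. -/
theorem exists_swap_z (hE : IsConj t (t * F.ι pZ)) :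
    ∃ g, Pres F g ∧ g * t * g⁻¹ = t * F.ι pZ ∧ g * (t * F.ι pZ) * g⁻¹ = t ∧
      g * F.ι pZ * g⁻¹ = F.ι pZ ∧ g * g ∈ F.syl := by
  obtain ⟨g, hg, hgt⟩ := exists_pres F (cen_mul F (by simp [tCentre]) hE)
  have hz : g * F.ι pZ * g⁻¹ = F.ι pZ := by
    have hmem := hg _ (F.ι_mem_syl (σ := pA * pB) (mem_of_code (by decide +kernel)))
    obtain ⟨σ, hσ, e⟩ := F.mem_syl.1 hmem
    have hsq : g * F.ι pZ * g⁻¹ = F.ι (σ * σ) := by
      rw [← pZ_eq_sq, map_mul _ (pA * pB)]
      refine (conj_sq g rfl).trans ?_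
      rcases e with e | e <;> rw [e]
      · rw [map_mul]
      · rw [F.x_mul_sq]
    rcases tList_sq σ hσ with s | s
    · rw [s, map_one, conj_eq_one_iff, ← map_one F.ι] at hsq
      exact absurd (F.inj hsq) (by decide +kernel)
    · rw [hsq, s]
  have hz2 : F.ι pZ * F.ι pZ = 1 := by rw [← map_mul, show pZ * pZ = 1 by decide +kernel, map_one]
  have hback : g * (t * F.ι pZ) * g⁻¹ = t := by
    calc g * (t * F.ι pZ) * g⁻¹ = g * t * g⁻¹ * (g * F.ι pZ * g⁻¹) := by group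
      _ = t * F.ι pZ * F.ι pZ := by rw [hgt, hz]
      _ = t := by rw [mul_assoc, hz2, mul_one]
  refine ⟨g, hg, hgt, hback, hz, regular F (cen_self F) (hg.mul hg) ?_⟩
  calc g * g * t * (g * g)⁻¹ = g * (g * t * g⁻¹) * g⁻¹ := by group
    _ = t := by rw [hgt, hback]

/-- The possible patterns. -/
theorem pattern (hno : ¬ ∃ H : Subgroup G, H.index = 2) :
    PatTwo F ∨ PatFour F ∨ PatFour F.twist := by
  have hE := e_holds F hno
  obtain ⟨h1, h3⟩ := parity F hno
  obtain ⟨g, hg, hgt, hback, hz, hgg⟩ := exists_swap_z F hE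
  -- the image of the transposition
  have hw : F.ι pW ∈ F.syl := F.ι_mem_syl pW_mem
  set v := g * F.ι pW * g⁻¹ with hv
  have hvc : ∀ s ∈ F.syl, v * s = s * v := by
    intro s hs
    have h := hg.inv s hs
    rw [inv_inv] at h
    have hc : F.ι pW * (g⁻¹ * s * g) = g⁻¹ * s * g * F.ι pW := by
      obtain ⟨τ, hτ, e | e⟩ := F.mem_syl.1 h <;> rw [e]
      · rw [← map_mul, ← map_mul, centre_comm (by simp [tCentre]) hτ]
      · rw [← mul_assoc, ← (F.comm pW).eq, mul_assoc, ← map_mul,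
          centre_comm (by simp [tCentre]) hτ, map_mul, ← mul_assoc]
    calc v * s = g * (F.ι pW * (g⁻¹ * s * g)) * g⁻¹ := by rw [hv]; group
      _ = g * (g⁻¹ * s * g * F.ι pW) * g⁻¹ := by rw [hc]
      _ = s * v := by rw [hv]; group
  obtain ⟨σ, hσ, hσe⟩ := F.mem_syl.1 (hg _ hw)
  have hgg2 : g * (g * F.ι pW * g⁻¹) * g⁻¹ = F.ι pW := by
    have h := (mem_centralizer_singleton_iff.1 (F.syl_le hgg))
    obtain ⟨τ, hτ, e | e⟩ := F.mem_syl.1 hgg
    · calc g * (g * F.ι pW * g⁻¹) * g⁻¹ = g * g * F.ι pW * (g * g)⁻¹ := by group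
        _ = F.ι (τ * pW * τ⁻¹) := by rw [e, map_mul, map_mul, map_inv]
        _ = _ := by rw [← centre_comm (by simp [tCentre]) hτ, mul_inv_cancel_right]
    · calc g * (g * F.ι pW * g⁻¹) * g⁻¹ = g * g * F.ι pW * (g * g)⁻¹ := by group
        _ = t * (F.ι τ * F.ι pW * (F.ι τ)⁻¹) * t⁻¹ := by rw [e]; group
        _ = t * F.ι pW * t⁻¹ := by
          rw [← map_inv, ← map_mul, ← map_mul, ← centre_comm (by simp [tCentre]) hτ, mul_inv_cancel_right]
        _ = _ := by rw [(F.comm pW).eq, mul_inv_cancel_right]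
  have hcomm : ∀ τ : S7, τ ∈ tList → σ * τ = τ * σ := by
    intro τ hτ
    have h := hvc _ (F.ι_mem_syl hτ)
    rcases hσe with e | e <;> rw [hv, e] at h
    · exact F.inj (by rw [map_mul, map_mul, h])
    · refine F.inj ?_
      rw [mul_assoc, ← mul_assoc (F.ι τ), ← (F.comm τ).eq, mul_assoc] at h
      rw [map_mul, map_mul, mul_left_cancel h]
  have hc := tList_centre hσ hcomm
  simp only [tCentre, List.mem_cons, List.not_mem_nil, or_false] at hc
  have inj : ∀ {a b : G}, g * a * g⁻¹ = g * b * g⁻¹ → a = b := fun h => by simpa using h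
  have wz : pW * pZ = pT := by decide +kernel
  have hT : g * F.ι pT * g⁻¹ = v * F.ι pZ := by
    rw [← wz, map_mul, hv]
    calc g * (F.ι pW * F.ι pZ) * g⁻¹ = g * F.ι pW * g⁻¹ * (g * F.ι pZ * g⁻¹) := by group
      _ = _ := by rw [hz]
  have hne1 : ∀ {τ : S7}, τ ≠ 1 → F.ι τ ≠ 1 := fun h e => h (F.inj (by rw [e, map_one]))
  -- `g` fixes no member other than possibly none
  have nofix : ∀ {r : G}, Cen F r → g * r * g⁻¹ ≠ r := by
    intro r hr hfix
    have e := (fix_all F hr hg hfix (cen_self F))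
    rw [hgt] at e
    exact hne1 (τ := pZ) (by decide +kernel) (mul_eq_left.1 e)
  have gtσ : ∀ ρ : S7, g * (t * F.ι ρ) * g⁻¹ = t * F.ι pZ * (g * F.ι ρ * g⁻¹) := fun ρ => by
    rw [← hgt]; group
  have zc : ∀ {ρ : S7}, ρ ∈ tList → F.ι pZ * F.ι ρ = F.ι ρ * F.ι pZ := fun hρ => by
    rw [← map_mul, ← map_mul, centre_comm (by simp [tCentre]) hρ]
  rcases hσe with e | e <;> rw [← hv] at e <;> rcases hc with rfl | rfl | rfl | rfl
  · rw [map_one, hv, conj_eq_one_iff] at e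
    exact absurd e (hne1 (by decide +kernel))
  · -- `g` fixes the transposition
    have hA : ¬ IsConj t (F.ι pW) := fun h => nofix (cen_ι F (by simp [tCentre]) h) (hv ▸ e)
    have hF : ¬ IsConj t (F.ι pT) := fun h => nofix (cen_ι F (by simp [tCentre]) h) (by
      rw [hT, e, ← map_mul, wz])
    by_cases hB : IsConj t (t * F.ι pW)
    · exact Or.inr (Or.inl ⟨hA, hB, hE, hF, (h1.1 hB).1 hE⟩)
    · exact Or.inl ⟨hA, hB, hE, hF, fun h => hB (h1.2 (iff_of_true hE h))⟩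
  · exact absurd (inj ((hv ▸ e).trans hz.symm)) (fun h => absurd (F.inj h) (by decide +kernel))
  · -- `g` multiplies the transposition by `z`
    have hvw : v = F.ι pT := e
    have hB : ¬ IsConj t (t * F.ι pW) := fun h => nofix (cen_mul F (by simp [tCentre]) h) (by
      rw [gtσ, ← hv, hvw, ← wz, map_mul, mul_assoc, ← mul_assoc (F.ι pZ), zc pW_mem, mul_assoc,
        ← map_mul _ pZ, show pZ * pZ = 1 by decide +kernel, map_one, mul_one])
    have hH : ¬ IsConj t (t * F.ι pT) := fun h => nofix (cen_mul F (by simp [tCentre]) h) (by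
      rw [gtσ, hT, hvw, ← map_mul, show pT * pZ = pW by decide +kernel, mul_assoc, ← map_mul,
        show pZ * pW = pT by decide +kernel])
    by_cases hA : IsConj t (F.ι pW)
    · refine Or.inr (Or.inr ⟨?_, ?_, ?_, ?_, ?_⟩)
      · rw [F.twist_odd sign_w]; exact hB
      · rw [F.twist_odd sign_w, ← mul_assoc, F.sq, one_mul]; exact hA
      · rw [F.twist_even sign_z]; exact hE
      · rw [F.twist_odd sign_t]; exact hH
      · rw [F.twist_odd sign_t, ← mul_assoc, F.sq, one_mul]; exact (h3.1 hA).1 hE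
    · exact Or.inl ⟨hA, hB, hE, fun h => hA (h3.2 (iff_of_true hE h)), hH⟩
  · rw [map_one, mul_one] at e
    exact absurd (inj ((hv ▸ e).trans hback.symm)) (fun h => F.x_mul_ne _ _ h.symm)
  · -- `g² ≠ 1` on the transposition
    exfalso
    rw [show g * F.ι pW * g⁻¹ = t * F.ι pW from hv ▸ e, gtσ, show g * F.ι pW * g⁻¹ = t * F.ι pW from hv ▸ e,
      (F.comm pZ).symm.mul_mul_mul_comm, F.sq, one_mul, ← map_mul] at hgg2
    exact absurd (F.inj hgg2) (by decide +kernel)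
  · exact absurd (inj ((hv ▸ e).trans hgt.symm)) (fun h => F.notmem _ h)
  · exfalso
    rw [show g * F.ι pW * g⁻¹ = t * F.ι pT from hv ▸ e, gtσ, hT, e,
      show t * F.ι pT * F.ι pZ = t * F.ι pW by
        rw [mul_assoc, ← map_mul, show pT * pZ = pW by decide +kernel],
      (F.comm pZ).symm.mul_mul_mul_comm, F.sq, one_mul, ← map_mul] at hgg2
    exact absurd (F.inj hgg2) (by decide +kernel)

end Cfsg.Agent.SevenInv
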