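import Cfsg.Agent.Lib.SevenInv.Pairs

/-!
The subgroup of order 256 generated by `t`, a double transposition and the three swaps, and the
count of the class members of negative sign in it.
-/

set_option autoImplicit false
set_option linter.unusedSectionVars false
set_option maxRecDepth 100000

namespace Cfsg.Agent.SevenInv

open Subgroup Equiv

/-- Exponents of `t, a, h0, hb, hc, w, b, c`. -/
structure V where
  p : Bool
  q : Bool
  l : Bool
  m : Bool
  n : Bool
  i : Bool
  j : Bool
  k : Bool
deriving DecidableEq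

namespace V

/-- Exponents as a bit pattern. -/
def dec (r : ℕ) : V :=
  ⟨r.testBit 0, r.testBit 1, r.testBit 2, r.testBit 3, r.testBit 4, r.testBit 5, r.testBit 6,
    r.testBit 7⟩

/-- The bit pattern. -/
def enc (x : V) : ℕ :=
  x.p.toNat + 2 * x.q.toNat + 4 * x.l.toNat + 8 * x.m.toNat + 16 * x.n.toNat + 32 * x.i.toNat +
    64 * x.j.toNat + 128 * x.k.toNat

theorem dec_enc (x : V) : dec (enc x) = x := by
  obtain ⟨p, q, l, m, n, i, j, k⟩ := x
  cases p <;> cases q <;> cases l <;> cases m <;> cases n <;> cases i <;> cases j <;> cases k <;>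
    decide +kernel

theorem forall_of_check {P : V → Prop} [DecidablePred P]
    (h : ((List.range 256).all fun r => decide (P (dec r))) = true) (x : V) : P x := by
  have hlt : enc x ∈ List.range 256 := by
    rw [List.mem_range]
    obtain ⟨p, q, l, m, n, i, j, k⟩ := x
    cases p <;> cases q <;> cases l <;> cases m <;> cases n <;> cases i <;> cases j <;> cases k <;>
      decide +kernel
  have := List.all_eq_true.1 h _ hlt
  rw [decide_eq_true_iff, dec_enc] at this
  exact this

def rW (x : V) : V := { x with i := !x.i }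
def rB (x : V) : V := { x with j := !x.j }
def rC (x : V) : V := { x with k := !x.k }
def rHc (x : V) : V := { x with n := !x.n }
def rHb (e : Bool) (x : V) : V :=
  { x with m := !x.m, j := xor x.j (e && x.n), k := xor x.k (e && x.n) }
def rH0 (e : Bool) (x : V) : V :=
  { x with
    l := !x.l, i := xor x.i (e && (xor x.m x.n)), j := xor x.j (e && x.m), k := xor x.k (e && x.n) }
def rA (e : Bool) (x : V) : V :=
  { x with
    q := !x.q, m := x.n, n := x.m, j := xor x.k (e && x.m && x.n), k := xor x.j (e && x.m && x.n) }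
def rT (x : V) : V := { x with p := !x.p, i := xor x.i x.l, j := xor x.j x.m, k := xor x.k x.n }

/-- Apply a rule or not. -/
def rp (b : Bool) (r : V → V) (x : V) : V := bif b then r x else x

def mul (e : Bool) (x y : V) : V :=
  rp y.k rC (rp y.j rB (rp y.i rW (rp y.n rHc (rp y.m (rHb e) (rp y.l (rH0 e)
    (rp y.q (rA e) (rp y.p rT x)))))))

def one : V := ⟨false, false, false, false, false, false, false, false⟩

def inv (e : Bool) (y : V) : V :=
  rp y.p rT (rp y.q (rA e) (rp y.l (rH0 e) (rp y.m (rHb e) (rp y.n rHc (rp y.i rW (rp y.j rB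
    (rp y.k rC one)))))))

def conj (e : Bool) (y r : V) : V := mul e (mul e y r) (inv e y)

theorem inv_inv (e : Bool) (x : V) : inv e (inv e x) = x := by
  refine forall_of_check (P := fun x => inv e (inv e x) = x) ?_ x
  cases e <;> decide +kernel

theorem rule_invol (e : Bool) (x : V) : rW (rW x) = x ∧ rB (rB x) = x ∧ rC (rC x) = x ∧
    rHc (rHc x) = x ∧ rHb e (rHb e x) = x ∧ rH0 e (rH0 e x) = x ∧ rA e (rA e x) = x ∧
    rT (rT x) = x := by
  refine forall_of_check (P := fun x => rW (rW x) = x ∧ rB (rB x) = x ∧ rC (rC x) = x ∧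
    rHc (rHc x) = x ∧ rHb e (rHb e x) = x ∧ rH0 e (rH0 e x) = x ∧ rA e (rA e x) = x ∧
    rT (rT x) = x) ?_ x
  cases e <;> decide +kernel

theorem rp_eq {r : V → V} (h : ∀ x, r (r x) = x) (b : Bool) (x y : V) (hxy : rp b r x = y) :
    x = rp b r y := by
  cases b
  · exact hxy
  · subst hxy
    exact (h x).symm

theorem eq_inv {e : Bool} {z y : V} (h : mul e z y = one) : z = inv e y := by
  have R := rule_invol e
  have h1 := rp_eq (fun x => (R x).2.2.1) y.k _ _ h
  have h2 := rp_eq (fun x => (R x).2.1) y.j _ _ h1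
  have h3 := rp_eq (fun x => (R x).1) y.i _ _ h2
  have h4 := rp_eq (fun x => (R x).2.2.2.1) y.n _ _ h3
  have h5 := rp_eq (fun x => (R x).2.2.2.2.1) y.m _ _ h4
  have h6 := rp_eq (fun x => (R x).2.2.2.2.2.1) y.l _ _ h5
  have h7 := rp_eq (fun x => (R x).2.2.2.2.2.2.1) y.q _ _ h6
  exact rp_eq (fun x => (R x).2.2.2.2.2.2.2) y.p _ _ h7

theorem mul_p (e : Bool) (x y : V) : (mul e x y).p = xor x.p y.p := by
  obtain ⟨p, q, l, m, n, i, j, k⟩ := y
  cases p <;> cases q <;> cases l <;> cases m <;> cases n <;> cases i <;> cases j <;> cases k <;>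
    simp [mul, rp, rW, rB, rC, rHc, rHb, rH0, rA, rT]

theorem mul_q (e : Bool) (x y : V) : (mul e x y).q = xor x.q y.q := by
  obtain ⟨p, q, l, m, n, i, j, k⟩ := y
  cases p <;> cases q <;> cases l <;> cases m <;> cases n <;> cases i <;> cases j <;> cases k <;>
    simp [mul, rp, rW, rB, rC, rHc, rHb, rH0, rA, rT]

/-- The permutation part. -/
def perm (i j k : Bool) : S7 :=
  (bif i then pW else 1) * (bif j then pB else 1) * (bif k then pC else 1)

end V

/-- A power with exponent zero or one. -/
def gp {G : Type*} [One G] (b : Bool) (g : G) : G := bif b then g else 1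

section

variable {G : Type*} [Group G]

theorem gp_mul_self {g : G} (h : g * g = 1) (b : Bool) : gp b g * g = gp (!b) g := by
  cases b
  · exact one_mul g
  · exact h

theorem gp_commute {x g : G} (h : Commute x g) (b : Bool) : Commute (gp b x) g := by
  cases b
  · exact Commute.one_left g
  · exact h

theorem map_gp {H : Type*} [Group H] (f : G →* H) (b : Bool) (g : G) :
    f (gp b g) = gp b (f g) := by
  cases b
  · exact map_one f
  · rfl

theorem gp_inv {g : G} (h : g * g = 1) (b : Bool) : (gp b g)⁻¹ = gp b g := by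
  cases b
  · exact inv_one
  · exact inv_eq_of_mul_eq_one_left h

end

variable {G : Type*} [Group G] [Finite G] {t : G}

/-- The generators with their relations. -/
structure Gen (F : Fr t) where
  h0 : G
  hb : G
  hc : G
  ε : Bool
  s0 : Swap F pW h0
  sb : Swap F pB hb
  sc : Swap F pC hc
  hc_eq : hc = F.ι pA * hb * F.ι pA
  r10 : hb * h0 = h0 * hb * F.ι (eW ε (pW * pB))
  r20 : hc * h0 = h0 * hc * F.ι (eW ε (pW * pC))
  r21 : hc * hb = hb * hc * F.ι (eW ε (pB * pC))

namespace Gen

variable {F : Fr t} (M : Gen F)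

/-- The element with given exponents. -/
def val (x : V) : G :=
  gp x.p t * gp x.q (F.ι pA) * gp x.l M.h0 * gp x.m M.hb * gp x.n M.hc * F.ι (V.perm x.i x.j x.k)

theorem perm_h0 (i j k : Bool) : Commute (F.ι (V.perm i j k)) M.h0 := by
  refine (M.s0.comm _ ?_).symm
  cases i <;> cases j <;> cases k <;> decide +kernel

theorem perm_hb (i j k : Bool) : Commute (F.ι (V.perm i j k)) M.hb := by
  refine (M.sb.comm _ ?_).symm
  cases i <;> cases j <;> cases k <;> decide +kernel

theorem perm_hc (i j k : Bool) : Commute (F.ι (V.perm i j k)) M.hc := by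
  refine (M.sc.comm _ ?_).symm
  cases i <;> cases j <;> cases k <;> decide +kernel

theorem rule_w (x : V) : M.val (V.rW x) = M.val x * F.ι pW := by
  simp only [val, V.rW]
  rw [mul_assoc _ _ (F.ι pW), ← map_mul]
  congr 2
  obtain ⟨p, q, l, m, n, i, j, k⟩ := x
  dsimp only
  cases i <;> cases j <;> cases k <;> decide +kernel

theorem rule_b (x : V) : M.val (V.rB x) = M.val x * F.ι pB := by
  simp only [val, V.rB]
  rw [mul_assoc _ _ (F.ι pB), ← map_mul]
  congr 2
  obtain ⟨p, q, l, m, n, i, j, k⟩ := x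
  dsimp only
  cases i <;> cases j <;> cases k <;> decide +kernel

theorem rule_c (x : V) : M.val (V.rC x) = M.val x * F.ι pC := by
  simp only [val, V.rC]
  rw [mul_assoc _ _ (F.ι pC), ← map_mul]
  congr 2
  obtain ⟨p, q, l, m, n, i, j, k⟩ := x
  dsimp only
  cases i <;> cases j <;> cases k <;> decide +kernel

theorem rule_hc (x : V) : M.val (V.rHc x) = M.val x * M.hc := by
  simp only [val, V.rHc]
  rw [mul_assoc _ (F.ι _) M.hc, (M.perm_hc _ _ _).eq, ← mul_assoc, mul_assoc _ (gp x.n M.hc) M.hc,
    gp_mul_self M.sc.sq]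

theorem rule_hb (x : V) : M.val (V.rHb M.ε x) = M.val x * M.hb := by
  obtain ⟨p, q, l, m, n, i, j, k⟩ := x
  have e : gp n M.hc * M.hb = M.hb * gp n M.hc * F.ι (eW (M.ε && n) (pB * pC)) := by
    cases n
    · show 1 * M.hb = M.hb * 1 * F.ι (eW (M.ε && false) (pB * pC))
      rw [Bool.and_false, show eW false (pB * pC) = 1 from rfl, map_one]; simp
    · rw [Bool.and_true]; exact M.r21
  have eu : eW (M.ε && n) (pB * pC) * V.perm i j k =
      V.perm i (xor j (M.ε && n)) (xor k (M.ε && n)) := by
    cases M.ε <;> cases n <;> cases i <;> cases j <;> cases k <;> decide +kernel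
  simp only [val, V.rHb]
  rw [← eu, map_mul, mul_assoc _ (F.ι _) M.hb, (M.perm_hb _ _ _).eq, ← mul_assoc _ M.hb,
    mul_assoc _ (gp n M.hc) M.hb, e, ← gp_mul_self M.sb.sq m]
  group

theorem rule_h0 (x : V) : M.val (V.rH0 M.ε x) = M.val x * M.h0 := by
  obtain ⟨p, q, l, m, n, i, j, k⟩ := x
  have em : gp m M.hb * M.h0 = M.h0 * gp m M.hb * F.ι (eW (M.ε && m) (pW * pB)) := by
    cases m
    · show 1 * M.h0 = M.h0 * 1 * F.ι (eW (M.ε && false) (pW * pB))
      rw [Bool.and_false, show eW false (pW * pB) = 1 from rfl, map_one]; simp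
    · rw [Bool.and_true]; exact M.r10
  have en : gp n M.hc * M.h0 = M.h0 * gp n M.hc * F.ι (eW (M.ε && n) (pW * pC)) := by
    cases n
    · show 1 * M.h0 = M.h0 * 1 * F.ι (eW (M.ε && false) (pW * pC))
      rw [Bool.and_false, show eW false (pW * pC) = 1 from rfl, map_one]; simp
    · rw [Bool.and_true]; exact M.r20
  have cn : Commute (F.ι (eW (M.ε && m) (pW * pB))) (gp n M.hc) := by
    refine (gp_commute ?_ n).symm
    refine M.sc.comm _ ?_
    cases M.ε <;> cases m <;> decide +kernel
  have eu : eW (M.ε && m) (pW * pB) * eW (M.ε && n) (pW * pC) * V.perm i j k =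
      V.perm (xor i (M.ε && (xor m n))) (xor j (M.ε && m)) (xor k (M.ε && n)) := by
    cases M.ε <;> cases m <;> cases n <;> cases i <;> cases j <;> cases k <;> decide +kernel
  simp only [val, V.rH0]
  rw [← eu, map_mul, map_mul, ← gp_mul_self M.s0.sq l]
  symm
  calc gp p t * gp q (F.ι pA) * gp l M.h0 * gp m M.hb * gp n M.hc * F.ι (V.perm i j k) * M.h0
      = gp p t * gp q (F.ι pA) * gp l M.h0 * gp m M.hb * (gp n M.hc * M.h0) * F.ι (V.perm i j k) := by
        simp only [mul_assoc, (M.perm_h0 i j k).eq]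
    _ = gp p t * gp q (F.ι pA) * gp l M.h0 * (gp m M.hb * M.h0) * gp n M.hc *
          F.ι (eW (M.ε && n) (pW * pC)) * F.ι (V.perm i j k) := by
        rw [en]; simp only [mul_assoc]
    _ = gp p t * gp q (F.ι pA) * (gp l M.h0 * M.h0) * gp m M.hb *
          (F.ι (eW (M.ε && m) (pW * pB)) * gp n M.hc) *
          F.ι (eW (M.ε && n) (pW * pC)) * F.ι (V.perm i j k) := by
        rw [em]; simp only [mul_assoc]
    _ = _ := by rw [cn.eq]; simp only [mul_assoc]

theorem a_sq : F.ι pA * F.ι pA = 1 := by
  rw [← map_mul, show pA * pA = 1 by decide +kernel, map_one]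

theorem rule_a (x : V) : M.val (V.rA M.ε x) = M.val x * F.ι pA := by
  obtain ⟨p, q, l, m, n, i, j, k⟩ := x
  have hu : F.ι (V.perm i j k) * F.ι pA = F.ι pA * F.ι (V.perm i k j) := by
    rw [← map_mul, ← map_mul]; congr 1
    cases i <;> cases j <;> cases k <;> decide +kernel
  have hn : gp n M.hc * F.ι pA = F.ι pA * gp n M.hb := by
    cases n
    · show 1 * F.ι pA = F.ι pA * 1
      rw [one_mul, mul_one]
    · show M.hc * F.ι pA = F.ι pA * M.hb
      rw [M.hc_eq, mul_assoc, a_sq, mul_one]
  have hm : gp m M.hb * F.ι pA = F.ι pA * gp m M.hc := by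
    cases m
    · show 1 * F.ι pA = F.ι pA * 1
      rw [one_mul, mul_one]
    · show M.hb * F.ι pA = F.ι pA * M.hc
      rw [M.hc_eq, ← mul_assoc, ← mul_assoc, a_sq, one_mul]
  have hl : Commute (gp l M.h0) (F.ι pA) := gp_commute (M.s0.comm pA (by decide +kernel)) l
  have e : gp m M.hc * gp n M.hb = gp n M.hb * gp m M.hc * F.ι (eW (M.ε && m && n) (pB * pC)) := by
    cases m
    · show 1 * gp n M.hb = gp n M.hb * 1 * F.ι (eW (M.ε && false && n) (pB * pC))
      rw [Bool.and_false, Bool.false_and, show eW false (pB * pC) = 1 from rfl, map_one]; simp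
    cases n
    · show M.hc * 1 = 1 * M.hc * F.ι (eW (M.ε && true && false) (pB * pC))
      rw [Bool.and_false, show eW false (pB * pC) = 1 from rfl, map_one]; simp
    · rw [Bool.and_true, Bool.and_true]; exact M.r21
  have eu : eW (M.ε && m && n) (pB * pC) * V.perm i k j =
      V.perm i (xor k (M.ε && m && n)) (xor j (M.ε && m && n)) := by
    cases M.ε <;> cases m <;> cases n <;> cases i <;> cases j <;> cases k <;> decide +kernel
  simp only [val, V.rA]
  rw [← eu, map_mul, ← gp_mul_self a_sq q]
  calc gp p t * (gp q (F.ι pA) * F.ι pA) * gp l M.h0 * gp n M.hb * gp m M.hc *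
        (F.ι (eW (M.ε && m && n) (pB * pC)) * F.ι (V.perm i k j))
      = gp p t * gp q (F.ι pA) * (F.ι pA * gp l M.h0) *
          (gp n M.hb * gp m M.hc * F.ι (eW (M.ε && m && n) (pB * pC))) * F.ι (V.perm i k j) := by
        simp only [mul_assoc]
    _ = gp p t * gp q (F.ι pA) * gp l M.h0 * (F.ι pA * gp m M.hc) * gp n M.hb * F.ι (V.perm i k j) := by
        rw [← hl.eq, ← e]; simp only [mul_assoc]
    _ = gp p t * gp q (F.ι pA) * gp l M.h0 * gp m M.hb * (F.ι pA * gp n M.hb) * F.ι (V.perm i k j) := by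
        rw [← hm]; simp only [mul_assoc]
    _ = gp p t * gp q (F.ι pA) * gp l M.h0 * gp m M.hb * gp n M.hc * (F.ι pA * F.ι (V.perm i k j)) := by
        rw [← hn]; simp only [mul_assoc]
    _ = gp p t * gp q (F.ι pA) * gp l M.h0 * gp m M.hb * gp n M.hc * F.ι (V.perm i j k) * F.ι pA := by
        rw [← hu]; simp only [mul_assoc]

theorem move_t {τ : S7} {h : G} (H : Swap F τ h) (b : Bool) :
    gp b h * t = t * gp b h * F.ι (gp b τ) := by
  cases b
  · show 1 * t = t * 1 * F.ι 1
    rw [map_one]; simp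
  · show h * t = t * h * F.ι τ
    rw [mul_assoc t, H.comm_self, ← mul_assoc, ← H.move, mul_assoc (h * t), H.sq, mul_one]

theorem rule_t (x : V) : M.val (V.rT x) = M.val x * t := by
  obtain ⟨p, q, l, m, n, i, j, k⟩ := x
  have cb : Commute (F.ι (gp l pW)) (gp m M.hb) := by
    refine (gp_commute ?_ m).symm
    refine M.sb.comm _ ?_
    cases l <;> decide +kernel
  have cc : Commute (F.ι (gp l pW * gp m pB)) (gp n M.hc) := by
    refine (gp_commute ?_ n).symm
    refine M.sc.comm _ ?_
    cases l <;> cases m <;> decide +kernel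
  have eu : gp l pW * gp m pB * gp n pC * V.perm i j k = V.perm (xor i l) (xor j m) (xor k n) := by
    cases l <;> cases m <;> cases n <;> cases i <;> cases j <;> cases k <;> decide +kernel
  have hq : Commute t (gp q (F.ι pA)) := (gp_commute (F.comm pA).symm q).symm
  simp only [val, V.rT]
  rw [← eu, ← gp_mul_self F.sq p, map_mul, map_mul _ _ (gp n pC)]
  calc gp p t * t * gp q (F.ι pA) * gp l M.h0 * gp m M.hb * gp n M.hc *
        (F.ι (gp l pW * gp m pB) * F.ι (gp n pC) * F.ι (V.perm i j k))
      = gp p t * (t * gp q (F.ι pA)) * gp l M.h0 * gp m M.hb * (gp n M.hc *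
          F.ι (gp l pW * gp m pB)) * (F.ι (gp n pC) * F.ι (V.perm i j k)) := by
        simp only [mul_assoc]
    _ = gp p t * gp q (F.ι pA) * t * gp l M.h0 * (gp m M.hb * F.ι (gp l pW)) * F.ι (gp m pB) *
          gp n M.hc * (F.ι (gp n pC) * F.ι (V.perm i j k)) := by
        rw [hq.eq, ← cc.eq, map_mul]; simp only [mul_assoc]
    _ = gp p t * gp q (F.ι pA) * (t * gp l M.h0 * F.ι (gp l pW)) * gp m M.hb * F.ι (gp m pB) *
          gp n M.hc * (F.ι (gp n pC) * F.ι (V.perm i j k)) := by
        rw [← cb.eq]; simp only [mul_assoc]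
    _ = gp p t * gp q (F.ι pA) * gp l M.h0 * (t * gp m M.hb * F.ι (gp m pB)) *
          gp n M.hc * (F.ι (gp n pC) * F.ι (V.perm i j k)) := by
        rw [← move_t M.s0]; simp only [mul_assoc]
    _ = gp p t * gp q (F.ι pA) * gp l M.h0 * gp m M.hb * (t * gp n M.hc * F.ι (gp n pC)) *
          F.ι (V.perm i j k) := by
        rw [← move_t M.sb]; simp only [mul_assoc]
    _ = gp p t * gp q (F.ι pA) * gp l M.h0 * gp m M.hb * gp n M.hc * F.ι (V.perm i j k) * t := by
        rw [← move_t M.sc]; simp only [mul_assoc, (F.comm (V.perm i j k)).eq]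

theorem val_rp {r : V → V} {g : G} (h : ∀ x, M.val (r x) = M.val x * g) (b : Bool) (x : V) :
    M.val (V.rp b r x) = M.val x * gp b g := by
  cases b
  · exact (mul_one _).symm
  · exact h x

theorem perm_eq (i j k : Bool) :
    F.ι (V.perm i j k) = gp i (F.ι pW) * gp j (F.ι pB) * gp k (F.ι pC) := by
  rw [V.perm, map_mul, map_mul, ← map_gp, ← map_gp, ← map_gp]
  rfl

theorem val_mul (x y : V) : M.val (V.mul M.ε x y) = M.val x * M.val y := by
  rw [V.mul, M.val_rp M.rule_c, M.val_rp M.rule_b, M.val_rp M.rule_w, M.val_rp M.rule_hc,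
    M.val_rp M.rule_hb, M.val_rp M.rule_h0, M.val_rp M.rule_a, M.val_rp M.rule_t]
  conv_rhs => arg 2; rw [val, perm_eq]
  simp only [mul_assoc]

theorem val_one : M.val V.one = 1 := by
  simp only [val, V.one, gp, cond_false, one_mul]
  rw [show V.perm false false false = 1 from one_mul _, map_one]

theorem val_inv (y : V) : M.val (V.inv M.ε y) = (M.val y)⁻¹ := by
  rw [V.inv, M.val_rp M.rule_t, M.val_rp M.rule_a, M.val_rp M.rule_h0, M.val_rp M.rule_hb,
    M.val_rp M.rule_hc, M.val_rp M.rule_w, M.val_rp M.rule_b, M.val_rp M.rule_c, val_one, one_mul]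
  have e : ∀ σ : S7, σ * σ = 1 → F.ι σ * F.ι σ = 1 := fun σ h => by rw [← map_mul, h, map_one]
  have hu : (F.ι (V.perm y.i y.j y.k))⁻¹ = gp y.k (F.ι pC) * gp y.j (F.ι pB) * gp y.i (F.ι pW) := by
    rw [perm_eq, mul_inv_rev, mul_inv_rev, gp_inv (e pC (swap_mul_self _ _)),
      gp_inv (e pB (swap_mul_self _ _)), gp_inv (e pW (swap_mul_self _ _))]
    simp only [mul_assoc]
  simp only [val, mul_inv_rev, hu, gp_inv F.sq, gp_inv a_sq, gp_inv M.s0.sq, gp_inv M.sb.sq,
    gp_inv M.sc.sq, mul_assoc]

theorem val_eq_one {x : V} (h : M.val x = 1) : x = V.one := by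
  obtain ⟨p, q, l, m, n, i, j, k⟩ := x
  have ht : M.val (V.rT ⟨p, q, l, m, n, i, j, k⟩) = t := by rw [M.rule_t, h, one_mul]
  simp only [val, V.rT] at ht h
  set A := gp p t * gp q (F.ι pA) with hA
  set B := gp l M.h0 * gp m M.hb * gp n M.hc with hB
  have hW : F.ι (V.perm (xor i l) (xor j m) (xor k n)) = F.ι (V.perm i j k) := by
    have e1 : gp (!p) t * gp q (F.ι pA) = t * A := by
      rw [hA, ← mul_assoc, show t * gp p t = gp p t * t by cases p <;> simp [gp],
        gp_mul_self F.sq]
    rw [e1] at ht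
    have ht' : t * (A * B * F.ι (V.perm (xor i l) (xor j m) (xor k n))) = t * 1 := by
      rw [mul_one]
      conv_rhs => rw [← ht]
      simp only [hA, hB, mul_assoc]
    have h' : A * B * F.ι (V.perm i j k) = 1 := by
      rw [← h]; simp only [hA, hB, mul_assoc]
    exact mul_left_cancel ((mul_left_cancel ht').trans h'.symm)
  have key : ∀ i j k l m n, V.perm (xor i l) (xor j m) (xor k n) = V.perm i j k →
      l = false ∧ m = false ∧ n = false := by decide +kernel
  obtain ⟨rfl, rfl, rfl⟩ := key i j k l m n (F.inj hW)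
  have h2 : gp p t * F.ι (gp q pA * V.perm i j k) = 1 := by
    rw [map_mul, map_gp, ← h, hA]
    simp [gp, mul_assoc]
  cases p
  · have h3 : gp q pA * V.perm i j k = 1 := F.inj (by
      rw [map_one]; simpa [gp] using h2)
    have key2 : ∀ q i j k, gp q pA * V.perm i j k = 1 →
        q = false ∧ i = false ∧ j = false ∧ k = false := by decide +kernel
    obtain ⟨rfl, rfl, rfl, rfl⟩ := key2 q i j k h3
    rfl
  · exfalso
    exact F.x_mul_ne _ 1 (h2.trans (map_one F.ι).symm)

theorem val_injective : Function.Injective M.val := by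
  intro x y h
  have h1 : V.mul M.ε x (V.inv M.ε y) = V.one :=
    M.val_eq_one (by rw [val_mul, val_inv, h, mul_inv_cancel])
  have h2 := V.eq_inv h1
  rw [V.inv_inv] at h2
  exact h2

/-- The subgroup. -/
def sub : Subgroup G where
  carrier := Set.range M.val
  one_mem' := ⟨V.one, M.val_one⟩
  mul_mem' := by
    rintro _ _ ⟨x, rfl⟩ ⟨y, rfl⟩
    exact ⟨_, M.val_mul x y⟩
  inv_mem' := by
    rintro _ ⟨x, rfl⟩
    exact ⟨_, M.val_inv x⟩

theorem card_sub : Nat.card M.sub = 256 := by
  show Nat.card (Set.range M.val) = 256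
  rw [Nat.card_range_of_injective M.val_injective]
  have e : Nat.card V = Nat.card (Fin 256) := by
    refine Nat.card_congr
      { toFun := fun x => ⟨V.enc x, ?_⟩
        invFun := fun r => V.dec r
        left_inv := V.dec_enc
        right_inv := fun r => Fin.ext ?_ }
    · obtain ⟨p, q, l, m, n, i, j, k⟩ := x
      cases p <;> cases q <;> cases l <;> cases m <;> cases n <;> cases i <;> cases j <;> cases k <;>
        decide +kernel
    · have key : ∀ r : Fin 256, V.enc (V.dec r) = r := by decide +kernel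
      exact key r
  rw [e, Nat.card_fin]

/-- The count for a sign `s` on the exponents. -/
theorem index_two_of_model (s : V → Bool) (hs : ∀ x y, s (V.mul M.ε x y) = xor (s x) (s y))
    (L : List V) (hL : L.Nodup) (hLs : ∀ x ∈ L, s x = true ∧ IsConj t (M.val x))
    (hall : ∀ x, s x = true → V.mul M.ε x x = V.one → x ∈ L ∨ ¬ IsConj t (M.val x))
    {u : ℕ} (hu : Odd u) (hlen : L.length = 8 * u) : ∃ H : Subgroup G, H.index = 2 := by
  classical
  have hc : ∀ g : M.sub, ∃ x, M.val x = g := fun g => g.2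
  choose c hc using hc
  have hcv : ∀ x (hx : M.val x ∈ M.sub), c ⟨M.val x, hx⟩ = x := fun x hx =>
    M.val_injective (hc ⟨M.val x, hx⟩)
  let χ : M.sub →* ℤˣ := MonoidHom.mk' (fun g => bif s (c g) then -1 else 1) (by
    intro g h
    have e : c (g * h) = V.mul M.ε (c g) (c h) := M.val_injective (by
      rw [val_mul, hc, hc, hc]; rfl)
    simp only [e, hs]
    cases s (c g) <;> cases s (c h) <;> rfl)
  have hχ : ∀ x (hx : M.val x ∈ M.sub), χ ⟨M.val x, hx⟩ = -1 ↔ s x = true := by
    intro x hx
    show (bif s (c ⟨M.val x, hx⟩) then (-1 : ℤˣ) else 1) = -1 ↔ _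
    rw [hcv]
    cases s x <;> simp
  have e : negConj χ t = M.val '' {x | x ∈ L} := by
    ext g
    constructor
    · rintro ⟨hD, hg, hv⟩
      obtain ⟨x, rfl⟩ := hg
      have hsx := (hχ x _).1 hv
      refine ⟨x, ?_, rfl⟩
      obtain ⟨k, hk⟩ := isConj_iff.1 hD
      have hsq : V.mul M.ε x x = V.one := M.val_injective (by
        rw [val_mul, val_one, ← conj_sq k hk, F.sq]; group)
      exact (hall x hsx hsq).resolve_right fun h => h hD
    · rintro ⟨x, hx, rfl⟩
      obtain ⟨h1, h2⟩ := hLs x hx
      exact ⟨h2, ⟨x, rfl⟩, (hχ x _).2 h1⟩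
  refine index_two_of_count χ t (by rw [sq]; exact F.sq) (M := 315 * u) (Odd.mul (by decide) hu) ?_
  rw [F.card_centralizer, M.card_sub, Nat.card_coe_set_eq, e,
    Set.ncard_image_of_injective _ M.val_injective,
    show {x : V | x ∈ L} = (L.toFinset : Set V) from (List.coe_toFinset _).symm,
    Set.ncard_coe_finset, List.toFinset_card_of_nodup hL, hlen]
  ring

/-- Members of a class. -/
def cls (e : Bool) (r : V) (ys : List ℕ) : List V := ys.map fun y => V.conj e (V.dec y) r

theorem cls_conj {r : V} {ys : List ℕ} {x : V} (hx : x ∈ cls M.ε r ys) :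
    IsConj (M.val r) (M.val x) := by
  obtain ⟨y, -, rfl⟩ := List.mem_map.1 hx
  refine isConj_iff.2 ⟨M.val (V.dec y), ?_⟩
  rw [V.conj, val_mul, val_mul, val_inv]

end Gen

def cA1 (e : Bool) : List V := Gen.cls e (V.dec 3)
  (bif e then [0, 128, 16, 4, 144, 132, 20, 148] else [0, 128, 16, 8, 4, 132, 20, 12])
def cA2 (e : Bool) : List V := Gen.cls e (V.dec 2) (bif e then [0, 128, 16, 8] else [0, 128, 16, 144])
def cA3 (e : Bool) : List V := Gen.cls e (V.dec 34) (bif e then [0, 128, 16, 8] else [0, 128, 16, 144])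
def cA4 (e : Bool) : List V := Gen.cls e (V.dec 6) [0, 128, 16, 1, 144, 129, 17, 145]
def cT1 : List V := Gen.cls true (V.dec 1) [0, 16, 8, 4, 24, 20, 12, 28]
def cT2 : List V := Gen.cls true (V.dec 3) [0, 128, 16, 4, 144, 132, 20, 148]
def cT3 : List V := Gen.cls true (V.dec 25) [0, 16, 8, 4, 2, 20, 12, 6]
def cT4 : List V :=
  Gen.cls true (V.dec 21) [0, 16, 8, 4, 2, 1, 24, 12, 18, 10, 6, 9, 3, 26, 14, 11]

/-- The pattern of type four gives a subgroup of index two. -/
theorem index_two_of_patFour (F : Fr t) (hP : PatFour F) : ∃ H : Subgroup G, H.index = 2 := by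
  classical
  obtain ⟨h0, hb, hc, ε, H0, Hb, Hc, hce, e1, e2, e3, hY⟩ := exists_gens hP
  let M : Gen F := ⟨h0, hb, hc, ε, H0, Hb, Hc, hce, e1, e2, e3⟩
  have val0 : ∀ r, M.val (V.dec r) = gp (r.testBit 0) t * gp (r.testBit 1) (F.ι pA) *
      gp (r.testBit 2) h0 * gp (r.testBit 3) hb * gp (r.testBit 4) hc *
      F.ι (V.perm (r.testBit 5) (r.testBit 6) (r.testBit 7)) := fun r => rfl
  have haa : pA * pA = 1 := by decide +kernel
  have hp1 : V.perm false false false = 1 := one_mul _
  have v3 : M.val (V.dec 3) = t * F.ι pA := by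
    rw [val0]; simp [gp, Nat.testBit, hp1]
  have hta : IsConj t (M.val (V.dec 3)) := by rw [v3]; exact four_mul hP haa
  by_cases hη : IsConj t h0
  · -- the swap is a member
    have hε : ε = true := by
      by_contra hcon
      have hεf : ε = false := by simpa using hcon
      have key : ∀ x : V, x.p = false → x.q = false →
          V.rH0 false x = V.mul false (V.rH0 false V.one) x := fun x => by
        refine V.forall_of_check (P := fun x => x.p = false → x.q = false →
          V.rH0 false x = V.mul false (V.rH0 false V.one) x) ?_ x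
        decide +kernel
      set K := M.sub ⊓ centralizer ({h0} : Set G) with hK
      have hmem : ∀ x : V, x.p = false → x.q = false → M.val x ∈ K := by
        intro x hp hq
        refine ⟨⟨x, rfl⟩, mem_centralizer_singleton_iff.2 ?_⟩
        have h := congrArg M.val (key x hp hq)
        rw [← hεf, show V.rH0 ε x = V.rH0 M.ε x from rfl, M.rule_h0, M.val_mul, M.rule_h0,
          M.val_one, one_mul] at h
        exact h
      have h64 : 64 ≤ Nat.card K := by
        have h := Nat.card_le_card_of_injective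
          (α := Bool × Bool × Bool × Bool × Bool × Bool) (β := K)
          (fun b => ⟨M.val ⟨false, false, b.1, b.2.1, b.2.2.1, b.2.2.2.1, b.2.2.2.2.1, b.2.2.2.2.2⟩,
            hmem _ rfl rfl⟩) (fun a b e => by
              have e' := M.val_injective (congrArg Subtype.val e)
              simp only [V.mk.injEq, true_and] at e'
              obtain ⟨a1, a2, a3, a4, a5, a6⟩ := e'
              exact Prod.ext a1 (Prod.ext a2 (Prod.ext a3 (Prod.ext a4 (Prod.ext a5 a6)))))
        simpa [Nat.card_eq_fintype_card] using h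
      have hd1 : Nat.card K ∣ 256 := M.card_sub ▸ card_dvd_of_le inf_le_left
      obtain ⟨γ, hγ⟩ := isConj_iff.1 hη
      have hd2 : Nat.card K ∣ 10080 := by
        have h : Nat.card K ∣ Nat.card (centralizer ({h0} : Set G)) := card_dvd_of_le inf_le_right
        rwa [show Nat.card (centralizer ({h0} : Set G)) = 10080 by
          rw [← hγ]; exact (F.conj γ).card_centralizer] at h
      have := Nat.le_of_dvd (by norm_num) (Nat.dvd_gcd hd1 hd2)
      rw [show Nat.gcd 256 10080 = 32 by decide +kernel] at this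
      omega
    have hMε : M.ε = true := hε
    have hcc : ∀ {r : V} {ys : List ℕ} {x : V}, x ∈ Gen.cls true r ys →
        IsConj (M.val r) (M.val x) := fun h => M.cls_conj (hMε.symm ▸ h)
    have v1 : M.val (V.dec 1) = t := by rw [val0]; simp [gp, Nat.testBit, hp1]
    have v25 : M.val (V.dec 25) = t * hb * hc := by rw [val0]; simp [gp, Nat.testBit, hp1]
    have d1 : IsConj t (M.val (V.dec 1)) := by rw [v1]
    have d25 : IsConj t (M.val (V.dec 25)) := by rw [v25]; exact hY hη hε
    have hkey : ∀ x : V, x.p = true → V.mul true x x = V.one →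
        x ∈ cT1 ++ cT2 ++ cT3 ++ cT4 := fun x => by
      refine V.forall_of_check (P := fun x => x.p = true → V.mul true x x = V.one →
        x ∈ cT1 ++ cT2 ++ cT3 ++ cT4) ?_ x
      decide +kernel
    have hneg : ∀ x ∈ cT1 ++ cT2 ++ cT3 ++ cT4, x.p = true := by decide +kernel
    by_cases hU : IsConj t (M.val (V.dec 21))
    · refine M.index_two_of_model V.p (fun x y => V.mul_p _ x y) (cT1 ++ cT2 ++ cT3 ++ cT4)
        (by decide +kernel) (fun x hx => ⟨hneg x hx, ?_⟩)
        (fun x h1 h2 => Or.inl (hkey x h1 (hMε ▸ h2))) (u := 5) (by decide) (by decide +kernel)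
      simp only [List.mem_append] at hx
      rcases hx with ((hx | hx) | hx) | hx
      exacts [d1.trans (hcc hx), hta.trans (hcc hx), d25.trans (hcc hx), hU.trans (hcc hx)]
    · refine M.index_two_of_model V.p (fun x y => V.mul_p _ x y) (cT1 ++ cT2 ++ cT3)
        (by decide +kernel) (fun x hx => ⟨hneg x (List.mem_append_left _ hx), ?_⟩)
        (fun x h1 h2 => ?_) (u := 3) (by decide) (by decide +kernel)
      · simp only [List.mem_append] at hx
        rcases hx with (hx | hx) | hx
        exacts [d1.trans (hcc hx), hta.trans (hcc hx), d25.trans (hcc hx)]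
      · rcases List.mem_append.1 (hkey x h1 (hMε ▸ h2)) with h | h
        · exact Or.inl h
        · exact Or.inr fun hD => hU (hD.trans (hcc h).symm)
  · -- the swap is not a member
    have v2 : M.val (V.dec 2) = F.ι pA := by rw [val0]; simp [gp, Nat.testBit, hp1]
    have v34 : M.val (V.dec 34) = F.ι pA * F.ι pW := by
      rw [val0, show V.perm (Nat.testBit 34 5) (Nat.testBit 34 6) (Nat.testBit 34 7) = pW by
        decide +kernel]
      simp [gp, Nat.testBit]
    have v6 : M.val (V.dec 6) = F.ι pA * h0 := by rw [val0]; simp [gp, Nat.testBit, hp1]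
    have n6 : ¬ IsConj t (F.ι pA * h0) := by
      intro hD
      have c : Commute (F.ι pA) h0 := (H0.comm pA (by decide +kernel)).symm
      have ha : F.ι pA * F.ι pA = 1 := by rw [← map_mul, haa, map_one]
      have hyy : F.ι pA * (F.ι pA * h0) = F.ι pA * h0 * F.ι pA := by
        rw [mul_assoc, c.symm.eq]
      have hf := f_law hP hD ha hyy
      refine four_ι hP pA (hf.2 ?_)
      rw [mul_assoc, c.symm.eq, ← mul_assoc, ha, one_mul]
      exact hη
    have hkey : ∀ e : Bool, ∀ x : V, x.q = true → V.mul e x x = V.one →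
        x ∈ cA1 e ++ cA2 e ++ cA3 e ++ cA4 e := fun e x => by
      refine V.forall_of_check (P := fun x => x.q = true → V.mul e x x = V.one →
        x ∈ cA1 e ++ cA2 e ++ cA3 e ++ cA4 e) ?_ x
      cases e <;> decide +kernel
    have hneg : ∀ e : Bool, ∀ x ∈ cA1 e, x.q = true := by decide +kernel
    refine M.index_two_of_model V.q (fun x y => V.mul_q _ x y) (cA1 M.ε) ?_
      (fun x hx => ⟨hneg _ x hx, hta.trans (M.cls_conj hx)⟩) (fun x h1 h2 => ?_) (u := 1) odd_one ?_
    · cases M.ε <;> decide +kernel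
    · have := hkey M.ε x h1 h2
      simp only [List.mem_append] at this
      rcases this with ((h | h) | h) | h
      · exact Or.inl h
      · refine Or.inr fun hD => four_ι hP pA ?_
        rw [← v2]; exact hD.trans (M.cls_conj h).symm
      · refine Or.inr fun hD => four_ι hP (pA * pW) ?_
        rw [map_mul, ← v34]; exact hD.trans (M.cls_conj h).symm
      · refine Or.inr fun hD => n6 ?_
        rw [← v6]; exact hD.trans (M.cls_conj h).symm
    · cases M.ε <;> rfl

end Cfsg.Agent.SevenInv
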