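import Cfsg.Agent.Lib.SevenInv.SizeTwo
import Cfsg.Agent.Lib.SevenInv.Model
import Mathlib.Data.ZMod.Basic
import Mathlib.Algebra.Group.TypeTags.Basic

/-!
An involution with centraliser `2 × S7` gives a subgroup of index two.
-/

set_option autoImplicit false
set_option maxRecDepth 100000

namespace Cfsg.Agent.SevenInv

open Subgroup Equiv

theorem centre_trivial {σ : S7} (h : ∀ τ : S7, σ * τ = τ * σ) : σ = 1 := by
  have key : (czList.all fun s => ([swap 0 4, pB, swap 1 2, pC, swap 3 6].any fun τ =>
      code (s * τ) != code (τ * s)) || code s == code 1) = true := by decide +kernel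
  have h1 := List.all_eq_true.1 key σ (mem_czList (h pZ))
  simp only [Bool.or_eq_true, List.any_eq_true, bne_iff_ne, beq_iff_eq] at h1
  rcases h1 with ⟨τ, -, hne⟩ | h1
  · exact absurd (congrArg code (h τ)) hne
  · exact code_injective h1

variable {G : Type*} [Group G]

theorem exists_fr (t : G) (ht : orderOf t = 2)
    (e : ↥(centralizer ({t} : Set G)) ≃* Multiplicative (ZMod 2) × S7) : Nonempty (Fr t) := by
  have ht2 : t * t = 1 := by rw [← sq, ← ht]; exact pow_orderOf_eq_one t
  set T : centralizer ({t} : Set G) := ⟨t, mem_centralizer_singleton_iff.2 rfl⟩ with hT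
  have hcen : ∀ y, e T * y = y * e T := by
    intro y
    rw [← e.apply_symm_apply y, ← map_mul, ← map_mul]
    congr 1
    exact Subtype.ext (mem_centralizer_singleton_iff.1 (e.symm y).2).symm
  have hs : (e T).2 = 1 := centre_trivial fun τ => congrArg Prod.snd (hcen (1, τ))
  have two : ∀ u : Multiplicative (ZMod 2), u = 1 ∨ u = Multiplicative.ofAdd 1 := by decide
  have hu : (e T).1 = Multiplicative.ofAdd 1 := by
    refine (two _).resolve_left fun h => ?_
    have h1 : e T = e 1 := by rw [map_one]; exact Prod.ext h hs
    have h2 : t = 1 := congrArg Subtype.val (e.injective h1)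
    rw [h2, orderOf_one] at ht
    exact absurd ht (by norm_num)
  have heT : e T = (Multiplicative.ofAdd 1, 1) := Prod.ext hu hs
  refine ⟨{ ι := ((centralizer ({t} : Set G)).subtype.comp e.symm.toMonoidHom).comp
              (MonoidHom.inr _ S7)
            inj := ((centralizer ({t} : Set G)).subtype_injective.comp e.symm.injective).comp
              (fun a b h => congrArg Prod.snd h)
            comm := fun σ => (mem_centralizer_singleton_iff.1 (e.symm (1, σ)).2).symm
            notmem := ?_
            surj := ?_
            sq := ht2 }⟩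
  · intro σ h
    have h1 : e.symm (1, σ) = T := Subtype.ext h
    have h2 : ((1 : Multiplicative (ZMod 2)), σ) = (Multiplicative.ofAdd 1, 1) := by
      rw [← heT, ← h1, e.apply_symm_apply]
    have h3 : (1 : Multiplicative (ZMod 2)) = Multiplicative.ofAdd 1 := congrArg Prod.fst h2
    exact absurd h3 (by decide)
  · intro g hg
    set g' : centralizer ({t} : Set G) := ⟨g, mem_centralizer_singleton_iff.2 hg⟩ with hg'
    refine ⟨(e g').2, ?_⟩
    rcases two (e g').1 with h | h
    · refine Or.inl ?_
      have h1 : g' = e.symm (1, (e g').2) := by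
        rw [MulEquiv.eq_symm_apply]; exact Prod.ext h rfl
      exact congrArg Subtype.val h1
    · refine Or.inr ?_
      have h1 : g' = T * e.symm (1, (e g').2) := by
        refine e.injective ?_
        rw [map_mul, e.apply_symm_apply, heT]
        exact Prod.ext (h.trans (mul_one _).symm) (one_mul _).symm
      exact congrArg Subtype.val h1

theorem index_two [Finite G] (t : G) (ht : orderOf t = 2)
    (e : ↥(centralizer ({t} : Set G)) ≃* Multiplicative (ZMod 2) × S7) :
    ∃ H : Subgroup G, H.index = 2 := by
  obtain ⟨F⟩ := exists_fr t ht e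
  by_contra hno
  rcases pattern F hno with h | h | h
  · exact hno (index_two_of_patTwo F h)
  · exact hno (index_two_of_patFour F h)
  · exact hno (index_two_of_patFour F.twist h)

end Cfsg.Agent.SevenInv
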