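import Cfsg.Agent.Lib.SevenInv.Adj

/-!
The members `t w` and `t b` are not adjacent: counting the neighbours inside the centraliser of `t`.
-/

set_option autoImplicit false
set_option linter.unusedSectionVars false
set_option maxRecDepth 100000

namespace Cfsg.Agent.SevenInv

open Subgroup Equiv

/-- The transpositions. -/
def wList : List S7 :=
  [swap 0 1, swap 0 2, swap 0 3, swap 0 4, swap 0 5, swap 0 6, swap 1 2, swap 1 3, swap 1 4, swap 1 5,
    swap 1 6, swap 2 3, swap 2 4, swap 2 5, swap 2 6, swap 3 4, swap 3 5, swap 3 6, swap 4 5, swap 4 6,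
    swap 5 6]

theorem mem_wList {σ : S7} (h : IsConj pW σ) : σ ∈ wList := by
  obtain ⟨k, rfl⟩ := isConj_iff.1 h
  rw [pW, ← Equiv.swap_apply_apply]
  have key : ∀ i j : Fin 7, i ≠ j → (wList.map code).contains (code (swap i j)) = true := by
    decide +kernel
  exact mem_of_code (key _ _ fun e => absurd (k.injective e) (by decide))

/-- Permutations carrying `pW` to `pB` and `pB` to each transposition commuting with it. -/
def kList : List S7 :=
  ([(2, 3), (2, 4), (2, 5), (2, 6), (3, 4), (3, 5), (3, 6), (4, 5), (4, 6), (5, 6)] :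
    List (Fin 7 × Fin 7)).map fun p =>
      swap (swap 4 p.1 5) p.2 * swap 4 p.1 * (swap 0 4 * swap 1 5)

theorem kList_w {k : S7} (hk : k ∈ kList) : k * pW * k⁻¹ = pB := by
  have key : (kList.all fun k => code (k * pW * k⁻¹) == code pB) = true := by decide +kernel
  exact code_injective (beq_iff_eq.1 (List.all_eq_true.1 key k hk))

theorem kList_b {c : S7} (hc : IsConj pW c) (hcb : c * pB = pB * c) (hne : c ≠ pB) :
    ∃ k ∈ kList, k * pB * k⁻¹ = c := by
  have key : (wList.all fun c => code (c * pB) != code (pB * c) || code c == code pB ||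
      ((kList.map fun k => k * pB * k⁻¹).map code).contains (code c)) = true := by decide +kernel
  have h1 := List.all_eq_true.1 key c (mem_wList hc)
  simp only [Bool.or_eq_true, bne_iff_ne, beq_iff_eq] at h1
  rcases h1 with (e | e) | e
  · exact absurd (congrArg code hcb) e
  · exact absurd (code_injective e) hne
  · exact List.mem_map.1 (mem_of_code e)

theorem isConj_wb : IsConj pW pB := Perm.isConj_iff_cycleType_eq.2 (by decide +kernel)

/-- An orbit under a list of conjugators. -/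
def orbList (r : S7) (ks : List S7) : List S7 := ks.map fun k => k * r * k⁻¹

def kA : List S7 := [1, pB]
def kB : List S7 := [1, pA, swap 5 6, pA * swap 5 6, swap 4 6, pA * swap 4 6]
def kC : List S7 := [1, swap 5 6, swap 4 6]
def kD : List S7 := [1, pB, swap 5 6, pB * swap 5 6, swap 4 6, pB * swap 4 6]

theorem kAll_comm {k : S7} (h : k ∈ kA ++ kB ++ kC ++ kD) : k * pZ = pZ * k := by
  have key : ((kA ++ kB ++ kC ++ kD).all fun k => code (k * pZ) == code (pZ * k)) = true := by
    decide +kernel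
  exact code_injective (beq_iff_eq.1 (List.all_eq_true.1 key k h))

theorem cz_cases {σ : S7} (hz : σ * pZ = pZ * σ) (h2 : σ * σ = 1) (h1 : σ ≠ 1) (hne : σ ≠ pZ)
    (hw : ¬ IsConj pW σ) :
    σ ∈ orbList pA kA ∨ σ ∈ orbList (pB * pW) kB ∨ σ ∈ orbList pT kC ∨
      σ ∈ orbList (pA * pW) kD := by
  have key : (czList.all fun σ => code (σ * σ) != code 1 || code σ == code 1 || code σ == code pZ ||
      ([pB, pC, pW, swap 4 6, swap 5 6].map code).contains (code σ) ||
      ((orbList pA kA).map code).contains (code σ) ||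
      ((orbList (pB * pW) kB).map code).contains (code σ) ||
      ((orbList pT kC).map code).contains (code σ) ||
      ((orbList (pA * pW) kD).map code).contains (code σ)) = true := by decide +kernel
  have h := List.all_eq_true.1 key σ (mem_czList hz)
  simp only [Bool.or_eq_true, bne_iff_ne, beq_iff_eq] at h
  rcases h with ((((((e | e) | e) | e) | e) | e) | e) | e
  · exact absurd (congrArg code h2) e
  · exact absurd (code_injective e) h1
  · exact absurd (code_injective e) hne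
  · refine absurd ?_ hw
    have := mem_of_code e
    simp only [List.mem_cons, List.not_mem_nil, or_false] at this
    rcases this with rfl | rfl | rfl | rfl | rfl <;>
      exact Perm.isConj_iff_cycleType_eq.2 (by decide +kernel)
  · exact Or.inl (mem_of_code e)
  · exact Or.inr (Or.inl (mem_of_code e))
  · exact Or.inr (Or.inr (Or.inl (mem_of_code e)))
  · exact Or.inr (Or.inr (Or.inr (mem_of_code e)))

/-- The transpositions commuting with `ζ`, for `ζ = pW`, `pZ`, `pT`. -/
def commW : List S7 :=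
  [pW, pB, swap 0 2, swap 0 3, swap 0 6, swap 1 2, swap 1 3, swap 1 6, pC, swap 2 6, swap 3 6]
def commZ : List S7 := [pB, pC, pW, swap 4 6, swap 5 6]
def commT : List S7 := [pB, pC, pW]

theorem comm_mem (ζ : S7) (l : List S7)
    (key : (wList.all fun c => code (c * ζ) != code (ζ * c) || (l.map code).contains (code c)) = true)
    {c : S7} (hc : IsConj pW c) (h : c * ζ = ζ * c) : c ∈ l := by
  have h1 := List.all_eq_true.1 key c (mem_wList hc)
  simp only [Bool.or_eq_true, bne_iff_ne] at h1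
  rcases h1 with e | e
  · exact absurd (congrArg code h) e
  · exact mem_of_code e

variable {G : Type*} [Group G] [Finite G]

theorem conj_mul_ι {x : G} (F : Fr x) (k σ : S7) :
    F.ι k * (x * F.ι σ) * (F.ι k)⁻¹ = x * F.ι (k * σ * k⁻¹) := by
  rw [← mul_assoc, ← (F.comm k).eq, map_mul, map_mul, map_inv]; group

theorem commute_mul_ι {x : G} (F : Fr x) {σ τ : S7} :
    x * F.ι σ * (x * F.ι τ) = x * F.ι τ * (x * F.ι σ) ↔ σ * τ = τ * σ := by
  rw [(F.comm σ).symm.mul_mul_mul_comm, (F.comm τ).symm.mul_mul_mul_comm, F.sq, one_mul, one_mul,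
    ← map_mul, ← map_mul, F.inj.eq_iff]

theorem ncard_list (f : S7 → G) (l : List S7) : (f '' {σ | σ ∈ l}).ncard ≤ l.length := by
  classical
  refine le_trans (Set.ncard_image_le (Set.toFinite _)) ?_
  rw [show {σ : S7 | σ ∈ l} = (l.toFinset : Set S7) from (List.coe_toFinset _).symm,
    Set.ncard_coe_finset]
  exact List.toFinset_card_le _

theorem ncard_list_eq {f : S7 → G} (hf : Function.Injective f) {l : List S7} (hl : l.Nodup) :
    (f '' {σ | σ ∈ l}).ncard = l.length := by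
  classical
  rw [Set.ncard_image_of_injective _ hf, show {σ : S7 | σ ∈ l} = (l.toFinset : Set S7) from
    (List.coe_toFinset _).symm, Set.ncard_coe_finset, List.toFinset_card_of_nodup hl]

section Four

variable {t : G} {F : Fr t} (hP : PatFour F)
include hP

theorem adjAll_of (h : Adj (t * F.ι pW) (t * F.ι pB)) : AdjAll F := by
  intro c c' hc hc' hcc hne
  obtain ⟨k0, hk0⟩ := isConj_iff.1 (hc.symm.trans isConj_wb)
  have hc'' : IsConj pW (k0 * c' * k0⁻¹) := hc'.trans (isConj_iff.2 ⟨k0, rfl⟩)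
  have hcom : k0 * c' * k0⁻¹ * pB = pB * (k0 * c' * k0⁻¹) := by
    rw [← hk0, show k0 * c' * k0⁻¹ * (k0 * c * k0⁻¹) = k0 * (c' * c) * k0⁻¹ by group, ← hcc]
    group
  have hne' : k0 * c' * k0⁻¹ ≠ pB := by
    rw [← hk0]
    exact fun e => hne (mul_left_cancel (mul_right_cancel e)).symm
  obtain ⟨k, hk, hkb⟩ := kList_b hc'' hcom hne'
  have e := h.conj (F.ι (k0⁻¹ * k))
  rw [conj_mul_ι, conj_mul_ι] at e
  have e1 : k0⁻¹ * k * pW * (k0⁻¹ * k)⁻¹ = c := by
    calc k0⁻¹ * k * pW * (k0⁻¹ * k)⁻¹ = k0⁻¹ * (k * pW * k⁻¹) * k0 := by group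
      _ = c := by rw [kList_w hk, ← hk0]; group
  have e2 : k0⁻¹ * k * pB * (k0⁻¹ * k)⁻¹ = c' := by
    calc k0⁻¹ * k * pB * (k0⁻¹ * k)⁻¹ = k0⁻¹ * (k * pB * k⁻¹) * k0 := by group
      _ = c' := by rw [hkb]; group
  rwa [e1, e2] at e

/-- Neighbours of `t c` commuting with `t`. -/
theorem transp_nbr (hall : AdjAll F) {c σ : S7} (hc : IsConj pW c) (h2 : σ * σ = 1) (h1 : σ ≠ 1)
    (hσ : ¬ IsConj pW σ) (hcσ : σ * c = c * σ) : ¬ Adj (t * F.ι c) (t * F.ι σ) := by
  intro hadj
  obtain ⟨k0, hk0⟩ := isConj_iff.1 (hc.symm.trans isConj_wb)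
  have hadj' := hadj.conj (F.ι k0)
  rw [conj_mul_ι, conj_mul_ι, hk0] at hadj'
  set s := k0 * σ * k0⁻¹ with hs
  have hs2 : s * s = 1 := by
    rw [hs, show k0 * σ * k0⁻¹ * (k0 * σ * k0⁻¹) = k0 * (σ * σ) * k0⁻¹ by group, h2]
    group
  have hsw : ¬ IsConj pW s := fun e => hσ (e.trans (isConj_iff.2 ⟨k0, rfl⟩).symm)
  have hs1 : s ≠ 1 := fun e => h1 (conj_eq_one_iff.1 (hs ▸ e))
  have hsb : s * pB = pB * s := by
    rw [hs, ← hk0, show k0 * σ * k0⁻¹ * (k0 * c * k0⁻¹) = k0 * (σ * c) * k0⁻¹ by group, hcσ]; group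
  set d := t * F.ι pB with hd
  have hdD : IsConj t d := four_mul hP (swap_mul_self _ _)
  obtain ⟨γ, hγ⟩ := isConj_iff.1 hdD
  obtain ⟨F', hF'⟩ := exists_frame F hγ
  have hdt : t * d = d * t := by rw [hd, mul_assoc t (F.ι pB) t, (F.comm pB).eq]
  have hP' := hP.of_conj hγ hF'
  obtain ⟨τ, τ2, hτ⟩ := four_mem hP' hdt hdD.symm
  have hadt : Adj d t := ((adj_mul_iff F (swap_mul_self _ _)).2 isConj_wb).symm
  obtain ⟨k, hk⟩ := isConj_iff.1
    ((adj_mul_iff F' τ2).1 ((congrArg (Adj d) hτ).mp hadt))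
  have htF : t = d * (F'.relabel k).ι pW := by rw [F'.relabel_apply, hk]; exact hτ
  have hP1 := hP'.relabel k
  set A := {e | IsConj t e ∧ e * t = t * e ∧ e * d = d * e ∧ Adj d e} with hA
  set lB : List S7 := 1 :: kList.map (fun k => k * pB * k⁻¹) with hlB
  have hBA : (fun ρ => t * F.ι ρ) '' {ρ | ρ ∈ lB} ⊆ A := by
    rintro _ ⟨ρ, hρ, rfl⟩
    simp only [hlB, Set.mem_ofPred_eq, List.mem_cons, List.mem_map] at hρ
    have ct : t * F.ι ρ * t = t * (t * F.ι ρ) := by rw [mul_assoc, ← (F.comm ρ).eq]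
    rcases hρ with rfl | ⟨j, hj, rfl⟩
    · simp only [map_one, mul_one]
      exact ⟨IsConj.refl t, rfl, hdt, hadt⟩
    · have e1 : IsConj pW (j * pB * j⁻¹) := isConj_wb.trans (isConj_iff.2 ⟨j, rfl⟩)
      have e2 : j * pB * j⁻¹ * (j * pB * j⁻¹) = 1 := by
        rw [show j * pB * j⁻¹ * (j * pB * j⁻¹) = j * (pB * pB) * j⁻¹ by group,
          show pB * pB = 1 from swap_mul_self _ _]
        group
      have e3 : pB * (j * pB * j⁻¹) = j * pB * j⁻¹ * pB := by
        have h : pW * pB = pB * pW := by decide +kernel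
        rw [show pB * (j * pB * j⁻¹) = j * (pW * pB) * j⁻¹ by rw [← kList_w hj]; group, h,
          ← kList_w hj]
        group
      have e4 : pB ≠ j * pB * j⁻¹ := by
        intro e
        rw [← kList_w hj] at e
        have : pW = pB := mul_left_cancel (mul_right_cancel (e.trans (by rw [kList_w hj])))
        exact absurd this (by decide +kernel)
      exact ⟨four_mul hP e2, ct, (commute_mul_ι F).2 e3.symm, hall _ _ isConj_wb e1 e3 e4⟩
  have hAC : A ⊆ (fun ρ => d * (F'.relabel k).ι ρ) '' {ρ | ρ ∈ commW} := by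
    rintro e ⟨he, het, hed, head⟩
    obtain ⟨ρ, ρ2, hρ⟩ := four_mem hP1 hed (hdD.symm.trans he)
    refine ⟨ρ, comm_mem pW commW (by decide +kernel) ((adj_mul_iff _ ρ2).1 (hρ ▸ head)) ?_, hρ.symm⟩
    rw [hρ] at het
    exact (commute_mul_ι (F'.relabel k)).1 (by rw [← htF]; exact het)
  have hcardB : ((fun ρ => t * F.ι ρ) '' {ρ | ρ ∈ lB}).ncard = 11 :=
    ncard_list_eq (fun _ _ e => F.x_mul_inj e) (List.Nodup.of_map code (by rw [hlB]; decide +kernel))
  have hEq : (fun ρ => t * F.ι ρ) '' {ρ | ρ ∈ lB} = A := by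
    refine Set.eq_of_subset_of_ncard_le hBA ?_ (Set.toFinite _)
    rw [hcardB]
    exact (Set.ncard_le_ncard hAC (Set.toFinite _)).trans (ncard_list _ commW)
  have hmem : t * F.ι s ∈ A := ⟨four_mul hP hs2, by rw [mul_assoc, ← (F.comm s).eq],
    (commute_mul_ι F).2 hsb, hadj'⟩
  rw [← hEq] at hmem
  obtain ⟨ρ, hρ, e⟩ := hmem
  obtain rfl := F.x_mul_inj e
  simp only [hlB, Set.mem_ofPred_eq, List.mem_cons, List.mem_map] at hρ
  rcases hρ with e | ⟨j, hj, e⟩
  · exact hs1 e
  · exact hsw (e ▸ isConj_wb.trans (isConj_iff.2 ⟨j, rfl⟩))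

/-- `t w` and `t b` are not adjacent. -/
theorem not_adj_wb : ¬ Adj (t * F.ι pW) (t * F.ι pB) := by
  intro h
  have hall := adjAll_of hP h
  have hz2 : pZ * pZ = 1 := by decide +kernel
  set x := t * F.ι pZ with hx
  obtain ⟨γ, hγ⟩ := isConj_iff.1 hP.e
  obtain ⟨F0, hF0⟩ := exists_frame F hγ
  have hP0 := hP.of_conj hγ hF0
  have hall0 := hall.of_conj hγ hF0
  have hxt : t * x = x * t := by rw [hx, mul_assoc t (F.ι pZ) t, (F.comm pZ).eq]
  obtain ⟨ζ, ζ2, hζ⟩ := four_mem hP0 hxt hP.e.symm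
  have hζw : ¬ IsConj pW ζ := fun e =>
    not_conj_wz ((adj_mul_iff F hz2).1
      ((congrArg (Adj x) hζ.symm).mp ((adj_mul_iff F0 ζ2).2 e)).symm)
  have hζ1 : ζ ≠ 1 := fun e => by
    rw [e, map_one, mul_one] at hζ
    exact absurd (F.inj ((mul_eq_left.1 hζ.symm).trans (map_one _).symm)) (by decide +kernel)
  -- choose the numbering
  obtain ⟨Fx, hPx, hallx, htx⟩ : ∃ Fx : Fr x, PatFour Fx ∧ AdjAll Fx ∧
      (t = x * Fx.ι pZ ∨ t = x * Fx.ι pT) := by
    rcases class_cases ζ ζ2 hζ1 with c | c | c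
    · exact absurd c hζw
    · obtain ⟨k, hk⟩ := isConj_iff.1 c
      exact ⟨F0.relabel k, hP0.relabel k, hall0.relabel k, Or.inl (by
        rw [F0.relabel_apply, hk]; exact hζ)⟩
    · obtain ⟨k, hk⟩ := isConj_iff.1 c
      exact ⟨F0.relabel k, hP0.relabel k, hall0.relabel k, Or.inr (by
        rw [F0.relabel_apply, hk]; exact hζ)⟩
  set X := {e | IsConj t e ∧ e * t = t * e ∧ e * x = x * e ∧ Adj x e} with hX
  -- members of `X` seen from `t`
  have hmemX : ∀ e ∈ X, ∃ σ, e = t * F.ι σ ∧ (σ ∈ orbList pA kA ∨ σ ∈ orbList (pB * pW) kB ∨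
      σ ∈ orbList pT kC ∨ σ ∈ orbList (pA * pW) kD) := by
    rintro e ⟨he, het, hex, head⟩
    obtain ⟨σ, σ2, rfl⟩ := four_mem hP het he
    have hzc : σ * pZ = pZ * σ := (commute_mul_ι F).1 hex
    refine ⟨σ, rfl, cz_cases hzc σ2 ?_ ?_ ?_⟩
    · intro e1
      rw [e1, map_one, mul_one] at head
      exact not_conj_wz ((adj_mul_iff F hz2).1 head.symm)
    · intro e1
      rw [e1] at head
      have h' : Adj x (x * Fx.ι 1) := by rw [map_one, mul_one]; exact head
      exact absurd (isConj_one_left.1 ((adj_mul_iff Fx (one_mul 1)).1 h')) (by decide +kernel)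
    · intro hc
      exact transp_nbr hP hall hc hz2 (by decide +kernel) not_conj_wz hzc.symm head.symm
  -- invariance
  have hmove : ∀ r ks, (∀ k ∈ ks, k ∈ kA ++ kB ++ kC ++ kD) → ∀ σ ∈ orbList r ks,
      t * F.ι σ ∈ X → (fun ρ => t * F.ι ρ) '' {ρ | ρ ∈ orbList r ks} ⊆ X := by
    intro r ks hks σ hσ hσX
    rintro _ ⟨ρ, hρ, rfl⟩
    obtain ⟨k1, hk1, rfl⟩ := List.mem_map.1 hσ
    obtain ⟨k2, hk2, rfl⟩ := List.mem_map.1 hρ
    obtain ⟨h1, h2, h3, h4⟩ := hσX
    set g := F.ι (k2 * k1⁻¹) with hg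
    have hgz : k2 * k1⁻¹ * pZ = pZ * (k2 * k1⁻¹) := by
      have a1 : Commute k1 pZ := kAll_comm (hks _ hk1)
      have a2 : Commute k2 pZ := kAll_comm (hks _ hk2)
      exact (a2.mul_left a1.inv_left).eq
    have e1 : g * (t * F.ι (k1 * r * k1⁻¹)) * g⁻¹ = t * F.ι (k2 * r * k2⁻¹) := by
      rw [hg, conj_mul_ι]; congr 2; group
    have e2 : g * x * g⁻¹ = x := by
      rw [hg, hx, conj_mul_ι, hgz, mul_inv_cancel_right]
    have e3 : g * t * g⁻¹ = t := by rw [hg, ← (F.comm _).eq, mul_inv_cancel_right]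
    show t * F.ι (k2 * r * k2⁻¹) ∈ X
    refine ⟨h1.trans (e1 ▸ isConj_iff.2 ⟨g, rfl⟩), by rw [mul_assoc, ← (F.comm _).eq], ?_,
      e1 ▸ e2 ▸ h4.conj g⟩
    rw [← e1]
    refine (congrArg (fun y => g * (t * F.ι (k1 * r * k1⁻¹)) * g⁻¹ * y) e2.symm).trans (Eq.trans ?_
      (congrArg (fun y => y * (g * (t * F.ι (k1 * r * k1⁻¹)) * g⁻¹)) e2))
    calc g * (t * F.ι (k1 * r * k1⁻¹)) * g⁻¹ * (g * x * g⁻¹)
        = g * (t * F.ι (k1 * r * k1⁻¹) * x) * g⁻¹ := by group
      _ = g * (x * (t * F.ι (k1 * r * k1⁻¹))) * g⁻¹ := by rw [h3]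
      _ = g * x * g⁻¹ * (g * (t * F.ι (k1 * r * k1⁻¹)) * g⁻¹) := by group
  have hinjt : Function.Injective fun ρ => t * F.ι ρ := fun _ _ e => F.x_mul_inj e
  have hXx : ∀ e ∈ X, ∃ c, c * c = 1 ∧ IsConj pW c ∧ e = x * Fx.ι c ∧ (x * Fx.ι c) * t = t * (x * Fx.ι c) := by
    rintro e ⟨he, het, hex, head⟩
    obtain ⟨c, c2, rfl⟩ := four_mem hPx hex (hP.e.symm.trans he)
    exact ⟨c, c2, (adj_mul_iff Fx c2).1 head, rfl, het⟩
  have hX5 : X.ncard ≤ 5 := by
    rcases htx with e | e
    · refine le_trans (Set.ncard_le_ncard (t := (fun c => x * Fx.ι c) '' {c | c ∈ commZ}) ?_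
        (Set.toFinite _)) (ncard_list _ commZ)
      intro v hv
      obtain ⟨c, c2, hc, rfl, hct⟩ := hXx v hv
      exact ⟨c, comm_mem pZ commZ (by decide +kernel) hc
        ((commute_mul_ι Fx).1 (by rw [← e]; exact hct)), rfl⟩
    · refine le_trans ((Set.ncard_le_ncard (t := (fun c => x * Fx.ι c) '' {c | c ∈ commT}) ?_
        (Set.toFinite _)).trans (ncard_list _ commT)) (by decide)
      intro v hv
      obtain ⟨c, c2, hc, rfl, hct⟩ := hXx v hv
      exact ⟨c, comm_mem pT commT (by decide +kernel) hc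
        ((commute_mul_ι Fx).1 (by rw [← e]; exact hct)), rfl⟩
  have no_six : ∀ r ks σ, (∀ k ∈ ks, k ∈ kA ++ kB ++ kC ++ kD) → σ ∈ orbList r ks →
      t * F.ι σ ∈ X → (orbList r ks).Nodup → (orbList r ks).length ≤ 5 := by
    intro r ks σ hks hσ hσX hnd
    rw [← ncard_list_eq hinjt hnd]
    exact (Set.ncard_le_ncard (hmove r ks hks σ hσ hσX) (Set.toFinite _)).trans hX5
  have hAC : X ⊆ (fun ρ => t * F.ι ρ) '' {ρ | ρ ∈ orbList pA kA ++ orbList pT kC} := by
    intro e he
    obtain ⟨σ, rfl, hσ⟩ := hmemX e he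
    refine ⟨σ, ?_, rfl⟩
    rcases hσ with c | c | c | c
    · exact List.mem_append_left _ c
    · exact absurd (no_six _ kB σ (fun k hk => by simp [hk]) c he
        (List.Nodup.of_map code (by decide +kernel))) (by decide +kernel)
    · exact List.mem_append_right _ c
    · exact absurd (no_six _ kD σ (fun k hk => by simp [hk]) c he
        (List.Nodup.of_map code (by decide +kernel))) (by decide +kernel)
  have hlow : ∀ l : List S7, l.Nodup → (∀ c ∈ l, IsConj pW c ∧ c * c = 1 ∧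
      x * Fx.ι c * t = t * (x * Fx.ι c)) → (fun c => x * Fx.ι c) '' {c | c ∈ l} ⊆ X := by
    rintro l - hl _ ⟨c, hc, rfl⟩
    obtain ⟨a, b, d⟩ := hl c hc
    exact ⟨hP.e.trans (four_mul hPx b), d, by rw [mul_assoc, ← (Fx.comm c).eq],
      (adj_mul_iff Fx b).2 a⟩
  have hinjx : Function.Injective fun c => x * Fx.ι c := fun _ _ e => Fx.x_mul_inj e
  rcases htx with e | e
  · -- five neighbours
    have hl := hlow commZ (List.Nodup.of_map code (by decide +kernel)) (by
      intro c hc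
      simp only [commZ, List.mem_cons, List.not_mem_nil, or_false] at hc
      rw [e]
      rcases hc with rfl | rfl | rfl | rfl | rfl <;>
        exact ⟨Perm.isConj_iff_cycleType_eq.2 (by decide +kernel), by decide +kernel,
          (commute_mul_ι Fx).2 (by decide +kernel)⟩)
    have hfull : (fun ρ => t * F.ι ρ) '' {ρ | ρ ∈ orbList pA kA ++ orbList pT kC} = X := by
      refine (Set.eq_of_subset_of_ncard_le hAC ?_ (Set.toFinite _)).symm
      have h5 := ncard_list_eq hinjx (List.Nodup.of_map code (by decide +kernel) : commZ.Nodup)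
      refine (ncard_list _ _).trans ?_
      refine le_trans ?_ (Set.ncard_le_ncard hl (Set.toFinite _))
      rw [h5]
      decide +kernel
    have m1 : t * F.ι pA ∈ X := hfull ▸ ⟨pA, mem_of_code (by decide +kernel), rfl⟩
    have m2 : t * F.ι pT ∈ X := hfull ▸ ⟨pT, mem_of_code (by decide +kernel), rfl⟩
    obtain ⟨c, c2, hc, ec, -⟩ := hXx _ m1
    obtain ⟨c', c2', hc', ec', -⟩ := hXx _ m2
    have hcc : c * c' = c' * c := (commute_mul_ι Fx).1 (by
      rw [← ec, ← ec']; exact (commute_mul_ι F).2 (by decide +kernel))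
    have hne : c ≠ c' := by
      intro h'
      rw [h', ← ec'] at ec
      exact absurd (F.x_mul_inj ec) (by decide +kernel)
    have hA := hallx c c' hc hc' hcc hne
    rw [← ec, ← ec'] at hA
    have hA' := hA.conj (F.ι (swap 1 2))
    rw [conj_mul_ι, conj_mul_ι, show swap 1 2 * pA * (swap 1 2)⁻¹ = pZ by decide +kernel,
      show swap 1 2 * pT * (swap 1 2)⁻¹ = pA * pW by decide +kernel] at hA'
    have m3 : t * F.ι (pA * pW) ∈ X := ⟨four_mul hP (by decide +kernel),
      by rw [mul_assoc, ← (F.comm _).eq], (commute_mul_ι F).2 (by decide +kernel), hA'⟩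
    rw [← hfull] at m3
    obtain ⟨ρ, hρ, e3⟩ := m3
    obtain rfl := F.x_mul_inj e3
    exact absurd (code_of_mem hρ) (by decide +kernel)
  · -- three neighbours, pairwise commuting
    have hl := hlow commT (List.Nodup.of_map code (by decide +kernel)) (by
      intro c hc
      simp only [commT, List.mem_cons, List.not_mem_nil, or_false] at hc
      rw [e]
      rcases hc with rfl | rfl | rfl <;>
        exact ⟨Perm.isConj_iff_cycleType_eq.2 (by decide +kernel), by decide +kernel,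
          (commute_mul_ι Fx).2 (by decide +kernel)⟩)
    have hX3 : 3 ≤ X.ncard := by
      have := Set.ncard_le_ncard hl (Set.toFinite _)
      rwa [ncard_list_eq hinjx (List.Nodup.of_map code (by decide +kernel)),
        show commT.length = 3 from rfl] at this
    have hex : ∃ σ ∈ orbList pT kC, t * F.ι σ ∈ X := by
      by_contra hcon
      push Not at hcon
      have h2 : X ⊆ (fun ρ => t * F.ι ρ) '' {ρ | ρ ∈ orbList pA kA} := by
        intro v hv
        obtain ⟨ρ, hρ, rfl⟩ := hAC hv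
        refine ⟨ρ, (List.mem_append.1 hρ).resolve_right fun h' => hcon ρ h' hv, rfl⟩
      have := (Set.ncard_le_ncard h2 (Set.toFinite _)).trans (ncard_list _ _)
      rw [show (orbList pA kA).length = 2 from rfl] at this
      omega
    obtain ⟨σ, hσ, hσX⟩ := hex
    have hsub := hmove pT kC (fun k hk => by simp [hk]) σ hσ hσX
    obtain ⟨c, c2, hc, ec, hct⟩ := hXx _ (hsub ⟨pT, mem_of_code (by decide +kernel), rfl⟩)
    obtain ⟨c', c2', hc', ec', hct'⟩ := hXx _
      (hsub ⟨swap 5 6 * pT * (swap 5 6)⁻¹, mem_of_code (by decide +kernel), rfl⟩)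
    have m : ∀ {d : S7}, IsConj pW d → x * Fx.ι d * t = t * (x * Fx.ι d) → d ∈ commT :=
      fun hd hdt => comm_mem pT commT (by decide +kernel) hd
        ((commute_mul_ι Fx).1 (by rw [← e]; exact hdt))
    have key : (commT.all fun a => commT.all fun b => code (a * b) == code (b * a)) = true := by
      decide +kernel
    have hcc : c * c' = c' * c := code_injective (beq_iff_eq.1
      (List.all_eq_true.1 (List.all_eq_true.1 key c (m hc hct)) c' (m hc' hct')))
    have : t * F.ι pT * (t * F.ι (swap 5 6 * pT * (swap 5 6)⁻¹)) =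
        t * F.ι (swap 5 6 * pT * (swap 5 6)⁻¹) * (t * F.ι pT) := by
      simp only at ec ec'
      rw [ec, ec']; exact (commute_mul_ι Fx).2 hcc
    exact absurd ((commute_mul_ι F).1 this) (by decide +kernel)

end Four

end Cfsg.Agent.SevenInv
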