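import Cfsg.Agent.Lib.SevenInv.SwapW

/-!
The three swapping involutions of commuting transpositions: their commutators, and their adjacency
when they belong to the class.
-/

set_option autoImplicit false
set_option linter.unusedSectionVars false
set_option maxRecDepth 100000

namespace Cfsg.Agent.SevenInv

open Subgroup Equiv

/-- The elements of `S3` on the last three points, as a list of transpositions. -/
def tThree : List S7 := [pW, swap 4 6, swap 5 6]

/-- The permutation exchanging `pW` and `pB`. -/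
def kWB : S7 := swap 0 4 * swap 1 5

/-- The twist by `σ`. -/
def eW (ε : Bool) (σ : S7) : S7 := bif ε then σ else 1

theorem eW_conj (ε : Bool) (k σ : S7) : k * eW ε σ * k⁻¹ = eW ε (k * σ * k⁻¹) := by
  cases ε
  · show k * 1 * k⁻¹ = 1
    group
  · rfl

theorem s12 : five (swap 1 2) = swap 1 2 := by decide +kernel
theorem five_pB : five (swap 0 1) = pB := by decide +kernel
theorem five_pC : five (swap 2 3) = pC := by decide +kernel

variable {G : Type*} [Group G] [Finite G]

theorem four_ι_of_inv {t : G} {F : Fr t} (hP : PatFour F) {s : G} (hs : s * s = 1)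
    (hc : s * t = t * s) (hn : ¬ IsConj t s) : ∃ σ : S7, σ * σ = 1 ∧ s = F.ι σ := by
  obtain ⟨σ, e | e⟩ := F.surj s hc
  · exact ⟨σ, F.inj (by rw [map_mul, ← e, hs, map_one]), e⟩
  · have h2 : σ * σ = 1 := F.inj (by rw [← F.x_mul_sq, ← e, hs, map_one])
    exact absurd (e ▸ four_mul hP h2) hn

section

variable {t : G} {F : Fr t} (hP : PatFour F)
include hP

/-- The product of two swapping involutions. -/
theorem swap_product {h0 hb : G} (H0 : Swap F pW h0) (Hb : Swap F pB hb) :
    ∃ ε : Bool, hb * h0 = h0 * hb * F.ι (eW ε (pW * pB)) := by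
  have hwb : pW * pB = pB * pW := by decide +kernel
  have hh0 : h0⁻¹ = h0 := inv_eq_of_mul_eq_one_left H0.sq
  have hhb : hb⁻¹ = hb := inv_eq_of_mul_eq_one_left Hb.sq
  set h' := hb * h0 * hb with hh'
  have hsq' : h' * h' = 1 := by
    rw [hh', show hb * h0 * hb * (hb * h0 * hb) = hb * h0 * (hb * hb) * h0 * hb by group, Hb.sq,
      mul_one, mul_assoc hb, H0.sq, mul_one, Hb.sq]
  have hmove : h' * t * h' = t * F.ι pW := by
    calc h' * t * h' = hb * (h0 * (hb * t * hb) * h0) * hb := by rw [hh']; group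
      _ = hb * (t * F.ι (pW * pB)) * hb := by rw [Hb.move, H0.move' hwb.symm]
      _ = t * F.ι pW := by
        rw [Hb.move' (by decide +kernel : pW * pB * pB = pB * (pW * pB))]
        rw [show pB * (pW * pB) = pW by decide +kernel]
  set u := h0 * h' with hu
  have hut : u * t = t * u := by
    refine mul_inv_eq_iff_eq_mul.1 ?_
    calc u * t * u⁻¹ = h0 * (h' * t * h'⁻¹) * h0⁻¹ := by rw [hu]; group
      _ = t := by rw [inv_eq_of_mul_eq_one_left hsq', hmove, hh0, H0.back]
  have huc : ∀ σ : S7, σ * pW = pW * σ → σ * pB = pB * σ → u * F.ι σ = F.ι σ * u := by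
    intro σ h1 h2
    have c0 : Commute h0 (F.ι σ) := H0.comm σ h1
    have cb : Commute hb (F.ι σ) := Hb.comm σ h2
    exact (c0.mul_left ((cb.mul_left c0).mul_left cb)).eq
  obtain ⟨σ, hσ⟩ := F.surj u hut
  have hσc : ∀ τ : S7, τ * pW = pW * τ → τ * pB = pB * τ → σ * τ = τ * σ := by
    intro τ h1 h2
    have h := huc τ h1 h2
    rcases hσ with e | e <;> rw [e] at h
    · exact F.inj (by rw [map_mul, map_mul, h])
    · refine F.inj ?_
      rw [mul_assoc, ← mul_assoc (F.ι τ), ← (F.comm τ).eq, mul_assoc] at h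
      rw [map_mul, map_mul, mul_left_cancel h]
  have hmem : σ ∈ [1, pW, pB, pW * pB] := by
    have hz : σ * pZ = pZ * σ := hσc pZ (by decide +kernel) (by decide +kernel)
    have key : (czList.all fun s =>
        ([pW, pB, pC, swap 3 6].any fun τ => code (s * τ) != code (τ * s)) ||
        ([1, pW, pB, pW * pB].map code).contains (code s)) = true := by decide +kernel
    have h1 := List.all_eq_true.1 key σ (mem_czList hz)
    simp only [Bool.or_eq_true, List.any_eq_true, bne_iff_ne] at h1
    rcases h1 with ⟨τ, hτ, hne⟩ | h1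
    · refine absurd (congrArg code (hσc τ ?_ ?_)) hne <;>
        (simp only [List.mem_cons, List.not_mem_nil, or_false] at hτ;
          rcases hτ with rfl | rfl | rfl | rfl <;> decide +kernel)
    · exact mem_of_code h1
  have hspec : ∀ s ∈ [1, pW, pB, pW * pB],
      s * s = 1 ∧ s * pW = pW * s ∧ s * pB = pB * s ∧ (kWB * s * kWB⁻¹ = s → s = 1 ∨ s = pW * pB) := by
    have key : ([1, pW, pB, pW * pB].all fun s => code (s * s) == code 1 &&
        code (s * pW) == code (pW * s) && code (s * pB) == code (pB * s) &&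
        (code (kWB * s * kWB⁻¹) != code s || code s == code 1 || code s == code (pW * pB))) = true := by
      decide +kernel
    intro s hs
    have h := List.all_eq_true.1 key s hs
    simp only [Bool.and_eq_true, Bool.or_eq_true, beq_iff_eq, bne_iff_ne] at h
    obtain ⟨⟨⟨a, b⟩, c⟩, d⟩ := h
    refine ⟨code_injective a, code_injective b, code_injective c, fun e => ?_⟩
    rcases d with (d | d) | d
    · exact absurd (congrArg code e) d
    · exact Or.inl (code_injective d)
    · exact Or.inr (code_injective d)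
  obtain ⟨σ2, σw, σb, σs⟩ := hspec σ hmem
  have huu : u⁻¹ = u := by
    refine inv_eq_of_mul_eq_one_left ?_
    rcases hσ with e | e <;> rw [e]
    · rw [← map_mul, σ2, map_one]
    · rw [F.x_mul_sq, σ2, map_one]
  have hinv : h0 * u * h0 = u := by
    conv_rhs => rw [← huu, hu, mul_inv_rev, hh0, inv_eq_of_mul_eq_one_left hsq']
    rw [hu, ← mul_assoc h0 h0, H0.sq, one_mul]
  have hσ' : u = F.ι σ := by
    rcases hσ with e | e
    · exact e
    · exfalso
      rw [e, H0.move' σw, mul_right_inj, F.inj.eq_iff, mul_eq_right] at hinv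
      exact absurd hinv (by decide +kernel)
  -- the symmetry
  have hs1 : kWB * pW * kWB⁻¹ = pB := by decide +kernel
  have hs2 : kWB * pB * kWB⁻¹ = pW := by decide +kernel
  have A := H0.conj kWB
  rw [hs1] at A
  have B := Hb.conj kWB
  rw [hs2] at B
  set A' := F.ι kWB * h0 * (F.ι kWB)⁻¹ with hA'
  set B' := F.ι kWB * hb * (F.ι kWB)⁻¹ with hB'
  have hAB : A' * B' * (A' * B') = F.ι (kWB * σ * kWB⁻¹) := by
    rw [map_mul, map_mul, map_inv, ← hσ', hu, hh', hA', hB']
    group
  have hsym : A' * B' * (A' * B') = u⁻¹ := by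
    have c1 : Commute hb (F.ι pW) := Hb.comm pW hwb
    have c2 : Commute h0 (F.ι pB) := H0.comm pB hwb.symm
    have c3 : Commute hb (F.ι pB) := Hb.comm pB rfl
    have c4 : Commute h0 (F.ι pW) := H0.comm pW rfl
    have c5 : Commute (F.ι pB) (F.ι pW) := by
      show _ = _
      rw [← map_mul, ← map_mul, hwb]
    have hbb : F.ι pB * F.ι pB = 1 := by
      rw [← map_mul, show pB * pB = 1 from swap_mul_self _ _, map_one]
    have hww : F.ι pW * F.ι pW = 1 := by
      rw [← map_mul, show pW * pW = 1 from swap_mul_self _ _, map_one]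
    have hu' : u⁻¹ = hb * h0 * (hb * h0) := by
      rw [hu, hh', mul_inv_rev, mul_inv_rev, mul_inv_rev, hh0, hhb]; group
    -- moving a commuting involution through the square
    have key : ∀ {x y p : G}, Commute x p → Commute y p → p * p = 1 →
        x * p * y * (x * p * y) = x * y * (x * y) ∧ x * (y * p) * (x * (y * p)) = x * y * (x * y) := by
      intro x y p hx hy hp
      constructor
      · rw [mul_assoc x p y, ← hy.eq, show x * (y * p) * (x * (y * p)) = x * y * ((p * x) * y * p) by
          group, ← hx.eq, show x * p * y * p = x * (p * y) * p by group, ← hy.eq,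
          show x * (y * p) * p = x * y * (p * p) by group, hp, mul_one]
      · rw [show x * (y * p) * (x * (y * p)) = x * y * ((p * x) * y * p) by
          group, ← hx.eq, show x * p * y * p = x * (p * y) * p by group, ← hy.eq,
          show x * (y * p) * p = x * y * (p * p) by group, hp, mul_one]
    rw [hu']
    rcases Hb.unique isConj_wb A with ea | ea <;> rcases H0.unique_w B with eb | eb <;> rw [ea, eb]
    · exact (key c1 c4 hww).2
    · exact (key c3 c2 hbb).1
    · rw [(key c3 (c2.mul_left c5.symm) hbb).1, (key c1 c4 hww).2]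
  rw [hsym, huu, hσ'] at hAB
  have hfin : u = h0 * hb * h0 * hb := by rw [hu, hh']; group
  have hrel : hb * h0 = h0 * hb * F.ι σ := by
    have c : Commute hb (F.ι σ) := Hb.comm σ σb
    rw [mul_assoc h0, c.eq, ← hσ', hfin]
    simp only [mul_assoc, Hb.sq, mul_one]
    rw [← mul_assoc h0 h0, H0.sq, one_mul]
  rcases σs (F.inj hAB.symm) with rfl | rfl
  · exact ⟨false, hrel⟩
  · exact ⟨true, hrel⟩

/-- If the swapping involution is a member, it is adjacent to its product with a transposition. -/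
theorem swap_adj {h : G} (H : Swap F pW h) (hD : IsConj t h) : Adj h (h * F.ι pB) := by
  obtain ⟨F0, hP0⟩ := frame_of hP hD
  have hdD : ∀ {u}, IsConj h u → IsConj t u := fun e => hD.trans e
  have hw2 : F.ι pW * F.ι pW = 1 := by
    rw [← map_mul, show pW * pW = 1 from swap_mul_self _ _, map_one]
  obtain ⟨σw, σw2, eσw⟩ := four_ι_of_inv hP0 hw2 H.comm_self.symm
    (fun e => four_ι hP pW (hdD e))
  have hσ1 : σw ≠ 1 := fun e => absurd (F.inj (eσw.trans (by rw [e, map_one, map_one])))
    (by decide +kernel : pW ≠ 1)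
  have htr : IsConj pW σw := by
    have h48 : Nat.card (centralizer ({σw} : Set S7)) ≠ 48 := by
      intro h48
      have hle : Nat.card (centralizer ({pW} : Set S7)) ≤
          Nat.card ↥(centralizer ({h} : Set G) ⊓ centralizer ({F0.ι σw} : Set G)) := by
        refine Nat.card_le_card_of_injective (fun τ => ⟨F.ι τ.1, ?_⟩)
          (fun a b e => Subtype.ext (F.inj (congrArg Subtype.val e)))
        have hτ := mem_centralizer_singleton_iff.1 τ.2
        rw [mem_inf, mem_centralizer_singleton_iff, mem_centralizer_singleton_iff, ← eσw]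
        exact ⟨(H.comm _ hτ).symm, by rw [← map_mul, hτ, map_mul]⟩
      rw [F0.pair_card, h48, centralizer_w] at hle
      omega
    rcases class_cases σw σw2 hσ1 with c | c | c
    · exact c
    · exact absurd ((card_centralizer_conj c).trans centralizer_z) h48
    · exact absurd ((card_centralizer_conj c).trans centralizer_t) h48
  obtain ⟨k0, hk0⟩ := isConj_iff.1 htr
  set F1 := F0.relabel k0 with hF1
  have hP1 := hP0.relabel k0
  have e1w : F1.ι pW = F.ι pW := by rw [hF1, F0.relabel_apply, hk0, ← eσw]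
  obtain ⟨k, hk⟩ := five_hom (t := t) F1 (F.ι.comp five)
    (fun σ h2 => hdD (four_mul hP1 h2))
    (fun σ => (H.comm _ (five_comm σ)).symm)
    (fun σ => by
      rw [e1w, MonoidHom.comp_apply, ← map_mul, five_comm, map_mul])
    (fun σ hσ => by
      simp only [List.mem_cons, List.not_mem_nil, or_false, MonoidHom.comp_apply] at hσ
      rcases hσ with c | c | c | c
      · exact five_injective (F.inj (c.trans (map_one _).symm) |>.trans (map_one _).symm)
      · exact absurd hD (c ▸ four_ι hP (five σ))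
      · exact absurd (F.inj (c.trans e1w)) (five_w_ne σ)
      · exact absurd (hdD (four_mul hP1 (swap_mul_self 4 5)))
          (show ¬ IsConj t (h * F1.ι pW) from c ▸ four_ι hP (five σ)))
    (fun σ _ => four_ι hP (five σ))
  rcases hk with hk | hk
  · have e : F.ι pB = F1.ι (five (k * swap 0 1 * k⁻¹)) := by
      rw [← hk, MonoidHom.comp_apply, five_pB]
    rw [e]
    have hc : IsConj pW (five (k * swap 0 1 * k⁻¹)) := isConj_five (isConj_iff.2 ⟨k, rfl⟩)
    exact (adj_mul_iff F1 (by
      rw [← map_mul, show k * swap 0 1 * k⁻¹ * (k * swap 0 1 * k⁻¹) = k * (swap 0 1 * swap 0 1) * k⁻¹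
        by group, swap_mul_self]
      simp)).2 hc
  -- the twisted case is impossible
  exfalso
  set F2 := F1.relabel (five k) with hF2
  have hP2 := hP1.relabel (five k)
  have e2w : F2.ι pW = F.ι pW := by
    rw [hF2, F1.relabel_apply, five_comm, mul_inv_cancel_right, e1w]
  have hk2 : ∀ σ, F.ι (five σ) = F2.ι (pairW (Perm.sign σ, σ)) := fun σ => by
    have h1 := hk σ
    rw [MonoidHom.comp_apply] at h1
    rw [h1, hF2, F1.relabel_apply]
    congr 1
    rcases Int.units_eq_one_or (Perm.sign σ) with e | e <;> rw [e]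
    · rw [pairW_one, pairW_one, map_mul five, map_mul five, map_inv five]
    · rw [pairW_neg, pairW_neg, map_mul five, map_mul five, map_inv five, ← mul_assoc (five k),
        five_comm]
      group
  have neg1 : ∀ i j : Fin 5, i ≠ j → F.ι (five (swap i j)) = F2.ι (pW * five (swap i j)) :=
    fun i j hij => by rw [hk2, Perm.sign_swap hij, pairW_neg]
  set Q := centralizer ({F.ι pB, F.ι (swap 1 2), F.ι pC} : Set G) with hQ
  have memQ : ∀ {g : G}, g ∈ Q ↔ g * F.ι pB = F.ι pB * g ∧
      g * F.ι (swap 1 2) = F.ι (swap 1 2) * g ∧ g * F.ι pC = F.ι pC * g := by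
    intro g
    rw [hQ, mem_centralizer_iff]
    simp only [Set.mem_insert_iff, Set.mem_singleton_iff, forall_eq_or_imp, forall_eq]
    exact ⟨fun ⟨a, b, c⟩ => ⟨a.symm, b.symm, c.symm⟩, fun ⟨a, b, c⟩ => ⟨a.symm, b.symm, c.symm⟩⟩
  have hι : ∀ σ : S7, σ * pB = pB * σ → σ * swap 1 2 = swap 1 2 * σ → σ * pC = pC * σ → F.ι σ ∈ Q := by
    intro σ a b c
    rw [memQ]
    refine ⟨?_, ?_, ?_⟩ <;> rw [← map_mul, ← map_mul]
    exacts [congrArg F.ι a, congrArg F.ι b, congrArg F.ι c]
  have hwQ : F.ι pW ∈ Q := hι _ (by decide +kernel) (by decide +kernel) (by decide +kernel)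
  have h46Q : F.ι (swap 4 6) ∈ Q := hι _ (by decide +kernel) (by decide +kernel) (by decide +kernel)
  have h56Q : F.ι (swap 5 6) ∈ Q := hι _ (by decide +kernel) (by decide +kernel) (by decide +kernel)
  have hhQ : h ∈ Q := memQ.2 ⟨H.comm _ (by decide +kernel), H.comm _ (by decide +kernel),
    H.comm _ (by decide +kernel)⟩
  have htQ : t ∈ Q := memQ.2 ⟨(F.comm _).eq, (F.comm _).eq, (F.comm _).eq⟩
  -- the centraliser of `h` in `Q`
  have hCh : ∀ g ∈ Q, g * h = h * g → g = 1 ∨ g = h ∨ g = F.ι pW ∨ g = h * F.ι pW := by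
    intro g hg hgh
    obtain ⟨g1, g2, g3⟩ := memQ.1 hg
    obtain ⟨σ, hσ⟩ := F2.surj g hgh
    have tr : ∀ τ, g * F2.ι τ = F2.ι τ * g → σ * τ = τ * σ := by
      intro τ h'
      rcases hσ with e | e <;> rw [e] at h'
      · exact F2.inj (by rw [map_mul, map_mul, h'])
      · refine F2.inj ?_
        rw [mul_assoc, ← mul_assoc (F2.ι τ), ← (F2.comm τ).eq, mul_assoc] at h'
        rw [map_mul, map_mul, mul_left_cancel h']
    rw [← five_pB, neg1 0 1 (by decide), five_pB] at g1
    rw [← s12, neg1 1 2 (by decide), s12] at g2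
    rw [← five_pC, neg1 2 3 (by decide), five_pC] at g3
    have a1 := tr _ g1
    have a2 := tr _ g2
    have a3 := tr _ g3
    have az : σ * pZ = pZ * σ := by
      rw [show pZ = pW * pB * (pW * pC) by decide +kernel]
      exact ((show Commute σ (pW * pB) from a1).mul_right (show Commute σ (pW * pC) from a3)).eq
    have key : (czList.all fun s => code (s * (pW * pB)) != code (pW * pB * s) ||
        code (s * (pW * swap 1 2)) != code (pW * swap 1 2 * s) ||
        code s == code 1 || code s == code pW) = true := by decide +kernel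
    have h1 := List.all_eq_true.1 key σ (mem_czList az)
    simp only [Bool.or_eq_true, bne_iff_ne, beq_iff_eq] at h1
    rcases h1 with ((h1 | h1) | h1) | h1
    · exact absurd (congrArg code a1) h1
    · exact absurd (congrArg code a2) h1
    · rcases hσ with e | e <;> rw [code_injective h1, map_one] at e
      · exact Or.inl e
      · exact Or.inr (Or.inl (e.trans (mul_one h)))
    · rcases hσ with e | e <;> rw [code_injective h1, e2w] at e
      · exact Or.inr (Or.inr (Or.inl e))
      · exact Or.inr (Or.inr (Or.inr e))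
  -- the centraliser of `t` in `Q`
  have hCt : ∀ g ∈ Q, g * t = t * g → g * g = 1 → g ≠ 1 →
      (∃ c ∈ tThree, g = F.ι c) ∨ (g = t ∨ ∃ c ∈ tThree, g = t * F.ι c) := by
    intro g hg hgt hg2 hg1
    obtain ⟨g1, g2, g3⟩ := memQ.1 hg
    obtain ⟨σ, hσ⟩ := F.surj g hgt
    have tr : ∀ τ, g * F.ι τ = F.ι τ * g → σ * τ = τ * σ := by
      intro τ h'
      rcases hσ with e | e <;> rw [e] at h'
      · exact F.inj (by rw [map_mul, map_mul, h'])
      · refine F.inj ?_
        rw [mul_assoc, ← mul_assoc (F.ι τ), ← (F.comm τ).eq, mul_assoc] at h'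
        rw [map_mul, map_mul, mul_left_cancel h']
    have a1 := tr _ g1
    have a2 := tr _ g2
    have a3 := tr _ g3
    have az : σ * pZ = pZ * σ := by
      rw [show pZ = pB * pC from rfl]
      exact ((show Commute σ pB from a1).mul_right (show Commute σ pC from a3)).eq
    have hσ2 : σ * σ = 1 := by
      refine F.inj ?_
      rcases hσ with e | e <;> rw [e] at hg2
      · rw [map_mul, hg2, map_one]
      · rw [← F.x_mul_sq, hg2, map_one]
    have key : (czList.all fun s => code (s * pB) != code (pB * s) ||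
        code (s * swap 1 2) != code (swap 1 2 * s) || code (s * s) != code 1 ||
        code s == code 1 || (tThree.map code).contains (code s)) = true := by decide +kernel
    have h1 := List.all_eq_true.1 key σ (mem_czList az)
    simp only [Bool.or_eq_true, bne_iff_ne, beq_iff_eq] at h1
    rcases h1 with (((h1 | h1) | h1) | h1) | h1
    · exact absurd (congrArg code a1) h1
    · exact absurd (congrArg code a2) h1
    · exact absurd (congrArg code hσ2) h1
    · rcases hσ with e | e <;> rw [code_injective h1, map_one] at e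
      · exact absurd e hg1
      · exact Or.inr (Or.inl (e.trans (mul_one t)))
    · rcases hσ with e | e
      · exact Or.inl ⟨σ, mem_of_code h1, e⟩
      · exact Or.inr (Or.inr ⟨σ, mem_of_code h1, e⟩)
  -- `t` and `h` are not conjugate in `Q`
  have hnc : ∀ x ∈ Q, x * t * x⁻¹ ≠ h := by
    intro x hx e
    have hm : ∀ {c : S7}, F.ι c ∈ Q → x * F.ι c * x⁻¹ ∈ Q ∧
        x * F.ι c * x⁻¹ * h = h * (x * F.ι c * x⁻¹) := by
      intro c hc
      refine ⟨mul_mem (mul_mem hx hc) (inv_mem hx), ?_⟩
      rw [← e]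
      calc x * F.ι c * x⁻¹ * (x * t * x⁻¹) = x * (F.ι c * t) * x⁻¹ := by group
        _ = x * (t * F.ι c) * x⁻¹ := by rw [(F.comm c).eq]
        _ = x * t * x⁻¹ * (x * F.ι c * x⁻¹) := by group
    obtain ⟨m1, m1'⟩ := hm hwQ
    obtain ⟨m2, m2'⟩ := hm h46Q
    have habel : ∀ {a b : G}, (a = 1 ∨ a = h ∨ a = F.ι pW ∨ a = h * F.ι pW) →
        (b = 1 ∨ b = h ∨ b = F.ι pW ∨ b = h * F.ι pW) → Commute a b := by
      have c : Commute h (F.ι pW) := H.comm_self
      intro a b ha hb
      rcases ha with rfl | rfl | rfl | rfl <;> rcases hb with rfl | rfl | rfl | rfl <;>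
        first
          | exact Commute.one_left _
          | exact Commute.one_right _
          | exact Commute.refl _
          | exact c
          | exact c.symm
          | exact (Commute.refl _).mul_right c
          | exact ((Commute.refl _).mul_right c).symm
          | exact c.symm.mul_right (Commute.refl _)
          | exact (c.symm.mul_right (Commute.refl _)).symm
    have hcm := (habel (hCh _ m1 m1') (hCh _ m2 m2')).eq
    have : F.ι pW * F.ι (swap 4 6) = F.ι (swap 4 6) * F.ι pW := by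
      calc F.ι pW * F.ι (swap 4 6) = x⁻¹ * (x * F.ι pW * x⁻¹ * (x * F.ι (swap 4 6) * x⁻¹)) * x := by
            group
        _ = x⁻¹ * (x * F.ι (swap 4 6) * x⁻¹ * (x * F.ι pW * x⁻¹)) * x := by rw [hcm]
        _ = F.ι (swap 4 6) * F.ι pW := by group
    rw [← map_mul, ← map_mul] at this
    exact absurd (F.inj this) (by decide +kernel)
  have hhinv : h⁻¹ = h := inv_eq_of_mul_eq_one_left H.sq
  -- members of `C_Q(t)` in the class are conjugate to `t`
  have hDt : ∀ i, (i = t ∨ ∃ c ∈ tThree, i = t * F.ι c) → ∃ x ∈ Q, x * t * x⁻¹ = i := by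
    have hbase : h * t * h⁻¹ = t * F.ι pW := by rw [hhinv, H.move]
    rintro i (rfl | ⟨c, hc, rfl⟩)
    · exact ⟨1, one_mem _, by group⟩
    simp only [tThree, List.mem_cons, List.not_mem_nil, or_false] at hc
    rcases hc with rfl | rfl | rfl
    · exact ⟨h, hhQ, hbase⟩
    · refine ⟨F.ι (swap 5 6) * h, mul_mem h56Q hhQ, ?_⟩
      rw [show F.ι (swap 5 6) * h * t * (F.ι (swap 5 6) * h)⁻¹ =
        F.ι (swap 5 6) * (h * t * h⁻¹) * (F.ι (swap 5 6))⁻¹ by group, hbase, conj_mul_ι,
        show swap 5 6 * pW * (swap 5 6)⁻¹ = swap 4 6 by decide +kernel]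
    · refine ⟨F.ι (swap 4 6) * h, mul_mem h46Q hhQ, ?_⟩
      rw [show F.ι (swap 4 6) * h * t * (F.ι (swap 4 6) * h)⁻¹ =
        F.ι (swap 4 6) * (h * t * h⁻¹) * (F.ι (swap 4 6))⁻¹ by group, hbase, conj_mul_ι,
        show swap 4 6 * pW * (swap 4 6)⁻¹ = swap 5 6 by decide +kernel]
  -- all conjugates of `w` in `Q`
  have hT : ∀ g ∈ Q, ∃ c ∈ tThree, g * F.ι pW * g⁻¹ = F.ι c := by
    intro g hg
    set h1 := g * h * g⁻¹ with hh1
    have h1sq : h1 * h1 = 1 := by
      rw [hh1, show g * h * g⁻¹ * (g * h * g⁻¹) = g * (h * h) * g⁻¹ by group, H.sq]; group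
    have hnc1 : ∀ x ∈ Q, x * t * x⁻¹ ≠ h1 := by
      intro x hx e
      refine hnc (g⁻¹ * x) (mul_mem (inv_mem hg) hx) ?_
      rw [show g⁻¹ * x * t * (g⁻¹ * x)⁻¹ = g⁻¹ * (x * t * x⁻¹) * g by group, e, hh1]; group
    set u := t * h1 with hu
    have huQ : u ∈ Q := mul_mem htQ (mul_mem (mul_mem hg hhQ) (inv_mem hg))
    have htu : t * u * t⁻¹ = u⁻¹ := by
      rw [F.inv_self, hu, mul_inv_rev, F.inv_self, inv_eq_of_mul_eq_one_left h1sq, ← mul_assoc t t,
        F.sq, one_mul]
    have hpow : ∀ j : ℕ, t * u ^ j * t⁻¹ = (u ^ j)⁻¹ := fun j => by rw [← conj_pow, htu, inv_pow]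
    rcases Nat.even_or_odd' (orderOf u) with ⟨m, hm | hm⟩
    swap
    · exfalso
      refine hnc1 (u ^ m) (pow_mem huQ m) ?_
      have e1 : t * (u ^ m)⁻¹ = u ^ m * t := by
        rw [← hpow m, ← mul_assoc, ← mul_assoc, F.sq, one_mul, F.inv_self]
      have e2 : u ^ m * u ^ m = u⁻¹ := by
        refine eq_inv_of_mul_eq_one_left ?_
        rw [← pow_add, ← pow_succ, show m + m + 1 = orderOf u by omega, pow_orderOf_eq_one]
      calc u ^ m * t * (u ^ m)⁻¹ = u ^ m * (t * (u ^ m)⁻¹) := by rw [mul_assoc]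
        _ = u⁻¹ * t := by rw [e1, ← mul_assoc, e2]
        _ = h1 := by
          rw [hu, mul_inv_rev, F.inv_self, inv_eq_of_mul_eq_one_left h1sq, mul_assoc, F.sq, mul_one]
    have hpos := orderOf_pos u
    set i := u ^ m with hi
    have hi1 : i ≠ 1 := pow_ne_one_of_lt_orderOf (by omega) (by omega)
    have hi2 : i * i = 1 := by
      rw [hi, ← pow_add, show m + m = orderOf u by omega, pow_orderOf_eq_one]
    have hiQ : i ∈ Q := pow_mem huQ m
    have hit : i * t = t * i := by
      have h0 := hpow m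
      rw [← hi, inv_eq_of_mul_eq_one_left hi2] at h0
      exact (mul_inv_eq_iff_eq_mul.1 h0).symm
    have hih : i * h1 = h1 * i := by
      have c1 : Commute i u := Commute.pow_self u m
      have e : h1 = t * u := by rw [hu, ← mul_assoc, F.sq, one_mul]
      rw [e]
      exact (Commute.mul_right (show Commute i t from hit) c1).eq
    have hj := hCh (g⁻¹ * i * g) (mul_mem (mul_mem (inv_mem hg) hiQ) hg) (by
      calc g⁻¹ * i * g * h = g⁻¹ * (i * h1) * g := by rw [hh1]; group
        _ = g⁻¹ * (h1 * i) * g := by rw [hih]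
        _ = h * (g⁻¹ * i * g) := by rw [hh1]; group)
    have back : ∀ {j}, g⁻¹ * i * g = j → i = g * j * g⁻¹ := fun e => by rw [← e]; group
    have bad : IsConj t i → (∃ x ∈ Q, x * i * x⁻¹ = h) → False := by
      rintro hiD ⟨x, hx, hxe⟩
      rcases hCt i hiQ hit hi2 hi1 with ⟨c, -, e⟩ | e
      · exact four_ι hP c (e ▸ hiD)
      · obtain ⟨y, hy, hye⟩ := hDt i e
        refine hnc (x * y) (mul_mem hx hy) ?_
        rw [← hxe, ← hye]; group
    rcases hj with e | e | e | e
    · exact absurd (by rw [back e]; group) hi1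
    · exact (bad (hD.trans (isConj_iff.2 ⟨g, (back e).symm⟩))
        ⟨g⁻¹, inv_mem hg, by rw [back e]; group⟩).elim
    · rcases hCt i hiQ hit hi2 hi1 with ⟨c, hc, ec⟩ | ec
      · exact ⟨c, hc, (back e).symm.trans ec⟩
      · exfalso
        refine four_ι hP pW (IsConj.trans ?_ (isConj_iff.2 ⟨g⁻¹, by rw [inv_inv]; exact e⟩))
        rcases ec with ec | ⟨c, hc, ec⟩
        · rw [ec]
        · rw [ec]
          refine four_mul hP ?_
          simp only [tThree, List.mem_cons, List.not_mem_nil, or_false] at hc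
          rcases hc with rfl | rfl | rfl <;> exact swap_mul_self _ _
    · have hth : t * h * t⁻¹ = h * F.ι pW := by
        rw [F.inv_self]
        calc t * h * t = h * h * t * h * t := by rw [H.sq, one_mul]
          _ = h * (h * t * h) * t := by group
          _ = h * F.ι pW := by
            rw [H.move, mul_assoc h, mul_assoc t, ← (F.comm pW).eq, ← mul_assoc t t, F.sq, one_mul]
      have hei : i = g * t * h * (g * t)⁻¹ := by rw [back e, ← hth]; group
      exact (bad (hD.trans (isConj_iff.2 ⟨g * t, hei.symm⟩))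
        ⟨(g * t)⁻¹, inv_mem (mul_mem hg htQ), by rw [hei]; group⟩).elim
  -- the contradiction
  obtain ⟨c, hc, hce⟩ := hT (h * F.ι (swap 5 6)) (mul_mem hhQ h56Q)
  have h46 : h * F.ι (swap 4 6) * h = F.ι c := by
    rw [← hce, show h * F.ι (swap 5 6) * F.ι pW * (h * F.ι (swap 5 6))⁻¹ =
      h * (F.ι (swap 5 6) * F.ι pW * (F.ι (swap 5 6))⁻¹) * h⁻¹ by group, hhinv, ← map_inv, ← map_mul,
      ← map_mul, show swap 5 6 * pW * (swap 5 6)⁻¹ = swap 4 6 by decide +kernel]
  have nofix : h * F.ι (swap 4 6) = F.ι (swap 4 6) * h → False := by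
    intro hfix
    rcases hCh _ h46Q hfix.symm with e | e | e | e
    · exact absurd (F.inj (e.trans (map_one _).symm)) (by decide +kernel)
    · exact four_ι hP _ (e ▸ hD)
    · exact absurd (F.inj e) (by decide +kernel)
    · exact four_ι hP (swap 4 6) (e ▸ hdD (by rw [← e2w]; exact four_mul hP2 (swap_mul_self 4 5)))
  simp only [tThree, List.mem_cons, List.not_mem_nil, or_false] at hc
  rcases hc with rfl | rfl | rfl
  · have : F.ι (swap 4 6) = F.ι pW := by
      calc F.ι (swap 4 6) = h * h * F.ι (swap 4 6) * (h * h) := by rw [H.sq, one_mul, mul_one]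
        _ = h * (h * F.ι (swap 4 6) * h) * h := by group
        _ = F.ι pW := by rw [h46, H.comm_self, mul_assoc, H.sq, mul_one]
    exact absurd (F.inj this) (by decide +kernel)
  · refine nofix ?_
    calc h * F.ι (swap 4 6) = h * F.ι (swap 4 6) * (h * h) := by rw [H.sq, mul_one]
      _ = h * F.ι (swap 4 6) * h * h := by group
      _ = F.ι (swap 4 6) * h := by rw [h46]
  · refine nofix ?_
    -- `h w` fixes `(4 6)`, hence so does its conjugate `h`
    have h56' : h * F.ι (swap 5 6) * h = F.ι (swap 4 6) := by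
      rw [← h46, show h * (h * F.ι (swap 4 6) * h) * h = h * h * F.ι (swap 4 6) * (h * h) by group,
        H.sq, one_mul, mul_one]
    have hq : h * F.ι pW * F.ι (swap 4 6) = F.ι (swap 4 6) * (h * F.ι pW) := by
      have e : pW * swap 4 6 = swap 5 6 * pW := by decide +kernel
      calc h * F.ι pW * F.ι (swap 4 6) = h * (F.ι (swap 5 6) * F.ι pW) := by
            rw [mul_assoc, ← map_mul, ← map_mul, e]
        _ = h * F.ι (swap 5 6) * (h * h) * F.ι pW := by rw [H.sq, mul_one, mul_assoc]
        _ = h * F.ι (swap 5 6) * h * (h * F.ι pW) := by group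
        _ = F.ι (swap 4 6) * (h * F.ι pW) := by rw [h56']
    have hth : t * (h * F.ι pW) * t⁻¹ = h := by
      rw [F.inv_self]
      have thw : t * h * t = h * F.ι pW := by
        calc t * h * t = h * h * t * h * t := by rw [H.sq, one_mul]
          _ = h * (h * t * h) * t := by group
          _ = h * F.ι pW := by
            rw [H.move, mul_assoc h, mul_assoc t, ← (F.comm pW).eq, ← mul_assoc t t, F.sq, one_mul]
      calc t * (h * F.ι pW) * t = t * h * (F.ι pW * t) := by rw [← mul_assoc t h, mul_assoc]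
        _ = t * h * t * F.ι pW := by rw [← (F.comm pW).eq, ← mul_assoc]
        _ = h := by rw [thw, mul_assoc, hw2, mul_one]
    have htc : t * F.ι (swap 4 6) * t⁻¹ = F.ι (swap 4 6) := by
      rw [(F.comm _).eq, mul_inv_cancel_right]
    calc h * F.ι (swap 4 6) = t * (h * F.ι pW) * t⁻¹ * (t * F.ι (swap 4 6) * t⁻¹) := by rw [hth, htc]
      _ = t * (h * F.ι pW * F.ι (swap 4 6)) * t⁻¹ := by group
      _ = t * F.ι (swap 4 6) * t⁻¹ * (t * (h * F.ι pW) * t⁻¹) := by rw [hq]; group
      _ = F.ι (swap 4 6) * h := by rw [htc, hth]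

/-- An involution carrying an adjacent member to its partner is a member, if one of the standard
swaps is. -/
theorem swap_mem {h : G} (H : Swap F pW h) (hD : IsConj t h) {d s y : G} (hd : IsConj t d)
    (hs : s * s = 1) (hsd : s * d = d * s) (hsD : ¬ IsConj t s) (hadj : Adj d (d * s))
    (hy : y * y = 1) (hyd : y * d * y = d * s) : IsConj t y := by
  obtain ⟨δ, hδ⟩ := isConj_iff.1 hd
  obtain ⟨F', hF'⟩ := exists_frame F hδ
  have hP' := hP.of_conj hδ hF'
  obtain ⟨σ, σ2, rfl⟩ := four_ι_of_inv hP' hs hsd (fun e => hsD (hd.trans e))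
  obtain ⟨k, hk⟩ := isConj_iff.1 ((adj_mul_iff F' σ2).1 hadj)
  set γ := F'.ι k * δ with hγ
  have g1 : γ * t * γ⁻¹ = d := by
    rw [hγ, show F'.ι k * δ * t * (F'.ι k * δ)⁻¹ = F'.ι k * (δ * t * δ⁻¹) * (F'.ι k)⁻¹ by group, hδ,
      ← (F'.comm k).eq, mul_inv_cancel_right]
  have g2 : γ * F.ι pW * γ⁻¹ = F'.ι σ := by
    rw [← hk, map_mul, map_mul, map_inv, hF' pW, hγ]; group
  set y' := γ⁻¹ * y * γ with hy'
  have hy'2 : y' * y' = 1 := by
    rw [hy', show γ⁻¹ * y * γ * (γ⁻¹ * y * γ) = γ⁻¹ * (y * y) * γ by group, hy]; group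
  have hy't : y' * t * y' = t * F.ι pW := by
    calc y' * t * y' = γ⁻¹ * (y * (γ * t * γ⁻¹) * y) * γ := by rw [hy']; group
      _ = γ⁻¹ * (γ * t * γ⁻¹ * (γ * F.ι pW * γ⁻¹)) * γ := by rw [g1, hyd, g2]
      _ = t * F.ι pW := by group
  have hy'i : y'⁻¹ = y' := inv_eq_of_mul_eq_one_left hy'2
  have hhi : h⁻¹ = h := inv_eq_of_mul_eq_one_left H.sq
  have hback : y' * (t * F.ι pW) * y' = t := by
    rw [← hy't, show y' * (y' * t * y') * y' = y' * y' * t * (y' * y') by group, hy'2, one_mul,
      mul_one]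
  set u := h * y' with hu
  have hut : u * t = t * u := by
    refine mul_inv_eq_iff_eq_mul.1 ?_
    calc u * t * u⁻¹ = h * (y' * t * y'⁻¹) * h⁻¹ := by rw [hu]; group
      _ = t := by rw [hy'i, hy't, hhi, H.back]
  have huw : u * F.ι pW = F.ι pW * u := by
    have hw : F.ι pW = t * (t * F.ι pW) := by rw [← mul_assoc, F.sq, one_mul]
    refine mul_inv_eq_iff_eq_mul.1 ?_
    calc u * F.ι pW * u⁻¹ = h * (y' * t * y'⁻¹) * h⁻¹ * (h * (y' * (t * F.ι pW) * y'⁻¹) * h⁻¹) := by
          conv_lhs => rw [hw]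
          rw [hu]; group
      _ = t * (t * F.ι pW) := by rw [hy'i, hy't, hback, hhi, H.back, H.move]
      _ = F.ι pW := hw.symm
  obtain ⟨ρ, hρ⟩ := F.surj u hut
  have hρw : ρ * pW = pW * ρ := by
    rcases hρ with e | e <;> rw [e] at huw
    · exact F.inj (by rw [map_mul, map_mul, huw])
    · refine F.inj ?_
      rw [mul_assoc, ← mul_assoc (F.ι pW), ← (F.comm pW).eq, mul_assoc] at huw
      rw [map_mul, map_mul, mul_left_cancel huw]
  have hy'e : y' = h * u := by rw [hu, ← mul_assoc, H.sq, one_mul]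
  have hy'D : IsConj t y' := by
    rcases hρ with e | e
    · have ρ2 : ρ * ρ = 1 := by
        have h2 := hy'2
        rw [hy'e, e, (show Commute h (F.ι ρ) from H.comm ρ hρw).symm.mul_mul_mul_comm, H.sq, one_mul,
          ← map_mul, ← map_one F.ι] at h2
        exact F.inj h2
      have hf := f_law hP hD (show F.ι ρ * F.ι ρ = 1 by rw [← map_mul, ρ2, map_one])
        (H.comm ρ hρw).symm
      rw [hy'e, e]
      exact not_not.1 fun hn => four_ι hP ρ (hf.2 hn)
    · exfalso
      have h2 := hy'2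
      rw [hy'e, e, ← mul_assoc _ h, H.move' hρw, (F.comm (pW * ρ)).symm.mul_mul_mul_comm, F.sq,
        one_mul, ← map_mul, ← map_one F.ι] at h2
      have h3 := congrArg Perm.sign (F.inj h2)
      rw [map_mul, map_mul, sign_w, map_one, mul_assoc, Int.units_mul_self, mul_one] at h3
      exact absurd h3 (by decide)
  exact hy'D.trans (isConj_iff.2 ⟨γ, by rw [hy']; group⟩)

/-- The three swaps with their commutators, and the member coming from them. -/
theorem exists_gens : ∃ (h0 hb hc : G) (ε : Bool),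
    Swap F pW h0 ∧ Swap F pB hb ∧ Swap F pC hc ∧ hc = F.ι pA * hb * F.ι pA ∧
    hb * h0 = h0 * hb * F.ι (eW ε (pW * pB)) ∧
    hc * h0 = h0 * hc * F.ι (eW ε (pW * pC)) ∧
    hc * hb = hb * hc * F.ι (eW ε (pB * pC)) ∧
    (IsConj t h0 → ε = true → IsConj t (t * hb * hc)) := by
  obtain ⟨h0, H0⟩ := exists_swap hP
  set hb := F.ι kCyc * h0 * (F.ι kCyc)⁻¹ with hhb
  have Hb : Swap F pB hb := by
    have := H0.conj kCyc
    rwa [show kCyc * pW * kCyc⁻¹ = pB by decide +kernel] at this
  have hai : (F.ι pA)⁻¹ = F.ι pA :=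
    inv_eq_of_mul_eq_one_left (by rw [← map_mul, show pA * pA = 1 by decide +kernel, map_one])
  set hc := F.ι pA * hb * F.ι pA with hhc
  have Hc : Swap F pC hc := by
    have := Hb.conj pA
    rwa [show pA * pB * pA⁻¹ = pC by decide +kernel, hai, ← hhc] at this
  obtain ⟨ε, e1⟩ := swap_product hP H0 Hb
  have ha0 : F.ι pA * h0 * (F.ι pA)⁻¹ = h0 := by
    rw [← H0.comm pA (by decide +kernel), mul_inv_cancel_right]
  have e2 : hc * h0 = h0 * hc * F.ι (eW ε (pW * pC)) := by
    have h := congrArg (fun x => F.ι pA * x * (F.ι pA)⁻¹) e1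
    have e : F.ι (eW ε (pW * pC)) = F.ι pA * F.ι (eW ε (pW * pB)) * (F.ι pA)⁻¹ := by
      rw [← map_inv, ← map_mul, ← map_mul, eW_conj,
        show pA * (pW * pB) * pA⁻¹ = pW * pC by decide +kernel]
    have hc' : hc = F.ι pA * hb * (F.ι pA)⁻¹ := by rw [hai]
    rw [e, hc']
    nth_rw 1 [← ha0]
    nth_rw 2 [← ha0]
    calc F.ι pA * hb * (F.ι pA)⁻¹ * (F.ι pA * h0 * (F.ι pA)⁻¹)
        = F.ι pA * (hb * h0) * (F.ι pA)⁻¹ := by group
      _ = F.ι pA * (h0 * hb * F.ι (eW ε (pW * pB))) * (F.ι pA)⁻¹ := h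
      _ = _ := by group
  set hc' := F.ι kCyc * hb * (F.ι kCyc)⁻¹ with hhc'
  have Hc' : Swap F pC hc' := by
    have := Hb.conj kCyc
    rwa [show kCyc * pB * kCyc⁻¹ = pC by decide +kernel] at this
  have e3' : hc' * hb = hb * hc' * F.ι (eW ε (pB * pC)) := by
    have h := congrArg (fun x => F.ι kCyc * x * (F.ι kCyc)⁻¹) e1
    have e : F.ι (eW ε (pB * pC)) = F.ι kCyc * F.ι (eW ε (pW * pB)) * (F.ι kCyc)⁻¹ := by
      rw [← map_inv, ← map_mul, ← map_mul, eW_conj,
        show kCyc * (pW * pB) * kCyc⁻¹ = pB * pC by decide +kernel]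
    rw [e, hhc']
    nth_rw 2 [hhb]
    nth_rw 2 [hhb]
    calc F.ι kCyc * hb * (F.ι kCyc)⁻¹ * (F.ι kCyc * h0 * (F.ι kCyc)⁻¹)
        = F.ι kCyc * (hb * h0) * (F.ι kCyc)⁻¹ := by group
      _ = F.ι kCyc * (h0 * hb * F.ι (eW ε (pW * pB))) * (F.ι kCyc)⁻¹ := h
      _ = _ := by group
  have e3 : hc * hb = hb * hc * F.ι (eW ε (pB * pC)) := by
    have hcC : IsConj pW pC := Perm.isConj_iff_cycleType_eq.2 (by decide +kernel)
    rcases Hc.unique hcC Hc' with c | c <;> rw [c] at e3'
    · exact e3'
    · have cb : Commute hb (F.ι pC) := Hb.comm pC (by decide +kernel)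
      have cs : Commute (F.ι (eW ε (pB * pC))) (F.ι pC) := by
        show _ = _
        rw [← map_mul, ← map_mul]
        congr 1
        cases ε
        · exact (Commute.one_left pC).eq
        · exact (by decide +kernel : eW true (pB * pC) * pC = pC * eW true (pB * pC))
      refine mul_right_cancel (b := F.ι pC) ?_
      calc hc * hb * F.ι pC = hc * F.ι pC * hb := by rw [mul_assoc hc, cb.eq, ← mul_assoc]
        _ = hb * (hc * F.ι pC) * F.ι (eW ε (pB * pC)) := e3'
        _ = hb * hc * F.ι (eW ε (pB * pC)) * F.ι pC := by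
          rw [← mul_assoc, mul_assoc (hb * hc), mul_assoc (hb * hc), cs.eq]
  refine ⟨h0, hb, hc, ε, H0, Hb, Hc, rfl, e1, e2, e3, fun hD hε => ?_⟩
  subst hε
  have hA := (swap_adj hP H0 hD).conj (F.ι kCyc)
  have hbe : F.ι kCyc * (h0 * F.ι pB) * (F.ι kCyc)⁻¹ = hb * F.ι pC := by
    rw [show F.ι kCyc * (h0 * F.ι pB) * (F.ι kCyc)⁻¹ =
      F.ι kCyc * h0 * (F.ι kCyc)⁻¹ * (F.ι kCyc * F.ι pB * (F.ι kCyc)⁻¹) by group, ← hhb, ← map_inv,
      ← map_mul, ← map_mul, show kCyc * pB * kCyc⁻¹ = pC by decide +kernel]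
  rw [← hhb, hbe] at hA
  have cbb : Commute hb (F.ι pB) := Hb.comm_self
  have cbc : Commute hb (F.ι pC) := Hb.comm pC (by decide +kernel)
  have ccb : Commute hc (F.ι pB) := Hc.comm pB (by decide +kernel)
  have ccc : Commute hc (F.ι pC) := Hc.comm_self
  have hz : eW true (pB * pC) = pB * pC := rfl
  rw [hz, map_mul] at e3
  have bb : F.ι pB * F.ι pB = 1 := by
    rw [← map_mul, show pB * pB = 1 from swap_mul_self _ _, map_one]
  have cc : F.ι pC * F.ι pC = 1 := by
    rw [← map_mul, show pC * pC = 1 from swap_mul_self _ _, map_one]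
  have bc : Commute (F.ι pB) (F.ι pC) := by
    show _ = _
    rw [← map_mul, ← map_mul, show pB * pC = pC * pB by decide +kernel]
  -- moving `t`
  have htb : t * hb * t = hb * F.ι pB := by
    calc t * hb * t = hb * hb * t * hb * t := by rw [Hb.sq, one_mul]
      _ = hb * (hb * t * hb) * t := by group
      _ = hb * F.ι pB := by
        rw [Hb.move, mul_assoc hb, mul_assoc t, ← (F.comm pB).eq, ← mul_assoc t t, F.sq, one_mul]
  have htc : t * hc * t = hc * F.ι pC := by
    calc t * hc * t = hc * hc * t * hc * t := by rw [Hc.sq, one_mul]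
      _ = hc * (hc * t * hc) * t := by group
      _ = hc * F.ι pC := by
        rw [Hc.move, mul_assoc hc, mul_assoc t, ← (F.comm pC).eq, ← mul_assoc t t, F.sq, one_mul]
  have hcbc : hc * hb * hc = hb * (F.ι pB * F.ι pC) := by
    rw [e3, mul_assoc (hb * hc), ← ((ccb.mul_right ccc)).eq, ← mul_assoc, mul_assoc hb hc hc, Hc.sq,
      mul_one]
  have htbc : t * hb * hc * t = hb * hc * (F.ι pB * F.ι pC) := by
    calc t * hb * hc * t = t * hb * t * (t * hc * t) := by
          rw [show t * hb * t * (t * hc * t) = t * hb * (t * t) * hc * t by group, F.sq, mul_one]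
      _ = hb * hc * (F.ι pB * F.ι pC) := by
          rw [htb, htc, mul_assoc hb, ← mul_assoc (F.ι pB), ← ccb.eq]; group
  set z := F.ι pB * F.ι pC with hzdef
  have cbz : Commute hb z := cbb.mul_right cbc
  have ccz : Commute hc z := ccb.mul_right ccc
  have zz : z * z = 1 := by rw [hzdef, bc.symm.mul_mul_mul_comm, bb, cc, one_mul]
  have hy2 : t * hb * hc * (t * hb * hc) = 1 := by
    calc t * hb * hc * (t * hb * hc) = t * hb * hc * t * (hb * hc) := by group
      _ = hb * hc * (z * (hb * hc)) := by rw [htbc]; group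
      _ = hb * (hc * hb * hc) * z := by rw [← (cbz.mul_left ccz).eq]; group
      _ = 1 := by rw [hcbc, ← mul_assoc hb hb, Hb.sq, one_mul, zz]
  have hyb : t * hb * hc * hb * (t * hb * hc) = hb * F.ι pC := by
    have hy : t * hb * hc = hc⁻¹ * hb⁻¹ * t⁻¹ := by
      exact (eq_inv_of_mul_eq_one_left hy2).trans (by group)
    nth_rw 2 [hy]
    rw [inv_eq_of_mul_eq_one_left Hc.sq, inv_eq_of_mul_eq_one_left Hb.sq, F.inv_self]
    calc t * hb * hc * hb * (hc * hb * t) = t * (hb * (hc * hb * hc) * hb) * t := by group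
      _ = t * (hb * hb * z * hb) * t := by rw [hcbc]; group
      _ = t * hb * t * (t * z * t) := by
        rw [Hb.sq, one_mul, ← cbz.eq,
          show t * hb * t * (t * z * t) = t * hb * (t * t) * z * t by group, F.sq, mul_one]
        group
      _ = hb * F.ι pC := by
        rw [htb, show t * z * t = z by
          rw [hzdef, ← map_mul, (F.comm _).eq, mul_assoc, F.sq, mul_one], hzdef, mul_assoc hb,
          ← mul_assoc (F.ι pB), bb, one_mul]
  exact swap_mem hP H0 hD (hD.trans (isConj_iff.2 ⟨F.ι kCyc, hhb.symm⟩)) cc cbc.symm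
    (four_ι hP pC) hA hy2 hyb

end

end Cfsg.Agent.SevenInv
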