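import Cfsg.Agent.Lib.SevenInv.Fusion

/-!
The pattern of type two: the members of the class in a subgroup of order 64 outside the Sylow
subgroup are twice an odd number.
-/

set_option autoImplicit false
set_option linter.unusedSectionVars false
set_option maxRecDepth 100000

namespace Cfsg.Agent.SevenInv

open Subgroup

/-- The class members of the Sylow subgroup, pattern two. -/
def twoList : List S7 := [1, pZ, pA, pA * pZ, pB * pW, pC * pW]

/-- Those among them centralising the element of order three. -/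
def quadList : List S7 := [1, pZ, pA, pA * pZ]

/-- An element of order three. -/
def pThree : S7 := Equiv.swap 4 5 * Equiv.swap 5 6

/-- The elements of order three centralising `pZ`, and one. -/
def threeList : List S7 := [1, pThree, pThree * pThree]

theorem cycleType_one_ne {σ : S7} (hσ : σ ∈ tList) (h : σ * σ = 1) :
    σ ∈ twoList ∨ IsConj pW σ ∨ IsConj pT σ := by
  have key : (tList.all fun σ => code (σ * σ) != code 1 || (twoList.map code).contains (code σ) ||
      ([pB, pC, pW].map code).contains (code σ) ||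
      ([pT, pA * pW, pA * pZ * pW].map code).contains (code σ)) = true := by decide +kernel
  have h1 := List.all_eq_true.1 key σ hσ
  simp only [Bool.or_eq_true, bne_iff_ne] at h1
  rcases h1 with ((e | e) | e) | e
  · exact absurd (congrArg code h) e
  · exact Or.inl (mem_of_code e)
  · refine Or.inr (Or.inl ?_)
    have := mem_of_code e
    simp only [List.mem_cons, List.not_mem_nil, or_false] at this
    rcases this with rfl | rfl | rfl <;>
      exact Equiv.Perm.isConj_iff_cycleType_eq.2 (by decide +kernel)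
  · refine Or.inr (Or.inr ?_)
    have := mem_of_code e
    simp only [List.mem_cons, List.not_mem_nil, or_false] at this
    rcases this with rfl | rfl | rfl <;>
      exact Equiv.Perm.isConj_iff_cycleType_eq.2 (by decide +kernel)

theorem twoList_conj {σ : S7} (h : σ ∈ twoList) : σ = 1 ∨ IsConj pZ σ := by
  simp only [twoList, List.mem_cons, List.not_mem_nil, or_false] at h
  rcases h with rfl | h
  · exact Or.inl rfl
  · refine Or.inr ?_
    rcases h with rfl | rfl | rfl | rfl | rfl <;>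
      exact Equiv.Perm.isConj_iff_cycleType_eq.2 (by decide +kernel)

theorem twoList_sub {σ : S7} (h : σ ∈ twoList) : σ ∈ tList := by
  have key : (twoList.all fun σ => (tList.map code).contains (code σ)) = true := by decide +kernel
  exact mem_of_code (List.all_eq_true.1 key σ h)

theorem quadList_sub {σ : S7} (h : σ ∈ quadList) : σ ∈ twoList := by
  simp only [quadList, twoList, List.mem_cons, List.not_mem_nil, or_false] at h ⊢
  tauto

theorem quad_comm {σ τ : S7} (hσ : σ ∈ quadList) (hτ : τ ∈ quadList) : σ * τ = τ * σ := by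
  have key : (quadList.all fun σ => quadList.all fun τ => code (σ * τ) == code (τ * σ)) = true := by
    decide +kernel
  exact code_injective (beq_iff_eq.1 (List.all_eq_true.1 (List.all_eq_true.1 key σ hσ) τ hτ))

theorem quad_three {σ τ : S7} (hσ : σ ∈ quadList) (hτ : τ ∈ threeList) : σ * τ = τ * σ := by
  have key : (quadList.all fun σ => threeList.all fun τ => code (σ * τ) == code (τ * σ)) = true := by
    decide +kernel
  exact code_injective (beq_iff_eq.1 (List.all_eq_true.1 (List.all_eq_true.1 key σ hσ) τ hτ))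

theorem mem_quad {σ : S7} (hσ : σ ∈ twoList) (h : σ * pThree = pThree * σ) : σ ∈ quadList := by
  have key : (twoList.all fun σ => code (σ * pThree) != code (pThree * σ) ||
      (quadList.map code).contains (code σ)) = true := by decide +kernel
  have h1 := List.all_eq_true.1 key σ hσ
  simp only [Bool.or_eq_true, bne_iff_ne] at h1
  rcases h1 with e | e
  · exact absurd (congrArg code h) e
  · exact mem_of_code e

theorem mem_threeList {σ : S7} (hσ : σ * pZ = pZ * σ) (h : σ * σ * σ = 1) : σ ∈ threeList := by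
  have key : (czList.all fun σ => code (σ * σ * σ) != code 1 ||
      (threeList.map code).contains (code σ)) = true := by decide +kernel
  have h1 := List.all_eq_true.1 key σ (mem_czList hσ)
  simp only [Bool.or_eq_true, bne_iff_ne] at h1
  rcases h1 with e | e
  · exact absurd (congrArg code h) e
  · exact mem_of_code e

theorem threeList_spec {σ : S7} (hσ : σ ∈ threeList) : σ * σ * σ = 1 ∧ σ * pZ = pZ * σ := by
  simp only [threeList, List.mem_cons, List.not_mem_nil, or_false] at hσ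
  rcases hσ with rfl | rfl | rfl <;> constructor <;> decide +kernel

variable {G : Type*} [Group G] [Finite G]

theorem PatTwo.of_conj {t : G} {F : Fr t} (hP : PatTwo F) {y g : G} (hg : g * t * g⁻¹ = y)
    {F' : Fr y} (h : ∀ σ, F'.ι σ = g * F.ι σ * g⁻¹) : PatTwo F' := by
  have k : ∀ u, IsConj y (g * u * g⁻¹) ↔ IsConj t u := by
    intro u
    have h1 : IsConj t y := isConj_iff.2 ⟨g, hg⟩
    have h2 : IsConj u (g * u * g⁻¹) := isConj_iff.2 ⟨g, rfl⟩
    exact ⟨fun e => h1.trans (e.trans h2.symm), fun e => h1.symm.trans (e.trans h2)⟩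
  have k' : ∀ σ, y * F'.ι σ = g * (t * F.ι σ) * g⁻¹ := fun σ => by rw [h, ← hg]; group
  exact ⟨by rw [h, k]; exact hP.a, by rw [k', k]; exact hP.b, by rw [k', k]; exact hP.e,
    by rw [h, k]; exact hP.f, by rw [k', k]; exact hP.h⟩

theorem mul_ι_injective {x : G} (F : Fr x) : Function.Injective fun σ => x * F.ι σ :=
  fun _ _ h => F.x_mul_inj h

section Members

variable {t : G} {F : Fr t} (hP : PatTwo F)
include hP

theorem two_members {u : G} (hu : u ∈ F.syl) :
    IsConj t u ↔ ∃ σ ∈ twoList, u = t * F.ι σ := by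
  constructor
  · intro hD
    rcases classify F (mem_centralizer_singleton_iff.1 (F.syl_le hu)) hD with e | ⟨σ, h2, h1, e⟩
    · exact ⟨1, by simp [twoList], by rw [e, map_one, mul_one]⟩
    rcases e with e | e
    · exfalso
      rcases class_cases σ h2 h1 with c | c | c
      · exact hP.a (hD.trans (e ▸ (isConj_map F c).symm))
      · exact z_not_conj F (hD.trans (e ▸ (isConj_map F c).symm))
      · exact hP.f (hD.trans (e ▸ (isConj_map F c).symm))
    · have hσ : σ ∈ tList := by
        obtain ⟨τ, hτ, e' | e'⟩ := F.mem_syl.1 hu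
        · exact absurd (e.symm.trans e') (F.x_mul_ne _ _)
        · exact F.x_mul_inj (e.symm.trans e') ▸ hτ
      rcases cycleType_one_ne hσ h2 with c | c | c
      · exact ⟨σ, c, e⟩
      · exact absurd (hD.trans (e ▸ (isConj_mul_map F c).symm)) hP.b
      · exact absurd (hD.trans (e ▸ (isConj_mul_map F c).symm)) hP.h
  · rintro ⟨σ, hσ, rfl⟩
    rcases twoList_conj hσ with rfl | c
    · rw [map_one, mul_one]
    · exact hP.e.trans (isConj_mul_map F c)

theorem card_members : {u | IsConj t u ∧ u ∈ F.syl}.ncard = 6 := by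
  classical
  have e : {u | IsConj t u ∧ u ∈ F.syl} = (fun σ => t * F.ι σ) '' (twoList.toFinset : Set S7) := by
    ext u
    simp only [Set.mem_ofPred_eq, Set.mem_image, List.coe_toFinset]
    constructor
    · rintro ⟨hD, hu⟩
      obtain ⟨σ, hσ, e⟩ := (two_members hP hu).1 hD
      exact ⟨σ, hσ, e.symm⟩
    · rintro ⟨σ, hσ, rfl⟩
      have hu := F.x_ι_mem_syl (twoList_sub hσ)
      exact ⟨(two_members hP hu).2 ⟨σ, hσ, rfl⟩, hu⟩
  rw [e, Set.ncard_image_of_injective _ (mul_ι_injective F), Set.ncard_coe_finset,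
    List.toFinset_card_of_nodup (List.Nodup.of_map code (by decide +kernel))]
  rfl

theorem two_cen {q : G} (hq : Cen F q) : q = t ∨ q = t * F.ι pZ := by
  rcases classify_cen F hq with e | ⟨h, -⟩ | ⟨h, -⟩ | ⟨-, e⟩ | ⟨h, -⟩ | ⟨h, -⟩
  · exact Or.inl e
  · exact absurd h hP.a
  · exact absurd h hP.b
  · exact Or.inr e
  · exact absurd h hP.f
  · exact absurd h hP.h

end Members

/-- The conjugates of `y` under `H`. -/
def orb (H : Subgroup G) (y : G) : Set G := {u | ∃ h ∈ H, h * y * h⁻¹ = u}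

/-- The elements of order three centralising the conjugates of `y`. -/
def thr (H : Subgroup G) (y : G) : Set G := {x | x * x * x = 1 ∧ ∀ u ∈ orb H y, x * u = u * x}

/-- The four members attached to `y`. -/
def quad (t : G) (H : Subgroup G) (y : G) : Set G :=
  {u | IsConj t u ∧ u ∈ H ∧ u * y = y * u ∧ ∀ x ∈ thr H y, u * x = x * u}

theorem mem_orb_self (H : Subgroup G) (y : G) : y ∈ orb H y := ⟨1, one_mem _, by group⟩

theorem orb_eq {H : Subgroup G} {y u : G} (h : u ∈ orb H y) : orb H u = orb H y := by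
  obtain ⟨h0, hh0, rfl⟩ := h
  ext v
  constructor
  · rintro ⟨k, hk, rfl⟩; exact ⟨k * h0, mul_mem hk hh0, by group⟩
  · rintro ⟨k, hk, rfl⟩; exact ⟨k * h0⁻¹, mul_mem hk (inv_mem hh0), by group⟩

theorem orb_card (H : Subgroup G) (y : G) :
    (orb H y).ncard * Nat.card ↥(H ⊓ centralizer ({y} : Set G)) = Nat.card H := by
  letI : MulAction H G := MulAction.compHom G ((MulAut.conj : G →* MulAut G).comp H.subtype)
  have hs : ∀ (h : H) (x : G), h • x = (h : G) * x * (h : G)⁻¹ := fun h x => rfl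
  have e1 : orb H y = MulAction.orbit H y := by
    ext u
    constructor
    · rintro ⟨h, hh, rfl⟩; exact ⟨⟨h, hh⟩, hs _ _⟩
    · rintro ⟨⟨h, hh⟩, rfl⟩; exact ⟨h, hh, (hs ⟨h, hh⟩ y).symm⟩
  have e2 : Nat.card ↥(H ⊓ centralizer ({y} : Set G)) = Nat.card (MulAction.stabilizer H y) :=
    Nat.card_congr
      { toFun := fun x => ⟨⟨x.1, x.2.1⟩, by
          rw [MulAction.mem_stabilizer_iff, hs]
          exact mul_inv_eq_iff_eq_mul.2 (mem_centralizer_singleton_iff.1 x.2.2)⟩
        invFun := fun x => ⟨x.1.1, x.1.2, mem_centralizer_singleton_iff.2 (by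
          have h := x.2
          rw [MulAction.mem_stabilizer_iff, hs] at h
          exact mul_inv_eq_iff_eq_mul.1 h)⟩
        left_inv := fun x => rfl
        right_inv := fun x => rfl }
  rw [e1, e2, ← Nat.card_coe_set_eq, ← Nat.card_prod]
  exact Nat.card_congr (MulAction.orbitProdStabilizerEquivGroup H y)

section Quad

variable {t : G} {F : Fr t} (hP : PatTwo F) {H : Subgroup G} (hH : Nat.card H = 64)
include hP hH

theorem frame_at {y : G} (hy : IsConj t y) (hyH : y ∈ H) (h2 : (orb H y).ncard = 2) :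
    ∃ F1 : Fr y, PatTwo F1 ∧ (∀ x, x ∈ F1.syl ↔ x ∈ H ∧ x * y = y * x) ∧
      orb H y = {y, y * F1.ι pZ} := by
  obtain ⟨γ, hγ⟩ := isConj_iff.1 hy
  set U := H ⊓ centralizer ({y} : Set G) with hU
  have hUc : Nat.card U = 32 := by
    have := orb_card H y
    rw [h2, hH, ← hU] at this
    omega
  have hI : Nat.card (centralizer ({y} : Set G)) ∣ 10080 := by
    rw [← hγ, (F.conj γ).card_centralizer]
  obtain ⟨c, hc, hcS⟩ := sylow_conj hI (inf_le_right : U ≤ _)
    (hγ ▸ conjImage_le F.syl_le : conjImage γ F.syl ≤ centralizer ({y} : Set G)) hUc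
    (by rw [card_conjImage, F.card_syl])
  have hcy : c * γ * t * (c * γ)⁻¹ = y := by
    calc c * γ * t * (c * γ)⁻¹ = c * (γ * t * γ⁻¹) * c⁻¹ := by group
      _ = c * y * c⁻¹ := by rw [hγ]
      _ = y := by rw [mem_centralizer_singleton_iff.1 hc, mul_inv_cancel_right]
  obtain ⟨F1, hF1⟩ : ∃ F1 : Fr y, ∀ σ, F1.ι σ = c * γ * F.ι σ * (c * γ)⁻¹ := by
    have : ∀ z, c * γ * t * (c * γ)⁻¹ = z →
        ∃ F1 : Fr z, ∀ σ, F1.ι σ = c * γ * F.ι σ * (c * γ)⁻¹ := by
      rintro z rfl; exact ⟨F.conj _, fun σ => rfl⟩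
    exact this y hcy
  have hle : F1.syl ≤ U := by
    intro x hx
    have mk : ∀ s ∈ F.syl, c * γ * s * (c * γ)⁻¹ ∈ U := fun s hs => by
      have := hcS (γ * s * γ⁻¹) ⟨s, hs, rfl⟩
      convert this using 1
      group
    obtain ⟨σ, hσ, e | e⟩ := F1.mem_syl.1 hx
    · rw [e, hF1]; exact mk _ (F.ι_mem_syl hσ)
    · rw [e, hF1, show y * (c * γ * F.ι σ * (c * γ)⁻¹) = c * γ * (t * F.ι σ) * (c * γ)⁻¹ by
        rw [← hcy]; group]
      exact mk _ (F.x_ι_mem_syl hσ)
  have hsyl : ∀ x, x ∈ F1.syl ↔ x ∈ H ∧ x * y = y * x := by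
    have e : F1.syl = U := eq_of_le_of_card_ge hle (by rw [hUc, F1.card_syl])
    intro x
    rw [e, hU, mem_inf, mem_centralizer_singleton_iff]
  refine ⟨F1, hP.of_conj hcy hF1, hsyl, ?_⟩
  obtain ⟨a, b, hab, hO⟩ := Set.ncard_eq_two.1 h2
  obtain ⟨y', hy', hne, hcases⟩ : ∃ y' ∈ orb H y, y' ≠ y ∧ orb H y = {y, y'} := by
    have hm := mem_orb_self H y
    rw [hO] at hm ⊢
    rcases hm with e | e
    · exact ⟨b, Or.inr rfl, by rw [e]; exact hab.symm, by rw [e]⟩
    · rw [Set.mem_singleton_iff] at e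
      exact ⟨a, Or.inl rfl, by rw [e]; exact hab, by rw [e, Set.pair_comm]⟩
  suffices y' = y * F1.ι pZ by rw [hcases, this]
  have hcom : ∀ s ∈ F1.syl, y' * s = s * y' := by
    intro s hs
    obtain ⟨hsH, hsy⟩ := (hsyl s).1 hs
    have : s * y' * s⁻¹ ∈ orb H y := by
      rw [← orb_eq hy']; exact ⟨s, hsH, rfl⟩
    rw [hcases] at this
    rcases this with e | e
    · exfalso
      refine hne ?_
      calc y' = s⁻¹ * (s * y' * s⁻¹) * s := by group
        _ = s⁻¹ * (y * s) := by rw [e, mul_assoc]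
        _ = y := by rw [← hsy, inv_mul_cancel_left]
    · rw [Set.mem_singleton_iff] at e
      exact (mul_inv_eq_iff_eq_mul.1 e).symm
  obtain ⟨h, hh, he⟩ := hy'
  have hD : IsConj y y' := isConj_iff.2 ⟨h, he⟩
  rcases two_cen (hP.of_conj hcy hF1) ⟨hD, hcom⟩ with e | e
  · exact absurd e hne
  · exact e

theorem thr_eq {y : G} (F1 : Fr y) (hO : orb H y = {y, y * F1.ι pZ}) :
    thr H y = F1.ι '' {σ | σ ∈ threeList} := by
  ext x
  constructor
  · rintro ⟨h3, hx⟩
    rw [hO] at hx
    have h1 : x * y = y * x := hx y (Or.inl rfl)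
    have h2 : x * F1.ι pZ = F1.ι pZ * x := by
      have h := hx _ (Or.inr rfl : y * F1.ι pZ ∈ ({y, y * F1.ι pZ} : Set G))
      rw [← mul_assoc, h1, mul_assoc, mul_assoc] at h
      exact mul_left_cancel h
    obtain ⟨σ, e | e⟩ := F1.surj x h1
    · refine ⟨σ, mem_threeList (F1.inj ?_) (F1.inj ?_), e.symm⟩
      · rw [map_mul, map_mul, ← e, h2]
      · rw [map_mul, map_mul, ← e, h3, map_one]
    · exfalso
      refine F1.x_mul_ne (σ * σ * σ) 1 ?_
      rw [map_one, ← h3, e, F1.x_mul_sq, map_mul _ (σ * σ), ← mul_assoc, (F1.comm (σ * σ)).eq,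
        mul_assoc]
  · rintro ⟨σ, hσ, rfl⟩
    obtain ⟨h3, hz⟩ := threeList_spec hσ
    refine ⟨by rw [← map_mul, ← map_mul, h3, map_one], ?_⟩
    rw [hO]
    rintro u (rfl | rfl)
    · exact (F1.comm σ).symm.eq
    · exact ((F1.comm σ).symm.mul_right (by
        show F1.ι σ * F1.ι pZ = F1.ι pZ * F1.ι σ
        rw [← map_mul, ← map_mul, hz])).eq

theorem thr_card {y : G} (F1 : Fr y) (hO : orb H y = {y, y * F1.ι pZ}) : (thr H y).ncard = 3 := by
  classical
  rw [thr_eq hP hH F1 hO, Set.ncard_image_of_injective _ F1.inj,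
    show {σ : S7 | σ ∈ threeList} = (threeList.toFinset : Set S7) from (List.coe_toFinset _).symm,
    Set.ncard_coe_finset, List.toFinset_card_of_nodup (List.Nodup.of_map code (by decide +kernel))]
  rfl

theorem quad_eq {y : G} (hy : IsConj t y) (F1 : Fr y) (hP1 : PatTwo F1)
    (hsyl : ∀ x, x ∈ F1.syl ↔ x ∈ H ∧ x * y = y * x) (hO : orb H y = {y, y * F1.ι pZ}) :
    quad t H y = (fun σ => y * F1.ι σ) '' {σ | σ ∈ quadList} := by
  have hthr := thr_eq hP hH F1 hO
  ext u
  constructor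
  · rintro ⟨hD, huH, huy, hu⟩
    obtain ⟨σ, hσ, e⟩ := (two_members hP1 ((hsyl u).2 ⟨huH, huy⟩)).1 (hy.symm.trans hD)
    refine ⟨σ, mem_quad hσ (F1.inj ?_), e.symm⟩
    have h := hu (F1.ι pThree) (by rw [hthr]; exact ⟨_, by simp [threeList], rfl⟩)
    rw [e, mul_assoc, ← mul_assoc (F1.ι pThree), ← (F1.comm pThree).eq, mul_assoc] at h
    rw [map_mul, map_mul]
    exact mul_left_cancel h
  · rintro ⟨σ, hσ, rfl⟩
    have hu := F1.x_ι_mem_syl (twoList_sub (quadList_sub hσ))
    obtain ⟨h1, h2⟩ := (hsyl _).1 hu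
    refine ⟨hy.trans ((two_members hP1 hu).2 ⟨σ, quadList_sub hσ, rfl⟩), h1, h2, ?_⟩
    rw [hthr]
    rintro _ ⟨τ, hτ, rfl⟩
    exact ((F1.comm τ).mul_left (show Commute (F1.ι σ) (F1.ι τ) by
      show _ = _
      rw [← map_mul, ← map_mul, quad_three hσ hτ])).eq

theorem quad_card {y : G} (hy : IsConj t y) (hyH : y ∈ H) (h2 : (orb H y).ncard = 2) :
    (quad t H y).ncard = 4 := by
  classical
  obtain ⟨F1, hP1, hsyl, hO⟩ := frame_at hP hH hy hyH h2
  rw [quad_eq hP hH hy F1 hP1 hsyl hO, Set.ncard_image_of_injective _ (mul_ι_injective F1),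
    show {σ : S7 | σ ∈ quadList} = (quadList.toFinset : Set S7) from (List.coe_toFinset _).symm,
    Set.ncard_coe_finset, List.toFinset_card_of_nodup (List.Nodup.of_map code (by decide +kernel))]
  rfl

theorem quad_spec {y : G} (hy : IsConj t y) (hyH : y ∈ H) (h2 : (orb H y).ncard = 2) :
    y ∈ quad t H y ∧ ∀ u ∈ quad t H y, (orb H u).ncard = 2 ∧ quad t H u = quad t H y := by
  obtain ⟨F1, hP1, hsyl, hO⟩ := frame_at hP hH hy hyH h2
  have hQ := quad_eq hP hH hy F1 hP1 hsyl hO
  have hcomm : ∀ u ∈ quad t H y, ∀ v ∈ quad t H y, u * v = v * u := by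
    rw [hQ]
    rintro _ ⟨σ, hσ, rfl⟩ _ ⟨τ, hτ, rfl⟩
    simp only
    rw [(F1.comm σ).symm.mul_mul_mul_comm, (F1.comm τ).symm.mul_mul_mul_comm, ← map_mul, ← map_mul,
      quad_comm hσ hτ]
  have hself : y ∈ quad t H y := by
    rw [hQ]; exact ⟨1, by simp [quadList], by simp⟩
  refine ⟨hself, ?_⟩
  -- elements of `H` preserve the orbit of `y` and the four members
  have hsame : ∀ v ∈ orb H y, ∀ x ∈ H, x * v = v * x ↔ x * y = y * x := by
    intro v hv x hx
    rw [hO] at hv
    rcases hv with rfl | rfl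
    · rfl
    constructor
    · intro h
      have hm : x * y * x⁻¹ ∈ orb H y := ⟨x, hx, rfl⟩
      rw [hO] at hm
      rcases hm with e | e
      · exact mul_inv_eq_iff_eq_mul.1 e
      · rw [Set.mem_singleton_iff] at e
        exfalso
        have h' : x * (y * F1.ι pZ) * x⁻¹ = x * y * x⁻¹ := by
          rw [e, h, mul_inv_cancel_right]
        refine F1.x_mul_ne pZ 1 ?_
        have h'' := congrArg (fun z => x⁻¹ * z * x) h'
        simp only [mul_assoc, inv_mul_cancel, mul_one, inv_mul_cancel_left] at h''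
        rw [mul_eq_left.1 h'', mul_one, map_one]
        exact absurd (F1.inj ((mul_eq_left.1 h'').trans (map_one _).symm)) (by decide +kernel)
    · intro h
      have hx' : x ∈ F1.syl := (hsyl x).2 ⟨hx, h⟩
      obtain ⟨τ, hτ, e | e⟩ := F1.mem_syl.1 hx' <;> rw [e]
      · exact ((F1.comm τ).symm.mul_right (show Commute (F1.ι τ) (F1.ι pZ) by
          show _ = _
          rw [← map_mul, ← map_mul, centre_comm (by simp [tCentre]) hτ])).eq
      · rw [(F1.comm τ).symm.mul_mul_mul_comm, (F1.comm pZ).symm.mul_mul_mul_comm, ← map_mul,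
          ← map_mul, centre_comm (by simp [tCentre]) hτ]
  have horbO : ∀ v ∈ orb H y, orb H v = orb H y := fun v hv => orb_eq hv
  have hquadO : ∀ v ∈ orb H y, quad t H v = quad t H y := by
    intro v hv
    have ht : thr H v = thr H y := by rw [thr, thr, horbO v hv]
    ext u
    simp only [quad, Set.mem_ofPred_eq, ht]
    constructor <;> rintro ⟨a, b, c, d⟩
    · exact ⟨a, b, (hsame v hv u b).1 c, d⟩
    · exact ⟨a, b, (hsame v hv u b).2 c, d⟩
  have hinv : ∀ h ∈ H, ∀ u ∈ quad t H y, h * u * h⁻¹ ∈ quad t H y := by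
    intro h hh u hu
    have hm : h * y * h⁻¹ ∈ orb H y := ⟨h, hh, rfl⟩
    rw [← hquadO _ hm]
    obtain ⟨a, b, c, d⟩ := hu
    refine ⟨a.trans (isConj_iff.2 ⟨h, rfl⟩), mul_mem (mul_mem hh b) (inv_mem hh), ?_, ?_⟩
    · calc h * u * h⁻¹ * (h * y * h⁻¹) = h * (u * y) * h⁻¹ := by group
        _ = h * (y * u) * h⁻¹ := by rw [c]
        _ = h * y * h⁻¹ * (h * u * h⁻¹) := by group
    · intro x hx
      have hx' : h⁻¹ * x * h ∈ thr H y := by
        refine ⟨?_, fun v hv => ?_⟩
        · calc h⁻¹ * x * h * (h⁻¹ * x * h) * (h⁻¹ * x * h) = h⁻¹ * (x * x * x) * h := by group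
            _ = 1 := by rw [hx.1]; group
        · have hv' : h * v * h⁻¹ ∈ orb H (h * y * h⁻¹) := by
            rw [horbO _ hm, ← horbO v hv]; exact ⟨h, hh, rfl⟩
          have hc := hx.2 _ hv'
          calc h⁻¹ * x * h * v = h⁻¹ * (x * (h * v * h⁻¹)) * h := by group
            _ = h⁻¹ * (h * v * h⁻¹ * x) * h := by rw [hc]
            _ = v * (h⁻¹ * x * h) := by group
      calc h * u * h⁻¹ * x = h * (u * (h⁻¹ * x * h)) * h⁻¹ := by group
        _ = h * (h⁻¹ * x * h * u) * h⁻¹ := by rw [d _ hx']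
        _ = x * (h * u * h⁻¹) := by group
  intro u hu
  by_cases huO : u ∈ orb H y
  · exact ⟨by rw [horbO u huO]; exact h2, hquadO u huO⟩
  -- the other pair
  have hσ : ∀ v ∈ quad t H y, v ∉ orb H y → v = y * F1.ι pA ∨ v = y * F1.ι (pA * pZ) := by
    intro v hv hn
    rw [hQ] at hv
    obtain ⟨σ, hσ, rfl⟩ := hv
    simp only [quadList, Set.mem_ofPred_eq, List.mem_cons, List.not_mem_nil, or_false] at hσ
    rcases hσ with rfl | rfl | rfl | rfl
    · exact absurd (by simp [hO]) hn
    · exact absurd (by simp [hO]) hn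
    · exact Or.inl rfl
    · exact Or.inr rfl
  have hswap : F1.ι pB * (y * F1.ι pA) * (F1.ι pB)⁻¹ = y * F1.ι (pA * pZ) ∧
      F1.ι pB * (y * F1.ι (pA * pZ)) * (F1.ι pB)⁻¹ = y * F1.ι pA := by
    have k : ∀ σ, F1.ι pB * (y * F1.ι σ) * (F1.ι pB)⁻¹ = y * F1.ι (pB * σ * pB⁻¹) := fun σ => by
      rw [← mul_assoc, ← (F1.comm pB).eq, map_mul, map_mul, map_inv]; group
    exact ⟨by rw [k, show pB * pA * pB⁻¹ = pA * pZ by decide +kernel],
      by rw [k, show pB * (pA * pZ) * pB⁻¹ = pA by decide +kernel]⟩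
  have hBH : F1.ι pB ∈ H := ((hsyl _).1 (F1.ι_mem_syl (mem_of_code (by decide +kernel)))).1
  have hne : y * F1.ι pA ≠ y * F1.ι (pA * pZ) := fun e =>
    absurd (F1.x_mul_inj e) (by decide +kernel)
  have horbu : orb H u = {y * F1.ι pA, y * F1.ι (pA * pZ)} := by
    refine Set.Subset.antisymm ?_ ?_
    · rintro v ⟨h, hh, rfl⟩
      refine hσ _ (hinv h hh u hu) fun hv => huO ?_
      rw [← orb_eq hv]
      exact ⟨h⁻¹, inv_mem hh, by group⟩
    · intro v hv
      rcases hσ u hu huO with e | e <;> subst e <;> rcases hv with rfl | rfl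
      · exact mem_orb_self _ _
      · exact ⟨_, hBH, hswap.1⟩
      · exact ⟨_, hBH, hswap.2⟩
      · exact mem_orb_self _ _
  have hu2 : (orb H u).ncard = 2 := by rw [horbu, Set.ncard_pair hne]
  refine ⟨hu2, (Set.eq_of_subset_of_ncard_le ?_ (le_of_eq ?_) (Set.toFinite _)).symm⟩
  swap
  · rw [quad_card hP hH hu.1 hu.2.1 hu2, quad_card hP hH hy hyH h2]
  obtain ⟨F2, -, -, hO2⟩ := frame_at hP hH hu.1 hu.2.1 hu2
  have hmem : ∀ v ∈ orb H u, v ∈ quad t H y := fun v ⟨h, hh, e⟩ => e ▸ hinv h hh u hu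
  have hthr : thr H y = thr H u :=
    Set.eq_of_subset_of_ncard_le (fun x hx => ⟨hx.1, fun v hv => ((hmem v hv).2.2.2 x hx).symm⟩)
      (by rw [thr_card hP hH F1 hO, thr_card hP hH F2 hO2]) (Set.toFinite _)
  intro v hv
  exact ⟨hv.1, hv.2.1, hcomm v hv u hu, fun x hx => hv.2.2.2 x (hthr ▸ hx)⟩

theorem four_dvd (nofix : ∀ y ∈ H, IsConj t y → ∃ h ∈ H, h * y * h⁻¹ ≠ y) :
    4 ∣ {y | IsConj t y ∧ y ∈ H}.ncard := by
  classical
  set P : Set G := {y | IsConj t y ∧ y ∈ H} with hPdef
  haveI : Fintype G := Fintype.ofFinite G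
  set f : G → Set G := fun y => if (orb H y).ncard = 2 then quad t H y else orb H y with hf
  have hfiber : ∀ y ∈ P, f y ⊆ P ∧ y ∈ f y ∧ (∀ u ∈ f y, f u = f y) ∧ 4 ∣ (f y).ncard := by
    intro y hy
    by_cases h2 : (orb H y).ncard = 2
    · obtain ⟨a, b⟩ := quad_spec hP hH hy.1 hy.2 h2
      have e : f y = quad t H y := if_pos h2
      rw [e]
      refine ⟨fun u hu => ⟨hu.1, hu.2.1⟩, a, fun u hu => ?_, by rw [quad_card hP hH hy.1 hy.2 h2]⟩
      rw [hf]; simp only
      rw [if_pos (b u hu).1, (b u hu).2]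
    · have e : f y = orb H y := if_neg h2
      rw [e]
      refine ⟨?_, mem_orb_self _ _, fun u hu => ?_, ?_⟩
      · rintro _ ⟨h, hh, rfl⟩
        exact ⟨hy.1.trans (isConj_iff.2 ⟨h, rfl⟩), mul_mem (mul_mem hh hy.2) (inv_mem hh)⟩
      · rw [hf]; simp only
        rw [orb_eq hu, if_neg h2]
      · have h1 := orb_card H y
        rw [hH] at h1
        obtain ⟨k, hk, e6⟩ := (Nat.dvd_prime_pow Nat.prime_two).1
          (show (orb H y).ncard ∣ 2 ^ 6 from ⟨_, h1.symm⟩)
        rw [e6]
        rcases Nat.lt_or_ge k 2 with hk2 | hk2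
        · exfalso
          interval_cases k
          · obtain ⟨a, ha⟩ := Set.ncard_eq_one.1 e6
            obtain ⟨h, hh, hne⟩ := nofix y hy.2 hy.1
            have m1 : h * y * h⁻¹ ∈ orb H y := ⟨h, hh, rfl⟩
            have m2 := mem_orb_self H y
            rw [ha, Set.mem_singleton_iff] at m1 m2
            exact hne (m1.trans m2.symm)
          · exact h2 e6
        · exact (pow_dvd_pow 2 hk2 : 2 ^ 2 ∣ 2 ^ k)
  rw [Set.ncard_eq_toFinset_card' P,
    Finset.card_eq_sum_card_image f P.toFinset]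
  refine Finset.dvd_sum fun b hb => ?_
  obtain ⟨y, hy, rfl⟩ := Finset.mem_image.1 hb
  obtain ⟨hsub, hself, hcst, hdvd⟩ := hfiber y (Set.mem_toFinset.1 hy)
  have e : (P.toFinset.filter fun u => f u = f y) = (f y).toFinset := by
    ext u
    simp only [Finset.mem_filter, Set.mem_toFinset]
    constructor
    · rintro ⟨hu, he⟩; exact he ▸ (hfiber u hu).2.1
    · intro hu; exact ⟨hsub hu, hcst u hu⟩
  rw [e, ← Set.ncard_eq_toFinset_card']
  exact hdvd

end Quad

/-- The pattern of type two gives a subgroup of index two. -/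
theorem index_two_of_patTwo {t : G} (F : Fr t) (hP : PatTwo F) :
    ∃ H : Subgroup G, H.index = 2 := by
  classical
  obtain ⟨g, hg, hgt, hback, -, hgg⟩ := exists_swap_z F hP.e
  have hgn : g ∉ F.syl := fun h => by
    have e := mem_centralizer_singleton_iff.1 (F.syl_le h)
    rw [e, mul_inv_cancel_right] at hgt
    exact absurd (F.inj ((mul_eq_left.1 hgt.symm).trans (map_one _).symm)) (by decide +kernel)
  have hgi : ∀ x ∈ F.syl, g⁻¹ * x * g ∈ F.syl := fun x hx => by
    simpa using hg.inv x hx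
  have key : ∀ a b : G, g⁻¹ * a ∈ F.syl → g⁻¹ * b ∈ F.syl → a * b ∈ F.syl := by
    intro a b ha hb
    have : a * b = g * (g⁻¹ * a) * g⁻¹ * (g * g) * (g⁻¹ * b) := by group
    rw [this]
    exact mul_mem (mul_mem (hg _ ha) hgg) hb
  let H : Subgroup G :=
    { carrier := {x | x ∈ F.syl ∨ g⁻¹ * x ∈ F.syl}
      one_mem' := Or.inl (one_mem _)
      mul_mem' := by
        rintro a b (ha | ha) (hb | hb)
        · exact Or.inl (mul_mem ha hb)
        · refine Or.inr ?_
          rw [show g⁻¹ * (a * b) = g⁻¹ * a * g * (g⁻¹ * b) by group]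
          exact mul_mem (hgi a ha) hb
        · exact Or.inr (by rw [← mul_assoc]; exact mul_mem ha hb)
        · exact Or.inl (key a b ha hb)
      inv_mem' := by
        rintro a (ha | ha)
        · exact Or.inl (inv_mem ha)
        · refine Or.inr ?_
          rw [show g⁻¹ * a⁻¹ = g⁻¹ * (g⁻¹ * a)⁻¹ * g * (g * g)⁻¹ by group]
          exact mul_mem (hgi _ (inv_mem ha)) (inv_mem hgg) }
  have hmem : ∀ x, x ∈ H ↔ x ∈ F.syl ∨ g⁻¹ * x ∈ F.syl := fun x => Iff.rfl
  have hdis : ∀ x, g⁻¹ * x ∈ F.syl → x ∉ F.syl := fun x hx h => hgn (by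
    have := mul_mem h (inv_mem hx)
    simpa using this)
  have hH : Nat.card H = 64 := by
    have e : (H : Set G) = (F.syl : Set G) ∪ (fun x => g * x) '' (F.syl : Set G) := by
      ext x
      simp only [SetLike.mem_coe, hmem, Set.mem_union, Set.mem_image]
      refine or_congr_right ⟨fun h => ⟨_, h, mul_inv_cancel_left _ _⟩, ?_⟩
      rintro ⟨s, hs, rfl⟩
      rwa [inv_mul_cancel_left]
    have hc : (F.syl : Set G).ncard = 32 := by rw [← Nat.card_coe_set_eq]; exact F.card_syl
    rw [show Nat.card H = (H : Set G).ncard from (Nat.card_coe_set_eq _).symm ▸ rfl, e,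
      Set.ncard_union_eq ?_ (Set.toFinite _) (Set.toFinite _),
      Set.ncard_image_of_injective _ (mul_right_injective g), hc]
    rw [Set.disjoint_right]
    rintro _ ⟨s, hs, rfl⟩
    exact hdis _ (by rwa [inv_mul_cancel_left])
  let χ : H →* ℤˣ := MonoidHom.mk' (fun x => if (x : G) ∈ F.syl then 1 else -1) (by
    rintro ⟨a, ha | ha⟩ ⟨b, hb | hb⟩
    · simp [ha, hb, mul_mem ha hb]
    · have hb' := hdis b hb
      have : a * b ∉ F.syl := fun h => hb' (by simpa using mul_mem (inv_mem ha) h)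
      simp [ha, hb', this]
    · have ha' := hdis a ha
      have : a * b ∉ F.syl := fun h => ha' (by simpa using mul_mem h (inv_mem hb))
      simp [hb, ha', this]
    · simp [hdis a ha, hdis b hb, key a b ha hb])
  have hχ : ∀ y (hy : y ∈ H), χ ⟨y, hy⟩ = -1 ↔ y ∉ F.syl := by
    intro y hy
    show (if y ∈ F.syl then (1 : ℤˣ) else -1) = -1 ↔ _
    by_cases h : y ∈ F.syl <;> simp [h]
  have e : negConj χ t = {y | IsConj t y ∧ y ∈ H} \ {y | IsConj t y ∧ y ∈ F.syl} := by
    ext y
    simp only [negConj, Set.mem_ofPred_eq, Set.mem_sdiff]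
    constructor
    · rintro ⟨h1, hy, h2⟩; exact ⟨⟨h1, hy⟩, fun h => (hχ y hy).1 h2 h.2⟩
    · rintro ⟨⟨h1, hy⟩, h2⟩; exact ⟨h1, hy, (hχ y hy).2 fun h => h2 ⟨h1, h⟩⟩
  have nofix : ∀ y ∈ H, IsConj t y → ∃ h ∈ H, h * y * h⁻¹ ≠ y := by
    intro y _ hy
    by_contra hcon
    push Not at hcon
    have hq : Cen F y := ⟨hy, fun s hs =>
      (mul_inv_eq_iff_eq_mul.1 (hcon s ((hmem s).2 (Or.inl hs)))).symm⟩
    have hgy := hcon g ((hmem g).2 (Or.inr (by rw [inv_mul_cancel]; exact one_mem _)))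
    rcases two_cen hP hq with rfl | rfl
    · exact absurd (F.inj ((mul_eq_left.1 (hgt.symm.trans hgy)).trans (map_one _).symm))
        (by decide +kernel)
    · exact absurd (F.inj ((mul_eq_left.1 (hback.symm.trans hgy).symm).trans (map_one _).symm))
        (by decide +kernel)
  obtain ⟨k, hk⟩ := four_dvd hP hH nofix
  have hN : Nat.card (negConj χ t) + 6 = 4 * k := by
    rw [Nat.card_coe_set_eq, e, ← card_members hP, ← hk]
    exact Set.ncard_sdiff_add_ncard_of_subset (fun y hy => ⟨hy.1, (hmem y).2 (Or.inl hy.2)⟩)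
      (Set.toFinite _)
  obtain ⟨j, rfl⟩ : ∃ j, k = j + 2 := ⟨k - 2, by omega⟩
  refine index_two_of_count χ t (by rw [sq]; exact F.sq) (M := 315 * (2 * j + 1))
    (Odd.mul (by decide) ⟨j, rfl⟩) ?_
  rw [F.card_centralizer, hH, show Nat.card (negConj χ t) = 2 * (2 * j + 1) by omega]
  ring

end Cfsg.Agent.SevenInv
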