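import Cfsg.Agent.Lib.SevenInv.NoTwist

/-!
Involutions exchanging `t` and `t τ` that centralise the centraliser of the transposition `τ`.
-/

set_option autoImplicit false
set_option linter.unusedSectionVars false
set_option maxRecDepth 100000

namespace Cfsg.Agent.SevenInv

open Subgroup Equiv

/-- The permutation used to shift the three transpositions cyclically. -/
def kCyc : S7 := swap 0 2 * swap 2 4 * (swap 1 3 * swap 3 5)

theorem five_w_ne (τ : Perm (Fin 5)) : five τ ≠ pW := by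
  intro h
  have h4 := congrFun (congrArg DFunLike.coe h) 4
  rw [(five_four τ).1] at h4
  exact absurd h4 (by decide)

theorem isConj_five {τ : Perm (Fin 5)} (h : IsConj (swap 0 1) τ) : IsConj pW (five τ) :=
  (isConj_wb.trans (show IsConj pB (five (swap 0 1)) by
    rw [show five (swap 0 1) = pB by decide +kernel])).trans (five.map_isConj h)

variable {G : Type*} [Group G] [Finite G]

/-- An involution exchanging `t` and `t τ` and centralising the centraliser of `τ`. -/
structure Swap {t : G} (F : Fr t) (τ : S7) (h : G) : Prop where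
  sq : h * h = 1
  move : h * t * h = t * F.ι τ
  comm : ∀ σ : S7, σ * τ = τ * σ → h * F.ι σ = F.ι σ * h

section

variable {t : G} {F : Fr t}

theorem Swap.conj {τ : S7} {h : G} (H : Swap F τ h) (k : S7) :
    Swap F (k * τ * k⁻¹) (F.ι k * h * (F.ι k)⁻¹) := by
  refine ⟨?_, ?_, fun σ hσ => ?_⟩
  · rw [show F.ι k * h * (F.ι k)⁻¹ * (F.ι k * h * (F.ι k)⁻¹) = F.ι k * (h * h) * (F.ι k)⁻¹ by group,
      H.sq]
    group
  · calc F.ι k * h * (F.ι k)⁻¹ * t * (F.ι k * h * (F.ι k)⁻¹)
        = F.ι k * (h * ((F.ι k)⁻¹ * (t * F.ι k)) * h) * (F.ι k)⁻¹ := by group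
      _ = F.ι k * (t * F.ι τ) * (F.ι k)⁻¹ := by rw [(F.comm k).eq, inv_mul_cancel_left, H.move]
      _ = t * F.ι (k * τ * k⁻¹) := conj_mul_ι F k τ
  · have h1 : k⁻¹ * σ * k * τ = τ * (k⁻¹ * σ * k) := by
      calc k⁻¹ * σ * k * τ = k⁻¹ * (σ * (k * τ * k⁻¹)) * k := by group
        _ = k⁻¹ * (k * τ * k⁻¹ * σ) * k := by rw [hσ]
        _ = τ * (k⁻¹ * σ * k) := by group
    have h2 := H.comm _ h1
    rw [map_mul, map_mul, map_inv] at h2
    calc F.ι k * h * (F.ι k)⁻¹ * F.ι σ = F.ι k * (h * ((F.ι k)⁻¹ * F.ι σ * F.ι k)) * (F.ι k)⁻¹ := by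
          group
      _ = F.ι k * ((F.ι k)⁻¹ * F.ι σ * F.ι k * h) * (F.ι k)⁻¹ := by rw [h2]
      _ = F.ι σ * (F.ι k * h * (F.ι k)⁻¹) := by group

theorem Swap.comm_self {τ : S7} {h : G} (H : Swap F τ h) : h * F.ι τ = F.ι τ * h := H.comm τ rfl

theorem Swap.back {h : G} (H : Swap F pW h) : h * (t * F.ι pW) * h = t := by
  rw [← H.move, show h * (h * t * h) * h = h * h * t * (h * h) by group, H.sq, one_mul, mul_one]

theorem Swap.move' {τ : S7} {h : G} (H : Swap F τ h) {σ : S7} (hσ : σ * τ = τ * σ) :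
    h * (t * F.ι σ) * h = t * F.ι (τ * σ) := by
  calc h * (t * F.ι σ) * h = h * t * (F.ι σ * h) := by group
    _ = h * t * h * F.ι σ := by rw [← H.comm σ hσ]; group
    _ = t * F.ι (τ * σ) := by rw [H.move, map_mul, mul_assoc]

/-- What commutes with `t` and with the centraliser of `pW`. -/
theorem central_pair {u : G} (ht : u * t = t * u)
    (hc : ∀ σ : S7, σ * pW = pW * σ → u * F.ι σ = F.ι σ * u) :
    u = 1 ∨ u = t ∨ u = F.ι pW ∨ u = t * F.ι pW := by
  obtain ⟨σ, e⟩ := F.surj u ht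
  have hσc : ∀ τ : S7, τ * pW = pW * τ → σ * τ = τ * σ := by
    intro τ hτ
    have h := hc τ hτ
    rcases e with e | e <;> rw [e] at h
    · exact F.inj (by rw [map_mul, map_mul, h])
    · refine F.inj ?_
      rw [mul_assoc, ← mul_assoc (F.ι τ), ← (F.comm τ).eq, mul_assoc] at h
      rw [map_mul, map_mul, mul_left_cancel h]
  have hσz : σ * pZ = pZ * σ := hσc pZ (by decide +kernel)
  have key : (czList.all fun s =>
      ([pB, pC, swap 1 2, swap 3 6].any fun τ => code (s * τ) != code (τ * s)) ||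
      code s == code 1 || code s == code pW) = true := by decide +kernel
  have h1 := List.all_eq_true.1 key σ (mem_czList hσz)
  simp only [Bool.or_eq_true, List.any_eq_true, bne_iff_ne, beq_iff_eq] at h1
  rcases h1 with (⟨τ, hτ, hne⟩ | h1) | h1
  · refine absurd (congrArg code (hσc τ ?_)) hne
    simp only [List.mem_cons, List.not_mem_nil, or_false] at hτ
    rcases hτ with rfl | rfl | rfl | rfl <;> decide +kernel
  · rcases e with e | e <;> rw [code_injective h1, map_one] at e
    · exact Or.inl e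
    · exact Or.inr (Or.inl (by rw [e, mul_one]))
  · rcases e with e | e <;> rw [code_injective h1] at e
    · exact Or.inr (Or.inr (Or.inl e))
    · exact Or.inr (Or.inr (Or.inr e))

theorem Swap.unique_w {h h' : G} (H : Swap F pW h) (H' : Swap F pW h') :
    h' = h ∨ h' = h * F.ι pW := by
  have hti : ∀ {g : G}, g * g = 1 → g⁻¹ = g := fun e => inv_eq_of_mul_eq_one_left e
  have hu : h * h' * t = t * (h * h') := by
    calc h * h' * t = h * (h' * t * h') * (h'⁻¹) := by group
      _ = h * (t * F.ι pW) * h * (h⁻¹ * h'⁻¹) := by rw [H'.move]; group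
      _ = t * (h * h') := by rw [H.back, hti H.sq, hti H'.sq]
  have hc : ∀ σ : S7, σ * pW = pW * σ → h * h' * F.ι σ = F.ι σ * (h * h') := fun σ hσ => by
    rw [mul_assoc, H'.comm σ hσ, ← mul_assoc, H.comm σ hσ, mul_assoc]
  have e : h' = h * (h * h') := by rw [← mul_assoc, H.sq, one_mul]
  have hw : F.ι pW ≠ 1 := fun e =>
    absurd (F.inj (e.trans (map_one _).symm)) (by decide +kernel)
  rcases central_pair hu hc with c | c | c | c <;> rw [c] at e
  · exact Or.inl (by rw [e, mul_one])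
  · exfalso
    have h2 := H'.sq
    rw [e, ← mul_assoc, H.move, mul_assoc, (F.comm pW).symm.eq, ← mul_assoc, F.sq, one_mul] at h2
    exact hw h2
  · exact Or.inr e
  · exfalso
    have h2 := H'.sq
    rw [e, ← mul_assoc, H.back, ← mul_assoc, F.sq, one_mul] at h2
    exact hw h2

theorem Swap.unique {τ : S7} (hτ : IsConj pW τ) {h h' : G} (H : Swap F τ h) (H' : Swap F τ h') :
    h' = h ∨ h' = h * F.ι τ := by
  obtain ⟨k, rfl⟩ := isConj_iff.1 hτ
  have e : k⁻¹ * (k * pW * k⁻¹) * k⁻¹⁻¹ = pW := by group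
  have H1 := H.conj k⁻¹
  have H1' := H'.conj k⁻¹
  rw [e] at H1 H1'
  have hk : F.ι k⁻¹ = (F.ι k)⁻¹ := map_inv F.ι k
  rcases H1.unique_w H1' with c | c <;> rw [hk, inv_inv] at c
  · refine Or.inl ?_
    calc h' = F.ι k * ((F.ι k)⁻¹ * h' * F.ι k) * (F.ι k)⁻¹ := by group
      _ = h := by rw [c]; group
  · refine Or.inr ?_
    calc h' = F.ι k * ((F.ι k)⁻¹ * h' * F.ι k) * (F.ι k)⁻¹ := by group
      _ = h * F.ι (k * pW * k⁻¹) := by rw [c, map_mul, map_mul, map_inv]; group

theorem exists_swap (hP : PatFour F) : ∃ h, Swap F pW h := by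
  obtain ⟨g, hg1, hg2⟩ := exists_swap_w hP
  have htt : ∀ x : G, t * (t * x) = x := fun x => by rw [← mul_assoc, F.sq, one_mul]
  have hgw : g * F.ι pW * g⁻¹ = F.ι pW := by
    calc g * F.ι pW * g⁻¹ = g * (t * (t * F.ι pW)) * g⁻¹ := by rw [htt]
      _ = g * t * g⁻¹ * (g * (t * F.ι pW) * g⁻¹) := by group
      _ = F.ι pW := by rw [hg1, hg2, mul_assoc, (F.comm pW).symm.eq, htt]
  let ψ : Perm (Fin 5) →* G := (MulAut.conj g).toMonoidHom.comp (F.ι.comp five)
  have hψ : ∀ σ, ψ σ = g * F.ι (five σ) * g⁻¹ := fun σ => rfl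
  obtain ⟨k, hk⟩ := five_hom (t := t) F ψ (fun σ => four_mul hP)
    (fun σ => by
      have e : F.ι (five σ) * (t * F.ι pW) = t * F.ι pW * F.ι (five σ) := by
        rw [← mul_assoc, ← (F.comm _).eq, mul_assoc, ← map_mul, five_comm, map_mul, mul_assoc]
      exact (congrArg (Commute (ψ σ)) hg2).mp (Commute.map e (MulAut.conj g).toMonoidHom))
    (fun σ => by
      have e : F.ι (five σ) * F.ι pW = F.ι pW * F.ι (five σ) := by
        rw [← map_mul, five_comm, map_mul]
      exact (congrArg (Commute (ψ σ)) hgw).mp (Commute.map e (MulAut.conj g).toMonoidHom))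
    (fun σ hσ => by
      have inj : ∀ {a : G}, ψ σ = g * a * g⁻¹ → F.ι (five σ) = a := fun e =>
        mul_left_cancel (mul_right_cancel e)
      simp only [List.mem_cons, List.not_mem_nil, or_false] at hσ
      rcases hσ with c | c | c | c
      · have := inj (a := 1) (by rw [c]; group)
        exact five_injective (F.inj (this.trans (map_one _).symm) |>.trans (map_one _).symm)
      · exact absurd (inj (c.trans hg2.symm)).symm (F.x_mul_ne _ _)
      · exact absurd (F.inj (inj (c.trans hgw.symm))) (five_w_ne σ)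
      · exact absurd (inj (c.trans hg1.symm)) (F.notmem _))
    (fun σ _ hD => four_ι hP (five σ) (hD.trans (isConj_iff.2 ⟨g, rfl⟩).symm))
  set h1 := (F.ι (five k))⁻¹ * g with hh1
  have hkt : (F.ι (five k))⁻¹ * t * F.ι (five k) = t := by
    rw [mul_assoc, (F.comm _).eq, inv_mul_cancel_left]
  have hkw : (F.ι (five k))⁻¹ * F.ι pW * F.ι (five k) = F.ι pW := by
    rw [mul_assoc, ← map_mul, ← five_comm, map_mul, inv_mul_cancel_left]
  have ht1 : h1 * t * h1⁻¹ = t * F.ι pW := by
    calc h1 * t * h1⁻¹ = (F.ι (five k))⁻¹ * (g * t * g⁻¹) * F.ι (five k) := by rw [hh1]; group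
      _ = (F.ι (five k))⁻¹ * t * F.ι (five k) * ((F.ι (five k))⁻¹ * F.ι pW * F.ι (five k)) := by
          rw [hg1]; group
      _ = _ := by rw [hkt, hkw]
  rcases hk with hk | hk
  swap
  · -- the twisted case
    exfalso
    have hb : five (swap 0 1) = pB := by decide +kernel
    have hb1 : h1 * (t * F.ι pB) * h1⁻¹ = t * F.ι pB := by
      calc h1 * (t * F.ι pB) * h1⁻¹ = h1 * t * h1⁻¹ * ((F.ι (five k))⁻¹ * ψ (swap 0 1) * F.ι (five k)) := by
            rw [hψ, hb, hh1]; group
        _ = t * F.ι pB := by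
          rw [ht1, hk, Perm.sign_swap (by decide), pairW_neg, mul_assoc t, ← map_inv, ← map_mul,
            ← map_mul, ← map_mul, map_mul five, map_mul five, map_inv five, hb]
          congr 2
          have h2 : pW * (five k)⁻¹ = (five k)⁻¹ * pW := (Commute.inv_right (five_comm k).symm).eq
          calc pW * ((five k)⁻¹ * (pW * (five k * pB * (five k)⁻¹)) * five k)
              = pW * (five k)⁻¹ * (pW * five k) * pB := by group
            _ = (five k)⁻¹ * (pW * pW) * five k * pB := by rw [h2]; group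
            _ = pB := by rw [show pW * pW = 1 from swap_mul_self _ _]; group
    have hA : Adj t (t * F.ι pB) := (adj_mul_iff F (swap_mul_self _ _)).2 isConj_wb
    have hA' := hA.conj h1
    rw [ht1, hb1] at hA'
    exact not_adj_wb hP hA'
  have hh1c : ∀ σ : S7, σ * pW = pW * σ → h1 * F.ι σ = F.ι σ * h1 := by
    intro σ hσ
    obtain ⟨⟨u, τ⟩, rfl⟩ := pairW_surj hσ
    have h5 : h1 * F.ι (five τ) = F.ι (five τ) * h1 := by
      refine mul_inv_eq_iff_eq_mul.1 ?_
      calc h1 * F.ι (five τ) * h1⁻¹ = (F.ι (five k))⁻¹ * ψ τ * F.ι (five k) := by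
            rw [hψ, hh1]; group
        _ = F.ι (five τ) := by
          rw [hk, map_mul five, map_mul five, map_inv five, map_mul, map_mul, map_inv]; group
    have hw : h1 * F.ι pW = F.ι pW * h1 := by
      refine mul_inv_eq_iff_eq_mul.1 ?_
      calc h1 * F.ι pW * h1⁻¹ = (F.ι (five k))⁻¹ * (g * F.ι pW * g⁻¹) * F.ι (five k) := by
            rw [hh1]; group
        _ = F.ι pW := by rw [hgw, hkw]
    rcases Int.units_eq_one_or u with rfl | rfl
    · rw [pairW_one]; exact h5
    · rw [pairW_neg, map_mul]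
      exact ((show Commute h1 (F.ι pW) from hw).mul_right h5).eq
  have ht1' : h1 * (t * F.ι pW) * h1⁻¹ = t := by
    calc h1 * (t * F.ι pW) * h1⁻¹ = h1 * t * h1⁻¹ * (h1 * F.ι pW * h1⁻¹) := by group
      _ = t := by
        rw [ht1, hh1c pW rfl, mul_inv_cancel_right, mul_assoc, ← map_mul,
          show pW * pW = 1 from swap_mul_self _ _, map_one, mul_one]
  have hsq : h1 * h1 = 1 ∨ h1 * h1 = F.ι pW := by
    have hu : h1 * h1 * t = t * (h1 * h1) := by
      refine mul_inv_eq_iff_eq_mul.1 ?_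
      calc h1 * h1 * t * (h1 * h1)⁻¹ = h1 * (h1 * t * h1⁻¹) * h1⁻¹ := by group
        _ = t := by rw [ht1, ht1']
    rcases central_pair hu (fun σ hσ => by
      rw [mul_assoc, hh1c σ hσ, ← mul_assoc, hh1c σ hσ, mul_assoc]) with c | c | c | c
    · exact Or.inl c
    · exact absurd c (not_square F h1)
    · exact Or.inr c
    · exfalso
      obtain ⟨γ, hγ⟩ := isConj_iff.1 hP.b
      refine not_square F (γ⁻¹ * h1 * γ) ?_
      calc γ⁻¹ * h1 * γ * (γ⁻¹ * h1 * γ) = γ⁻¹ * (h1 * h1) * γ := by group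
        _ = γ⁻¹ * (γ * t * γ⁻¹) * γ := by rw [c, hγ]
        _ = t := by group
  rcases hsq with c | c
  · refine ⟨h1, c, ?_, hh1c⟩
    rw [← ht1, inv_eq_of_mul_eq_one_left c]
  · refine ⟨h1 * t, ?_, ?_, fun σ hσ => ?_⟩
    · calc h1 * t * (h1 * t) = h1 * t * h1⁻¹ * (h1 * h1) * t := by group
        _ = 1 := by
          rw [ht1, c, mul_assoc t, ← map_mul, show pW * pW = 1 from swap_mul_self _ _, map_one,
            mul_one, F.sq]
    · calc h1 * t * t * (h1 * t) = h1 * (t * t) * h1 * t := by group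
        _ = t * F.ι pW := by rw [F.sq, mul_one, c, (F.comm pW).eq]
    · rw [mul_assoc, (F.comm σ).eq, ← mul_assoc, hh1c σ hσ, mul_assoc]

end

end Cfsg.Agent.SevenInv
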